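import Cfsg.Agent.Lib.Perm.Quad.SL2Count

/-!
# A split torus and a unipotent element fixing neither of its points generate `SL₂`
-/

set_option autoImplicit false

open Matrix CfsgLib.Perm.Quad.SL2 CfsgLib.Perm.Quad.SL2Count

namespace CfsgLib.SLPres

variable {K : Type*} [Field K] [Fintype K] {H : Subgroup (SL K)}

/-- The diagonal element. -/
def dg (s : K) (hs : s ≠ 0) : SL K := ⟨!![s, 0; 0, s⁻¹], by simp [Matrix.det_fin_two, hs]⟩

omit [Fintype K] in
theorem dg_val (s : K) (hs : s ≠ 0) : (dg s hs).1 = !![s, 0; 0, s⁻¹] := rfl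

/-- The finite fixed points of the unipotent elements of a subgroup. -/
def FixPts (H : Subgroup (SL K)) (z : K) : Prop :=
  ∃ g ∈ H, tr g = 2 ∧ g.1 1 0 ≠ 0 ∧ g.1 0 0 - 1 = z * g.1 1 0

variable (hT : ∀ s (hs : (s : K) ≠ 0), dg s hs ∈ H)
include hT

omit [Fintype K] in
theorem fix_sq {z : K} (hz : FixPts H z) {s : K} (hs : s ≠ 0) : FixPts H (s ^ 2 * z) := by
  obtain ⟨g, hg, htr, h10, hz⟩ := hz
  refine ⟨dg s hs * g * (dg s hs)⁻¹, mul_mem (mul_mem (hT s hs) hg) (inv_mem (hT s hs)), ?_, ?_, ?_⟩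
  · rw [tr_conj, htr]
  · simp [mul_apply2, dg_val, Matrix.SpecialLinearGroup.coe_inv, Matrix.adjugate_fin_two, hs, h10]
  · simp [mul_apply2, dg_val, Matrix.SpecialLinearGroup.coe_inv, Matrix.adjugate_fin_two]
    field_simp
    linear_combination hz

/-- An element sending the first point to a fixed point of a unipotent element conjugates it into the upper group. -/
theorem up_mem_of_point {z : K} (hz : FixPts H z) (hp : z ∈ points H) : ∃ r, r ≠ 0 ∧ up r ∈ H := by
  classical
  obtain ⟨g, hg, rfl⟩ := Finset.mem_image.mp hp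
  obtain ⟨hgH, hg10⟩ := Finset.mem_filter.mp hg
  rw [mem_elems] at hgH
  obtain ⟨u, hu, htr, hu10, hz⟩ := hz
  have hd := det2 g
  set y := g⁻¹ * u * g
  have hyH : y ∈ H := mul_mem (mul_mem (inv_mem hgH) hu) hgH
  rw [div_mul_eq_mul_div, eq_div_iff hg10] at hz
  rw [tr] at htr
  have h1 : y.1 1 0 = 0 := by
    simp only [y, mul_apply2, Matrix.SpecialLinearGroup.coe_inv, Matrix.adjugate_fin_two]
    simp
    have hdu := det2 u
    apply mul_left_cancel₀ hu10
    linear_combination g.1 1 0 ^ 2 * hdu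
      + (g.1 0 0 * g.1 1 0 * u.1 1 0 - g.1 1 0 ^ 2 * u.1 0 0) * htr
      + (g.1 1 0 * (u.1 0 0 - 1) - g.1 0 0 * u.1 1 0) * hz
  have htr' : tr y = 2 := by
    have := tr_conj g⁻¹ u
    rw [inv_inv] at this
    rw [this, tr, htr]
  have hy00 : y.1 0 0 = 1 := by
    have h2 := diag_det h1
    rw [tr] at htr'
    have h3 : (y.1 0 0 - 1) ^ 2 = 0 := by linear_combination y.1 0 0 * htr' - h2
    exact sub_eq_zero.1 (pow_eq_zero_iff two_ne_zero |>.1 h3)
  have hy : y = up (y.1 0 1) := by
    rw [tr] at htr'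
    apply ext2 <;> simp [up_val, h1, hy00]
    linear_combination htr' - hy00
  refine ⟨y.1 0 1, fun h0 => ?_, hy ▸ hyH⟩
  have e : y = 1 := by rw [hy, h0, up_zero]
  have : u = 1 := by
    calc u = g * y * g⁻¹ := by simp only [y, mul_assoc, mul_inv_cancel_left, mul_inv_cancel, mul_one]
      _ = 1 := by rw [e, mul_one, mul_inv_cancel]
  rw [this] at hu10
  simp at hu10

omit hT in
theorem exists_sq_sub (x : K) : ∃ a b : K, x = a ^ 2 - b ^ 2 := by
  by_cases h2 : (2 : K) = 0
  · have hc : ringChar K = 2 := by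
      refine CharP.ringChar_of_prime_eq_zero Nat.prime_two (by exact_mod_cast h2)
    obtain ⟨a, ha⟩ := FiniteField.isSquare_of_char_two hc x
    exact ⟨a, 0, by rw [ha]; ring⟩
  · exact ⟨(x + 1) / 2, (x - 1) / 2, by field_simp; ring⟩

theorem ups_all {r : K} (hr : r ≠ 0) (h : up r ∈ H) (x : K) : up x ∈ H := by
  have hsq : ∀ a : K, up (a ^ 2 * r) ∈ H := fun a => by
    by_cases ha : a = 0
    · rw [ha, zero_pow two_ne_zero, zero_mul, up_zero]; exact one_mem H
    · have e : dg a ha * up r * (dg a ha)⁻¹ = up (a ^ 2 * r) := by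
        rw [mul_inv_eq_iff_eq_mul]
        apply ext2 <;> simp [mul_apply2, up_val, dg_val]
        field_simp
      exact e ▸ mul_mem (mul_mem (hT a ha) h) (inv_mem (hT a ha))
  obtain ⟨a, b, hab⟩ := exists_sq_sub (x / r)
  have := mul_mem (hsq a) (inv_mem (hsq b))
  rw [up_inv, up_add, ← sub_eq_add_neg, ← sub_mul, ← hab, div_mul_cancel₀ _ hr] at this
  exact this

theorem low_all {r : K} (hr : r ≠ 0) (h : low r ∈ H) (x : K) : low x ∈ H := by
  have hsq : ∀ a : K, low (a ^ 2 * r) ∈ H := fun a => by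
    by_cases ha : a = 0
    · rw [ha, zero_pow two_ne_zero, zero_mul, low_zero]; exact one_mem H
    · have e : (dg a ha)⁻¹ * low r * dg a ha = low (a ^ 2 * r) := by
        rw [mul_assoc, inv_mul_eq_iff_eq_mul]
        apply ext2 <;> simp [mul_apply2, low_val, dg_val]
        field_simp
      exact e ▸ mul_mem (mul_mem (inv_mem (hT a ha)) h) (hT a ha)
  obtain ⟨a, b, hab⟩ := exists_sq_sub (x / r)
  have := mul_mem (hsq a) (inv_mem (hsq b))
  rw [low_inv, low_add, ← sub_eq_add_neg, ← sub_mul, ← hab, div_mul_cancel₀ _ hr] at this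
  exact this

/-- The main counting argument. -/
theorem exists_up_of_torus (h5 : 5 ≤ Fintype.card K) (h9 : Fintype.card K ≠ 9) {N : SL K} (hN : N ∈ H)
    (htr : tr N = 2) (h10 : N.1 1 0 ≠ 0) (h01 : N.1 0 1 ≠ 0) (h00 : N.1 0 0 ≠ 0) :
    ∃ r, r ≠ 0 ∧ up r ∈ H := by
  classical
  by_contra hnone
  push Not at hnone
  set z₀ := (N.1 0 0 - 1) / N.1 1 0
  have hz₀ : FixPts H z₀ := ⟨N, hN, htr, h10, by simp only [z₀]; field_simp⟩
  have hz₀0 : z₀ ≠ 0 := by
    refine div_ne_zero (fun e => ?_) h10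
    have hd := det2 N
    rw [tr] at htr
    have : N.1 0 1 * N.1 1 0 = 0 := by linear_combination N.1 0 0 * htr - hd - (N.1 0 0 - 1) * e
    rcases mul_eq_zero.1 this with h | h
    · exact h01 h
    · exact h10 h
  set z₁ := N.1 0 0 / N.1 1 0
  have hz₁0 : z₁ ≠ 0 := div_ne_zero h00 h10
  have hdisj : ∀ z, FixPts H z → z ∉ points H := fun z hz hp => by
    obtain ⟨r, hr, h⟩ := up_mem_of_point hT hz hp
    exact hnone r hr h
  have hpt : ∀ s : K, s ≠ 0 → s ^ 2 * z₁ ∈ points H := fun s hs =>
    Finset.mem_image.mpr ⟨dg s hs * N, Finset.mem_filter.mpr ⟨mem_elems.mpr (mul_mem (hT s hs) hN),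
      by simp [mul_apply2, dg_val, hs, h10]⟩, by simp [mul_apply2, dg_val, z₁]; field_simp⟩
  have hne : ¬ IsSquare (z₁ / z₀) := by
    rintro ⟨s, hs⟩
    have hs0 : s ≠ 0 := fun e => div_ne_zero hz₁0 hz₀0 (by rw [hs, e, mul_zero])
    refine hdisj z₁ ?_ (by simpa using hpt 1 one_ne_zero)
    have := fix_sq hT hz₀ hs0
    rwa [pow_two, ← hs, div_mul_cancel₀ _ hz₀0] at this
  have h2 : (2 : K) ≠ 0 := fun h => hne (FiniteField.isSquare_of_char_two
    (CharP.ringChar_of_prime_eq_zero Nat.prime_two (by exact_mod_cast h)) _)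
  -- no lower unipotent elements
  have hlow : ∀ r, low r ∈ H → r = 0 := fun r hr => by
    by_contra h0
    have hl := low_all hT h0 hr
    refine hdisj z₀ hz₀ ?_
    exact Finset.mem_image.mpr ⟨low z₀⁻¹, Finset.mem_filter.mpr ⟨mem_elems.mpr (hl _),
      by simp [low_val, hz₀0]⟩, by simp [low_val]⟩
  let S : Finset K := (Finset.univ.filter fun s : K => s ≠ 0).image fun s => s ^ 2
  have hS0 : (0 : K) ∉ S := by
    simp [S]
  have hScard : S.card * 2 = Fintype.card K - 1 := by
    have h := card_fibres (Finset.univ.filter fun s : K => s ≠ 0) (fun s => s ^ 2) 2 ?_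
    · rw [Finset.filter_ne', Finset.card_erase_of_mem (Finset.mem_univ _), Finset.card_univ] at h
      rw [h]
      simp [S, Finset.filter_ne']
    intro u hu
    simp only [Finset.mem_filter, Finset.mem_univ, true_and] at hu
    rw [show ((Finset.univ.filter fun s : K => s ≠ 0).filter fun u' => u' ^ 2 = u ^ 2) = {u, -u} from ?_,
      Finset.card_pair]
    · intro e
      have : (2 : K) * u = 0 := by linear_combination e
      exact hu ((mul_eq_zero.mp this).resolve_left h2)
    · ext u'
      simp only [Finset.mem_filter, Finset.mem_univ, true_and, Finset.mem_insert, Finset.mem_singleton]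
      exact ⟨fun h => sq_eq_sq_iff_eq_or_eq_neg.mp h.2, by rintro (rfl | rfl) <;> simp [hu]⟩
  set C := S.image (· * z₀)
  set C' := S.image (· * z₁)
  have hCcard : C.card = S.card := Finset.card_image_of_injective _ (mul_left_injective₀ hz₀0)
  have hC'card : C'.card = S.card := Finset.card_image_of_injective _ (mul_left_injective₀ hz₁0)
  have hC : ∀ z ∈ C, FixPts H z := by
    intro z hz
    obtain ⟨_, hw, rfl⟩ := Finset.mem_image.mp hz
    obtain ⟨s, hs, rfl⟩ := Finset.mem_image.mp hw
    exact fix_sq hT hz₀ (Finset.mem_filter.mp hs).2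
  have hC' : C' ⊆ points H := by
    intro z hz
    obtain ⟨_, hw, rfl⟩ := Finset.mem_image.mp hz
    obtain ⟨s, hs, rfl⟩ := Finset.mem_image.mp hw
    exact hpt s (Finset.mem_filter.mp hs).2
  have hCC' : Disjoint C C' := Finset.disjoint_left.2 fun z hz hz' => hdisj z (hC z hz) (hC' hz')
  have h0C : (0 : K) ∉ C ∪ C' := by
    simp [C, C', hz₀0, hz₁0, S]
  have hcover : ∀ z : K, z ≠ 0 → z ∈ C ∨ z ∈ C' := by
    have : insert (0 : K) (C ∪ C') = Finset.univ := by
      refine Finset.eq_univ_of_card _ ?_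
      rw [Finset.card_insert_of_notMem h0C, Finset.card_union_of_disjoint hCC', hCcard, hC'card]
      omega
    intro z hz
    have hm : z ∈ insert (0 : K) (C ∪ C') := this ▸ Finset.mem_univ z
    simp only [Finset.mem_insert, Finset.mem_union] at hm
    tauto
  -- the points are one class, possibly with zero
  have hpts : points H ⊆ insert 0 C' := by
    intro z hz
    by_cases h0 : z = 0
    · simp [h0]
    · exact Finset.mem_insert_of_mem ((hcover z h0).resolve_left fun h => hdisj z (hC z h) hz)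
  have hborel : (borel H).card = Fintype.card K - 1 := by
    rw [card_borel]
    have hu : ups H = {0} := by
      ext r
      rw [mem_ups, Finset.mem_singleton]
      exact ⟨fun h => by by_contra h0; exact hnone r h0 h, by rintro rfl; rw [up_zero]; exact one_mem H⟩
    have hd : diags H = Finset.univ.filter fun s : K => s ≠ 0 := by
      ext s
      simp only [Finset.mem_filter, Finset.mem_univ, true_and]
      exact ⟨diag_ne_zero, fun hs => mem_diags.mpr ⟨dg s hs, hT s hs, by simp [dg_val], by simp [dg_val]⟩⟩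
    rw [hu, hd, Finset.card_singleton, mul_one, Finset.filter_ne', Finset.card_erase_of_mem (Finset.mem_univ _),
      Finset.card_univ]
  obtain ⟨p, hcp⟩ := CharP.exists K
  haveI : Fact p.Prime := ⟨CharP.char_is_prime K p⟩
  obtain ⟨n, hn0, hn⟩ := FiniteField.card K p
  have hp2 : p ≠ 2 := by
    rintro rfl
    exact h2 (by exact_mod_cast CharP.cast_eq_zero K 2)
  -- the order of the unipotent element divides the order of the group
  have hpH : p ∣ Nat.card H := by
    have hNp : N ^ p = 1 := pow_char_eq_one p (by rw [← htr]; rfl)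
    have hN1 : N ≠ 1 := fun e => h10 (by simp [e])
    have : orderOf (⟨N, hN⟩ : H) = p := by
      refine orderOf_eq_prime (Subtype.ext (by simpa using hNp)) fun e => hN1 (congrArg Subtype.val e)
    exact this ▸ orderOf_dvd_natCard _
  have hH : Nat.card H = ((points H).card + 1) * (Fintype.card K - 1) := by
    rw [← card_elems, card_elems_eq, hborel]
  have hS : Fintype.card K = 2 * S.card + 1 := by omega
  have hpq : p ∣ Fintype.card K := by rw [hn]; exact dvd_pow_self p n.ne_zero
  have hnd : ¬ p ∣ S.card := fun h => by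
    have h3 : p ∣ 2 * S.card + 1 := hS ▸ hpq
    exact (Fact.out : p.Prime).not_dvd_one ((Nat.dvd_add_right (h.mul_left 2)).1 h3)
  have hp1 : p ∣ (points H).card + 1 := by
    refine ((Fact.out : p.Prime).dvd_mul.1 (hH ▸ hpH)).resolve_right fun h => ?_
    rw [← hScard] at h
    rcases (Fact.out : p.Prime).dvd_mul.1 h with h | h
    · exact hnd h
    · exact hp2 ((Nat.prime_dvd_prime_iff_eq Fact.out Nat.prime_two).1 h)
  have hle : (points H).card ≤ S.card + 1 := by
    refine (Finset.card_le_card hpts).trans ((Finset.card_insert_le _ _).trans ?_)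
    omega
  have hge : S.card ≤ (points H).card := hC'card ▸ Finset.card_le_card hC'
  have hcase : (points H).card = S.card + 1 := by
    rcases (show (points H).card = S.card ∨ (points H).card = S.card + 1 by omega) with h | h
    · exfalso
      rw [h] at hp1
      have h3 : p ∣ 2 * (S.card + 1) := hp1.mul_left 2
      rw [show 2 * (S.card + 1) = Fintype.card K + 1 by omega] at h3
      exact (Fact.out : p.Prime).not_dvd_one ((Nat.dvd_add_right hpq).1 h3)
    · exact h
  have hp3 : p = 3 := by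
    rw [hcase] at hp1
    have h3 : p ∣ 2 * (S.card + 1 + 1) := hp1.mul_left 2
    rw [show 2 * (S.card + 1 + 1) = Fintype.card K + 3 by omega] at h3
    exact (Nat.prime_dvd_prime_iff_eq Fact.out Nat.prime_three).1 ((Nat.dvd_add_right hpq).1 h3)
  -- the stabiliser of the fixed point
  let c : SL K := ⟨!![z₀, -1; 1, 0], by simp⟩
  let H' : Subgroup (SL K) := H.comap (MulAut.conj c).toMonoidHom
  have hH' : Nat.card H' = Nat.card H := by
    refine Nat.card_congr ⟨fun g => ⟨MulAut.conj c g.1, g.2⟩, fun g => ⟨(MulAut.conj c).symm g.1, ?_⟩, fun g => ?_,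
      fun g => ?_⟩
    · show MulAut.conj c ((MulAut.conj c).symm g.1) ∈ H
      rw [MulEquiv.apply_symm_apply]; exact g.2
    · exact Subtype.ext (by simp [mul_assoc])
    · exact Subtype.ext (by simp [mul_assoc])
  have hmem' : ∀ g, g ∈ H' ↔ c * g * c⁻¹ ∈ H := fun g => Iff.rfl
  have hc : c.1 = !![z₀, -1; 1, 0] := rfl
  have hci : (c⁻¹).1 = !![0, 1; -1, z₀] := by
    rw [Matrix.SpecialLinearGroup.coe_inv, hc, Matrix.adjugate_fin_two]; simp
  clear_value c
  have himage : ∀ g ∈ H, g.1 1 0 * z₀ + g.1 1 1 ≠ 0 ∧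
      (g.1 0 0 * z₀ + g.1 0 1) / (g.1 1 0 * z₀ + g.1 1 1) ∈ C := by
    intro g hg
    obtain ⟨u, hu, htru, hu10, hu00⟩ := hz₀
    set y := g * u * g⁻¹
    have hy : y ∈ H := mul_mem (mul_mem hg hu) (inv_mem hg)
    have htry : tr y = 2 := by rw [tr_conj]; exact htru
    have hd := det2 g
    have hdu := det2 u
    rw [tr] at htru
    have hu01 : u.1 0 1 = -(u.1 1 0) * z₀ * z₀ := by
      apply mul_right_cancel₀ hu10
      linear_combination u.1 0 0 * htru - hdu - ((u.1 0 0 - 1) + z₀ * u.1 1 0) * hu00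
    have e10 : y.1 1 0 = u.1 1 0 * (g.1 1 0 * z₀ + g.1 1 1) ^ 2 := by
      simp only [y, mul_apply2, Matrix.SpecialLinearGroup.coe_inv, Matrix.adjugate_fin_two]
      simp
      rw [hu01, show u.1 1 1 = 2 - u.1 0 0 by linear_combination htru]
      linear_combination (2 * g.1 1 0 * g.1 1 1) * hu00
    have e00 : y.1 0 0 - 1 = u.1 1 0 * (g.1 1 0 * z₀ + g.1 1 1) * (g.1 0 0 * z₀ + g.1 0 1) := by
      simp only [y, mul_apply2, Matrix.SpecialLinearGroup.coe_inv, Matrix.adjugate_fin_two]
      simp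
      rw [hu01, show u.1 1 1 = 2 - u.1 0 0 by linear_combination htru]
      linear_combination (g.1 0 0 * g.1 1 1 + g.1 0 1 * g.1 1 0) * hu00 + hd
    have hden : g.1 1 0 * z₀ + g.1 1 1 ≠ 0 := fun h0 => by
      have h10' : y.1 1 0 = 0 := by rw [e10, h0]; ring
      have h00' : y.1 0 0 = 1 := by rw [h0] at e00; linear_combination e00
      have hyu : y = up (y.1 0 1) := by
        rw [tr] at htry
        apply ext2 <;> simp [up_val, h10', h00']
        linear_combination htry - h00'
      have hy01 : y.1 0 1 = 0 := by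
        by_contra h
        exact hnone _ h (hyu ▸ hy)
      have : u = 1 := by
        calc u = g⁻¹ * y * g := by simp only [y, mul_assoc, inv_mul_cancel_left, inv_mul_cancel, mul_one]
          _ = 1 := by rw [hyu, hy01, up_zero, mul_one, inv_mul_cancel]
      exact hu10 (by simp [this])
    refine ⟨hden, ?_⟩
    have h10' : y.1 1 0 ≠ 0 := by rw [e10]; exact mul_ne_zero hu10 (pow_ne_zero 2 hden)
    have hfp : FixPts H ((g.1 0 0 * z₀ + g.1 0 1) / (g.1 1 0 * z₀ + g.1 1 1)) :=
      ⟨y, hy, htry, h10', by rw [e00, e10]; field_simp⟩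
    refine (hcover _ fun h0 => ?_).resolve_right fun h => hdisj _ hfp (hC' h)
    have h00' : y.1 0 0 = 1 := by
      rw [div_eq_zero_iff] at h0
      rw [h0.resolve_right hden, mul_zero] at e00
      linear_combination e00
    have hyl : y = low (y.1 1 0) := by
      rw [tr] at htry
      have hdy := det2 y
      have h01' : y.1 0 1 = 0 := by
        apply mul_right_cancel₀ h10'
        linear_combination htry - hdy + (y.1 1 1 - 1) * h00'
      apply ext2 <;> simp [low_val, h01', h00']
      linear_combination htry - h00'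
    exact h10' (hlow _ (hyl ▸ hy))
  have hpts' : points H' = (C.erase z₀).image fun z => 1 / (z₀ - z) := by
    ext x
    simp only [points, Finset.mem_image, Finset.mem_filter, mem_elems, Finset.mem_erase]
    constructor
    · rintro ⟨g, ⟨hg, hg10⟩, rfl⟩
      obtain ⟨hden, hC1⟩ := himage _ ((hmem' g).1 hg)
      set y := c * g * c⁻¹
      have e1 : y.1 1 0 * z₀ + y.1 1 1 = g.1 0 0 := by
        simp [y, hc, hci, mul_apply2]
      have e2 : y.1 0 0 * z₀ + y.1 0 1 = z₀ * g.1 0 0 - g.1 1 0 := by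
        simp [y, hc, hci, mul_apply2]; ring
      rw [e1] at hden
      rw [e1, e2] at hC1
      refine ⟨_, ⟨fun h => ?_, hC1⟩, ?_⟩
      swap
      · rw [show z₀ - (z₀ * g.1 0 0 - g.1 1 0) / g.1 0 0 = g.1 1 0 / g.1 0 0 by field_simp; ring, one_div_div]
      rw [div_eq_iff hden] at h
      exact hg10 (by linear_combination -h)
    · rintro ⟨z, ⟨hzne, hz⟩, rfl⟩
      obtain ⟨_, hw, rfl⟩ := Finset.mem_image.mp hz
      obtain ⟨s, hs, rfl⟩ := Finset.mem_image.mp hw
      obtain ⟨-, hs⟩ := Finset.mem_filter.mp hs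
      refine ⟨c⁻¹ * dg s hs * c, ⟨?_, ?_⟩, ?_⟩
      · rw [hmem']
        simpa [mul_assoc] using hT s hs
      · simp [hc, hci, mul_apply2, dg_val]
        intro h
        apply hzne
        field_simp at h
        linear_combination -h
      · simp [hc, hci, mul_apply2, dg_val]
        have hz' : z₀ - s ^ 2 * z₀ ≠ 0 := sub_ne_zero.2 fun e => hzne e.symm
        field_simp
        ring
  have hz₀C : z₀ ∈ C := by
    refine Finset.mem_image.mpr ⟨1, ?_, one_mul _⟩
    exact Finset.mem_image.mpr ⟨1, by simp, one_pow 2⟩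
  have hpts'card : (points H').card + 1 = S.card := by
    rw [hpts', Finset.card_image_of_injective _ (fun a b e => by simpa using e), Finset.card_erase_of_mem hz₀C, hCcard]
    have : 0 < C.card := Finset.card_pos.2 ⟨_, hz₀C⟩
    omega
  have hb' : (borel H').card = Fintype.card K + 3 := by
    have e := card_elems_eq (H := H')
    rw [card_elems, hH', hH, hcase, hpts'card, ← hScard] at e
    have : 0 < S.card := by omega
    have e' : (borel H').card = (S.card + 1 + 1) * 2 :=
      Nat.eq_of_mul_eq_mul_left this (by rw [← e]; ring)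
    omega
  have hdvd : (borel H').card ∣ (Fintype.card K - 1) * Fintype.card K := by
    rw [card_borel]
    refine mul_dvd_mul ?_ ?_
    · rw [← card_diagGroup, ← Fintype.card_units, ← Nat.card_eq_fintype_card]
      exact Subgroup.card_subgroup_dvd_card _
    · rw [card_ups, ← Nat.card_eq_fintype_card (α := K)]
      exact AddSubgroup.card_addSubgroup_dvd_card _
  rw [hb', hn, hp3] at hdvd
  obtain ⟨k, hk⟩ : ∃ k, (n : ℕ) = k + 1 := ⟨(n : ℕ) - 1, by have := n.pos; omega⟩
  rw [hk, show 3 ^ (k + 1) + 3 = (3 ^ k + 1) * 3 by ring,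
    show (3 ^ (k + 1) - 1) * 3 ^ (k + 1) = (3 ^ (k + 1) - 1) * 3 ^ k * 3 by rw [pow_succ]; ring] at hdvd
  have hd1 := Nat.dvd_of_mul_dvd_mul_right (by norm_num) hdvd
  have hco : Nat.Coprime (3 ^ k + 1) (3 ^ k) := by simp
  have hd2 : 3 ^ k + 1 ∣ 3 ^ (k + 1) - 1 := hco.dvd_of_dvd_mul_right hd1
  have hd4 : 3 ^ k + 1 ∣ 4 := by
    have h3 : 3 ^ k + 1 ∣ (3 ^ k + 1) * 3 := Dvd.intro 3 rfl
    have := Nat.dvd_sub h3 hd2
    rwa [show (3 ^ k + 1) * 3 - (3 ^ (k + 1) - 1) = 4 by
      have : 1 ≤ 3 ^ k := Nat.one_le_pow _ _ (by norm_num)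
      rw [pow_succ]; omega] at this
  have hk2 : k < 2 := by
    by_contra hk2
    have : 3 ^ 2 ≤ 3 ^ k := Nat.pow_le_pow_right (by norm_num) (by omega)
    have := Nat.le_of_dvd (by norm_num) hd4
    omega
  rw [hn, hp3, hk] at h5 h9
  interval_cases k <;> simp at h5 h9

/-- A split torus and a unipotent element fixing neither of its points generate. -/
theorem eq_top_of_torus (h5 : 5 ≤ Fintype.card K) (h9 : Fintype.card K ≠ 9) {N : SL K} (hN : N ∈ H)
    (htr : tr N = 2) (h10 : N.1 1 0 ≠ 0) (h01 : N.1 0 1 ≠ 0) (h00 : N.1 0 0 ≠ 0) : H = ⊤ := by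
  obtain ⟨r, hr, h⟩ := exists_up_of_torus hT h5 h9 hN htr h10 h01 h00
  have hu := ups_all hT hr h
  set g := up (-(N.1 0 0 / N.1 1 0)) * N
  have hg : g ∈ H := mul_mem (hu _) hN
  have hg0 : g.1 0 0 = 0 := by
    simp [g, mul_apply2, up_val]
    field_simp
    ring
  have hl := low_mem_of_up hu hg hg0
  rw [eq_top_iff]
  intro x _
  have hgen : ∀ x : SL K, x.1 1 0 ≠ 0 → x ∈ H := fun x hx => by
    have e : x = up ((x.1 0 0 - 1) / x.1 1 0) * low (x.1 1 0) * up ((x.1 1 1 - 1) / x.1 1 0) := by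
      have hd := det2 x
      apply ext2 <;> simp [mul_apply2, up_val, low_val] <;> field_simp <;> try ring
      linear_combination -hd
    rw [e]
    exact mul_mem (mul_mem (hu _) (hl _)) (hu _)
  by_cases hx : x.1 1 0 = 0
  · have hd := det2 x
    rw [hx, mul_zero, sub_zero] at hd
    have h1 : (low (1 : K) * x).1 1 0 ≠ 0 := by
      simp [mul_apply2, low_val, hx, left_ne_zero_of_mul_eq_one hd]
    have := mul_mem (inv_mem (hl 1)) (hgen _ h1)
    rwa [inv_mul_cancel_left] at this
  · exact hgen x hx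

end CfsgLib.SLPres
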