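import Cfsg.Agent.Lib.KnownB.SLPres.Short
import Cfsg.Agent.Lib.KnownB.SLPres.TorusUnipotent

/-!
# Presentations of `SL₂` on an element, its image under the swap of the two coordinates, and a torus element
-/

set_option autoImplicit false

open Matrix CfsgLib.Classical CfsgLib.SL2Pres CfsgLib.Perm.Quad.SL2 CfsgLib.Perm.Quad.SL2Count

namespace CfsgLib.SLPres

section Swap

variable {R : Type*} [CommRing R]

/-- The swap of the two coordinates. -/
def swFun (g : SL R) : SL R :=
  ⟨!![g.1 1 1, g.1 1 0; g.1 0 1, g.1 0 0], by rw [Matrix.det_fin_two]; simp; linear_combination det2 g⟩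

theorem swFun_val (g : SL R) : (swFun g).1 = !![g.1 1 1, g.1 1 0; g.1 0 1, g.1 0 0] := rfl

/-- Conjugation by the swap of the two coordinates. -/
def swHom : SL R →* SL R where
  toFun := swFun
  map_one' := by apply ext2 <;> simp [swFun_val]
  map_mul' g h := by apply ext2 <;> simp [mul_apply2, swFun_val] <;> ring1

theorem swHom_val (g : SL R) : (swHom g).1 = !![g.1 1 1, g.1 1 0; g.1 0 1, g.1 0 0] := rfl

/-- Conjugation by a diagonal element of determinant possibly other than one. -/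
def scFun {F : Type*} [Field F] {c : F} (hc : c ≠ 0) (z : SL F) : SL F :=
  ⟨!![z.1 0 0, c * z.1 0 1; c⁻¹ * z.1 1 0, z.1 1 1], by
    rw [Matrix.det_fin_two]; simp; field_simp; linear_combination det2 z⟩

theorem scFun_val {F : Type*} [Field F] {c : F} (hc : c ≠ 0) (z : SL F) :
    (scFun hc z).1 = !![z.1 0 0, c * z.1 0 1; c⁻¹ * z.1 1 0, z.1 1 1] := rfl

/-- The conjugation as a homomorphism. -/
def scHom {F : Type*} [Field F] {c : F} (hc : c ≠ 0) : SL F →* SL F where
  toFun := scFun hc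
  map_one' := by apply ext2 <;> simp [scFun_val]
  map_mul' z z' := by apply ext2 <;> simp [mul_apply2, scFun_val] <;> field_simp

theorem scHom_val {F : Type*} [Field F] {c : F} (hc : c ≠ 0) (z : SL F) :
    (scHom hc z).1 = !![z.1 0 0, c * z.1 0 1; c⁻¹ * z.1 1 0, z.1 1 1] := rfl

theorem swHom_swHom (g : SL R) : swHom (swHom g) = g := by apply ext2 <;> simp [swHom_val]

theorem swHom_up (r : R) : swHom (up r) = low r := by apply ext2 <;> simp [swHom_val, up_val, low_val]

end Swap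

variable {F : Type*} [Field F]

/-- All upper and all lower transvections generate. -/
theorem eq_top_of_up_low {H : Subgroup (SL F)} (hu : ∀ x, up x ∈ H) (hl : ∀ x, low x ∈ H) : H = ⊤ := by
  rw [eq_top_iff]
  intro x _
  have hgen : ∀ x : SL F, x.1 1 0 ≠ 0 → x ∈ H := fun x hx => by
    have e : x = up ((x.1 0 0 - 1) / x.1 1 0) * low (x.1 1 0) * up ((x.1 1 1 - 1) / x.1 1 0) := by
      have hd := det2 x
      apply ext2 <;> simp [mul_apply2, up_val, low_val] <;> field_simp <;> try ring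
      linear_combination -hd
    rw [e]
    exact mul_mem (mul_mem (hu _) (hl _)) (hu _)
  by_cases hx : x.1 1 0 = 0
  · have hd := det2 x
    rw [hx, mul_zero, sub_zero] at hd
    have h1 : (low (1 : F) * x).1 1 0 ≠ 0 := by
      simp [mul_apply2, low_val, hx, left_ne_zero_of_mul_eq_one hd]
    have := mul_mem (inv_mem (hl 1)) (hgen _ h1)
    rwa [inv_mul_cancel_left] at this
  · exact hgen x hx

/-- The diagonal element as a power. -/
theorem dSL_pow_eq {w : F} (hw : w ≠ 0) (k : ℕ) : dSL hw ^ k = dg (w ^ k) (pow_ne_zero k hw) := by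
  induction k with
  | zero => apply ext2 <;> simp [dg_val]
  | succ k ih =>
    rw [pow_succ, ih]
    apply ext2 <;> simp [dg_val, dSL_coe, mul_apply2, pow_succ, mul_comm]

/-- The first generator. -/
def aGen {w : F} (hw : w ≠ 0) (e : ℕ) (g : F) : SL F := up g * dSL hw ^ e

variable [Fintype F]

theorem exists_generator : ∃ w : F, w ≠ 0 ∧ ∀ x : F, x ≠ 0 → ∃ e : ℕ, w ^ e = x := by
  classical
  obtain ⟨g, hg⟩ := IsCyclic.exists_generator (α := Fˣ)
  refine ⟨g, g.ne_zero, fun x hx => ?_⟩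
  obtain ⟨e, he⟩ := (mem_powers_iff_mem_zpowers).2 (hg (Units.mk0 x hx))
  exact ⟨e, by simpa using congrArg Units.val he⟩

/-- The prime fields. -/
theorem pair_prime (hq : (Fintype.card F).Prime) {w : F} (hw : w ≠ 0) :
    Subgroup.closure {aGen hw 0 1, swHom (aGen hw 0 1)} = (⊤ : Subgroup (SL F)) := by
  haveI : Fact (Fintype.card F).Prime := ⟨hq⟩
  have hall : ∀ x : F, ∃ k : ℕ, (k : F) = x := fun x => by
    haveI : CharP F (Fintype.card F) := charP_of_card_eq_prime rfl
    refine ⟨((ZMod.ringEquivOfPrime F hq rfl).symm x).val, ?_⟩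
    rw [← map_natCast (ZMod.ringEquivOfPrime F hq rfl), ZMod.natCast_zmod_val, RingEquiv.apply_symm_apply]
  set H := Subgroup.closure {aGen hw 0 (1 : F), swHom (aGen hw 0 1)}
  have h1 : up (1 : F) ∈ H := Subgroup.subset_closure (Or.inl (by simp [aGen]))
  have h2 : low (1 : F) ∈ H := Subgroup.subset_closure (Or.inr (by simp [aGen, swHom_up]))
  refine eq_top_of_up_low (fun x => ?_) (fun x => ?_) <;> obtain ⟨k, rfl⟩ := hall x <;> induction k with
  | zero => simp [up_zero, low_zero]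
  | succ k ih =>
    rw [Nat.cast_succ]
    first
    | exact up_add (k : F) 1 ▸ mul_mem ih h1
    | exact low_add (k : F) 1 ▸ mul_mem ih h2

/-- The fields with a generator that satisfies `w² = w + 1`, given words for the basic transvections. -/
theorem pair_golden {w : F} (hgen : ∀ x : F, x ≠ 0 → ∃ e : ℕ, w ^ e = x) (h2 : w ^ 2 = w + 1) {H : Subgroup (SL F)}
    (u1 : up (1 : F) ∈ H) (uw : up w ∈ H) (l1 : low (1 : F) ∈ H) (lw : low w ∈ H) : H = ⊤ := by
  have key : ∀ k : ℕ, ∃ a b : ℕ, w ^ k = a + b * w := by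
    intro k
    induction k with
    | zero => exact ⟨1, 0, by simp⟩
    | succ k ih =>
      obtain ⟨a, b, e⟩ := ih
      exact ⟨b, a + b, by rw [pow_succ, e]; push_cast; linear_combination (b : F) * h2⟩
  have hup : ∀ a : ℕ, ∀ z, up z ∈ H → up ((a : F) * z) ∈ H := fun a z hz => by
    induction a with
    | zero => simp [up_zero]
    | succ a ih => rw [Nat.cast_succ, add_mul, one_mul, ← up_add]; exact mul_mem ih hz
  have hlow : ∀ a : ℕ, ∀ z, low z ∈ H → low ((a : F) * z) ∈ H := fun a z hz => by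
    induction a with
    | zero => simp [low_zero]
    | succ a ih => rw [Nat.cast_succ, add_mul, one_mul, ← low_add]; exact mul_mem ih hz
  refine eq_top_of_up_low (fun x => ?_) (fun x => ?_)
  · by_cases hx : x = 0
    · rw [hx, up_zero]; exact one_mem H
    obtain ⟨e, rfl⟩ := hgen x hx
    obtain ⟨a, b, e⟩ := key e
    rw [e, ← up_add, ← mul_one (a : F)]
    exact mul_mem (hup a 1 u1) (hup b w uw)
  · by_cases hx : x = 0
    · rw [hx, low_zero]; exact one_mem H
    obtain ⟨e, rfl⟩ := hgen x hx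
    obtain ⟨a, b, e⟩ := key e
    rw [e, ← low_add, ← mul_one (a : F)]
    exact mul_mem (hlow a 1 l1) (hlow b w lw)

omit [Fintype F] in
theorem aGen_val_one {w : F} (hw : w ≠ 0) (h2 : w ^ 2 = w + 1) :
    (aGen hw 1 (1 : F)).1 = !![w, w - 1; 0, w - 1] := by
  have hi : w⁻¹ = w - 1 := inv_eq_of_mul_eq_one_right (by linear_combination h2)
  ext i j
  fin_cases i <;> fin_cases j <;> simp [aGen, dSL_coe, up_val, mul_apply2, Matrix.mul_apply, Fin.sum_univ_two, hi]

omit [Fintype F] in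
theorem val_four {w : F} (hw : w ≠ 0) (h2 : w ^ 2 = w + 1) {a b : SL F} (ha : a = aGen hw 1 1) (hb : b = swHom a) :
    a.1 = !![w, w - 1; 0, w - 1] ∧ b.1 = !![w - 1, 0; w - 1, w] ∧ a⁻¹.1 = !![w - 1, 1 - w; 0, w] ∧
      b⁻¹.1 = !![w, 0; 1 - w, w - 1] := by
  have e1 : a.1 = !![w, w - 1; 0, w - 1] := ha ▸ aGen_val_one hw h2
  have e2 : b.1 = !![w - 1, 0; w - 1, w] := by rw [hb, swHom_val, e1]; simp
  refine ⟨e1, e2, ?_, ?_⟩ <;> rw [Matrix.SpecialLinearGroup.coe_inv, Matrix.adjugate_fin_two]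
  · rw [e1]; simp
  · rw [e2]; simp

theorem pair_four (h4 : Fintype.card F = 4) {w : F} (hw : w ≠ 0) (hgen : ∀ x : F, x ≠ 0 → ∃ e : ℕ, w ^ e = x) :
    w ^ 2 = w + 1 ∧ Subgroup.closure {aGen hw 1 1, swHom (aGen hw 1 1)} = (⊤ : Subgroup (SL F)) := by
  haveI : Fact (Nat.Prime 2) := ⟨Nat.prime_two⟩
  haveI : CharP F 2 := charP_of_card_eq_prime_pow (f := 2) (by rw [h4]; norm_num)
  have hp : (2 : F) = 0 := by exact_mod_cast CharP.cast_eq_zero F 2
  have hw3 : w ^ 3 = 1 := by
    have := FiniteField.pow_card_sub_one_eq_one w hw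
    rwa [h4] at this
  have hw1 : w ≠ 1 := by
    rintro rfl
    have : ∀ x : F, x = 0 ∨ x = 1 := fun x => by
      by_cases hx : x = 0
      · exact Or.inl hx
      · obtain ⟨e, rfl⟩ := hgen x hx
        exact Or.inr (one_pow e)
    classical
    have h := Finset.card_le_card (s := (Finset.univ : Finset F)) (t := {0, 1}) fun x _ => by simp [this x]
    have h' := h.trans Finset.card_le_two
    rw [Finset.card_univ, h4] at h'
    omega
  have h2 : w ^ 2 = w + 1 := by
    have : w ^ 2 + w + 1 = 0 :=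
      (mul_eq_zero.1 (show (w - 1) * (w ^ 2 + w + 1) = 0 by linear_combination hw3)).resolve_left (sub_ne_zero.2 hw1)
    linear_combination this - (w + 1) * hp
  refine ⟨h2, ?_⟩
  set a := aGen hw 1 (1 : F) with ha
  set b := swHom a with hb
  obtain ⟨ea, eb, eA, eB⟩ := val_four hw h2 ha hb
  clear_value a b
  set H := Subgroup.closure ({a, b} : Set (SL F))
  have ma : a ∈ H := Subgroup.subset_closure (Or.inl rfl)
  have mb : b ∈ H := Subgroup.subset_closure (Or.inr rfl)
  have mA := inv_mem ma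
  have mB := inv_mem mb
  refine pair_golden hgen h2 (?_ : up (1 : F) ∈ H) ?_ ?_ ?_
  · rw [show up (1 : F) = b * a * b⁻¹ * a by apply ext2 <;> simp [mul_apply2, up_val, ea, eb, eB] <;> grind]
    exact mul_mem (mul_mem (mul_mem mb ma) mB) ma
  · rw [show up w = a * b * a⁻¹ * b⁻¹ * a by
      apply ext2 <;> simp [mul_apply2, up_val, ea, eb, eA, eB] <;> grind]
    exact mul_mem (mul_mem (mul_mem (mul_mem ma mb) mA) mB) ma
  · rw [show low (1 : F) = a * b * a⁻¹ * b by apply ext2 <;> simp [mul_apply2, low_val, ea, eb, eA] <;> grind]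
    exact mul_mem (mul_mem (mul_mem ma mb) mA) mb
  · rw [show low w = b * a * b⁻¹ * a⁻¹ * b by
      apply ext2 <;> simp [mul_apply2, low_val, ea, eb, eA, eB] <;> grind]
    exact mul_mem (mul_mem (mul_mem (mul_mem mb ma) mB) mA) mb

theorem exists_golden_nine (h9 : Fintype.card F = 9) :
    ∃ w : F, w ≠ 0 ∧ w ^ 2 = w + 1 ∧ ∀ x : F, x ≠ 0 → ∃ e : ℕ, w ^ e = x := by
  classical
  haveI : Fact (Nat.Prime 3) := ⟨Nat.prime_three⟩
  haveI : CharP F 3 := charP_of_card_eq_prime_pow (f := 2) (by rw [h9]; norm_num)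
  have hp : (3 : F) = 0 := by exact_mod_cast CharP.cast_eq_zero F 3
  obtain ⟨i, hi⟩ := FiniteField.isSquare_neg_one_iff.2 (show Fintype.card F % 4 ≠ 3 by omega)
  refine ⟨2 + 2 * i, ?_⟩
  set w : F := 2 + 2 * i
  have h2 : w ^ 2 = w + 1 := by simp only [w]; linear_combination (-4 : F) * hi + (2 * i - 1) * hp
  have h4 : w ^ 4 = -1 := by linear_combination (w ^ 2 + w + 1 + 1) * h2 + (w + 1) * hp
  have hne1 : (1 : F) ≠ -1 := fun e => one_ne_zero (show (1 : F) = 0 by linear_combination hp - e)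
  have hw : w ≠ 0 := fun e => by rw [e] at h4; simp at h4
  refine ⟨hw, h2, fun x hx => ?_⟩
  have ho : orderOf w = 8 := by
    have := orderOf_eq_prime_pow (x := w) (p := 2) (n := 2) (by
      rw [show (2 : ℕ) ^ 2 = 4 by norm_num, h4]; exact hne1.symm) (by
      rw [show (2 : ℕ) ^ (2 + 1) = 4 * 2 by norm_num, pow_mul, h4]; ring)
    simpa using this
  have hinj : Set.InjOn (fun k => w ^ k) (Finset.range 8 : Set ℕ) := fun a ha b hb e => by
    simp only [Finset.coe_range, Set.mem_Iio] at ha hb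
    exact pow_injOn_Iio_orderOf (by rw [ho]; exact ha) (by rw [ho]; exact hb) e
  have hsub : (Finset.range 8).image (fun k => w ^ k) = Finset.univ.erase (0 : F) := by
    refine Finset.eq_of_subset_of_card_le (fun z hz => ?_) ?_
    · obtain ⟨k, -, rfl⟩ := Finset.mem_image.1 hz
      simp [hw]
    · rw [Finset.card_image_of_injOn hinj, Finset.card_range, Finset.card_erase_of_mem (Finset.mem_univ _),
        Finset.card_univ, h9]
  have : x ∈ (Finset.range 8).image (fun k => w ^ k) := by rw [hsub]; simp [hx]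
  obtain ⟨k, -, rfl⟩ := Finset.mem_image.1 this
  exact ⟨k, rfl⟩

theorem pair_nine (h9 : Fintype.card F = 9) {w : F} (hw : w ≠ 0) (h2 : w ^ 2 = w + 1)
    (hgen : ∀ x : F, x ≠ 0 → ∃ e : ℕ, w ^ e = x) :
    Subgroup.closure {aGen hw 1 1, swHom (aGen hw 1 1)} = (⊤ : Subgroup (SL F)) := by
  haveI : Fact (Nat.Prime 3) := ⟨Nat.prime_three⟩
  haveI : CharP F 3 := charP_of_card_eq_prime_pow (f := 2) (by rw [h9]; norm_num)
  have hp : (3 : F) = 0 := by exact_mod_cast CharP.cast_eq_zero F 3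
  set a := aGen hw 1 (1 : F) with ha
  set b := swHom a with hb
  obtain ⟨ea, eb, eA, eB⟩ := val_four hw h2 ha hb
  clear_value a b
  set H := Subgroup.closure ({a, b} : Set (SL F))
  have ma : a ∈ H := Subgroup.subset_closure (Or.inl rfl)
  have mb : b ∈ H := Subgroup.subset_closure (Or.inr rfl)
  have mA := inv_mem ma
  have mB := inv_mem mb
  refine pair_golden hgen h2 (?_ : up (1 : F) ∈ H) ?_ ?_ ?_
  · rw [show up (1 : F) = b⁻¹ * a * b⁻¹ * a⁻¹ * b * a by
      apply ext2 <;> simp [mul_apply2, up_val, ea, eb, eA, eB] <;> grind]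
    exact mul_mem (mul_mem (mul_mem (mul_mem (mul_mem mB ma) mB) mA) mb) ma
  · rw [show up w = b⁻¹ * b⁻¹ * a⁻¹ * b⁻¹ * a by
      apply ext2 <;> simp [mul_apply2, up_val, ea, eA, eB] <;> grind]
    exact mul_mem (mul_mem (mul_mem (mul_mem mB mB) mA) mB) ma
  · rw [show low (1 : F) = a⁻¹ * b * a⁻¹ * b⁻¹ * a * b by
      apply ext2 <;> simp [mul_apply2, low_val, ea, eb, eA, eB] <;> grind]
    exact mul_mem (mul_mem (mul_mem (mul_mem (mul_mem mA mb) mA) mB) ma) mb
  · rw [show low w = a⁻¹ * a⁻¹ * b⁻¹ * a⁻¹ * b by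
      apply ext2 <;> simp [mul_apply2, low_val, eb, eA, eB] <;> grind]
    exact mul_mem (mul_mem (mul_mem (mul_mem mA mA) mB) mA) mb

/-- The general fields. -/
theorem pair_general (h7 : 7 ≤ Fintype.card F) (h9 : Fintype.card F ≠ 9) {w : F} (hw : w ≠ 0)
    (hgen : ∀ x : F, x ≠ 0 → ∃ e : ℕ, w ^ e = x) :
    ∃ g : F, g ≠ 0 ∧ Subgroup.closure {aGen hw 1 g, swHom (aGen hw 1 g)} = (⊤ : Subgroup (SL F)) := by
  classical
  have hpow : ∀ k : ℕ, 0 < k → k < 6 → w ^ k ≠ 1 := fun k hk hk6 e => by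
    have hsub : Finset.univ.erase (0 : F) ⊆ (Finset.range k).image fun i => w ^ i := fun x hx => by
      obtain ⟨i, rfl⟩ := hgen x (Finset.ne_of_mem_erase hx)
      refine Finset.mem_image.2 ⟨i % k, Finset.mem_range.2 (Nat.mod_lt _ hk), ?_⟩
      conv_rhs => rw [← Nat.mod_add_div i k, pow_add, pow_mul, e, one_pow, mul_one]
    have := (Finset.card_le_card hsub).trans Finset.card_image_le
    rw [Finset.card_erase_of_mem (Finset.mem_univ _), Finset.card_univ, Finset.card_range] at this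
    omega
  have hw2 : w ^ 2 ≠ 1 := hpow 2 (by norm_num) (by norm_num)
  have hw4 : w ^ 4 ≠ 1 := hpow 4 (by norm_num) (by norm_num)
  have hm : 1 - w ^ 2 ≠ 0 := sub_ne_zero.2 (Ne.symm hw2)
  -- it is enough to find a point and a unipotent element
  suffices hx : ∃ x r : F, x ≠ 0 ∧ r ≠ 0 ∧ x * (1 - w ^ 2) * (1 - x ^ 2) ≠ 0 ∧
      (((1 - x ^ 2 * (1 - w ^ 2)) ≠ 0 ∧
        r * ((1 - x ^ 2 * (1 - w ^ 2)) / w) + r⁻¹ * ((x ^ 2 * (1 - w ^ 2) + w ^ 2) / w) = 2) ∨
       ((x ^ 2 * (1 - w ^ 2) + w ^ 2) ≠ 0 ∧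
        r * ((x ^ 2 * (1 - w ^ 2) + w ^ 2) / w) + r⁻¹ * ((1 - x ^ 2 * (1 - w ^ 2)) / w) = 2)) by
    obtain ⟨x, r, hx0, hr, hbg, hcase⟩ := hx
    refine ⟨x * (1 - w ^ 2), mul_ne_zero hx0 hm, ?_⟩
    set a := aGen hw 1 (x * (1 - w ^ 2)) with ha
    set H := Subgroup.closure ({a, swHom a} : Set (SL F))
    set H' := H.comap (MulAut.conj (up x)).toMonoidHom
    have hmem : ∀ z, z ∈ H' ↔ up x * z * (up x)⁻¹ ∈ H := fun z => Iff.rfl
    have ea : a.1 = !![w, x * (1 - w ^ 2) / w; 0, w⁻¹] := by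
      ext i j
      fin_cases i <;> fin_cases j <;>
        simp [ha, aGen, dSL_coe, up_val, Matrix.mul_apply, Fin.sum_univ_two, div_eq_mul_inv]
    have hd : dSL hw ∈ H' := by
      rw [hmem, show up x * dSL hw * (up x)⁻¹ = a by
        rw [mul_inv_eq_iff_eq_mul]
        apply ext2 <;> simp [mul_apply2, dSL_coe, up_val, ea] <;> field_simp <;> ring]
      exact Subgroup.subset_closure (Or.inl rfl)
    have hT : ∀ s (hs : (s : F) ≠ 0), dg s hs ∈ H' := fun s hs => by
      obtain ⟨k, rfl⟩ := hgen s hs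
      rw [← dSL_pow_eq hw k]
      exact pow_mem hd k
    set b := (up x)⁻¹ * swHom a * up x with hb
    have hbm : b ∈ H' := by
      rw [hmem, show up x * b * (up x)⁻¹ = swHom a by simp [hb, mul_assoc]]
      exact Subgroup.subset_closure (Or.inr rfl)
    have eb : b.1 = !![(1 - x ^ 2 * (1 - w ^ 2)) / w, x * (1 - w ^ 2) * (1 - x ^ 2) / w;
        x * (1 - w ^ 2) / w, (x ^ 2 * (1 - w ^ 2) + w ^ 2) / w] := by
      ext i j
      fin_cases i <;> fin_cases j <;>
        simp [hb, swHom_val, up_val, ea, Matrix.mul_apply, Fin.sum_univ_two, Matrix.adjugate_fin_two] <;>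
        field_simp <;> ring
    have hxm : x * (1 - w ^ 2) ≠ 0 := mul_ne_zero hx0 hm
    have htop : H' = ⊤ := by
      rcases hcase with ⟨h00, htr⟩ | ⟨h00, htr⟩
      · refine eq_top_of_torus hT (by omega) h9 (N := dg r hr * b) (mul_mem (hT r hr) hbm) ?_ ?_ ?_ ?_
        · simp only [tr, mul_apply2, dg_val, eb]; simpa using htr
        · simp [mul_apply2, dg_val, eb, hr, hxm, hw]
        · simp [mul_apply2, dg_val, eb, hr, hbg, hw]
        · simp [mul_apply2, dg_val, eb, hr, h00, hw]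
      · refine eq_top_of_torus hT (by omega) h9 (N := dg r hr * b⁻¹) (mul_mem (hT r hr) (inv_mem hbm)) ?_ ?_ ?_ ?_
        · simp only [tr, mul_apply2, dg_val, Matrix.SpecialLinearGroup.coe_inv, Matrix.adjugate_fin_two, eb]
          simpa using htr
        · simp [mul_apply2, dg_val, eb, hr, hxm, hw, Matrix.adjugate_fin_two]
        · simp [mul_apply2, dg_val, eb, hr, hbg, hw, Matrix.adjugate_fin_two]
        · simp [mul_apply2, dg_val, eb, hr, h00, hw, Matrix.adjugate_fin_two]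
    rw [eq_top_iff]
    intro z _
    have : (up x)⁻¹ * z * up x ∈ H' := htop ▸ Subgroup.mem_top _
    rw [hmem] at this
    simpa [mul_assoc] using this
  by_cases h2 : (2 : F) = 0
  · -- characteristic two
    haveI : CharP F 2 := CharTwo.of_one_ne_zero_of_two_eq_zero one_ne_zero h2
    have hsq : ∀ a : F, IsSquare a := FiniteField.isSquare_of_char_two (ringChar.eq F 2)
    have hinj : ∀ a b : F, a ^ 2 = b ^ 2 → a = b := fun a b e => by
      have : (a - b) ^ 2 = 0 := by linear_combination e + (b ^ 2 - a * b) * h2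
      exact sub_eq_zero.1 (pow_eq_zero_iff two_ne_zero |>.1 this)
    obtain ⟨c₁, hc₁⟩ := hsq (1 / (1 - w ^ 2))
    obtain ⟨c₂, hc₂⟩ := hsq (-(w ^ 2) / (1 - w ^ 2))
    obtain ⟨x, -, hx⟩ : ∃ x ∈ (Finset.univ : Finset F), x ∉ ({0, 1, c₁, c₂} : Finset F) := by
      refine Finset.exists_mem_notMem_of_card_lt_card (lt_of_le_of_lt Finset.card_le_four ?_)
      rw [Finset.card_univ]
      omega
    simp only [Finset.mem_insert, Finset.mem_singleton, not_or] at hx
    obtain ⟨hx0, hx1, hxc1, hxc2⟩ := hx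
    have hα : 1 - x ^ 2 * (1 - w ^ 2) ≠ 0 := fun e => hxc1 (hinj x c₁ (by
      rw [pow_two c₁, ← hc₁, eq_div_iff hm]; linear_combination -e))
    have hδ : x ^ 2 * (1 - w ^ 2) + w ^ 2 ≠ 0 := fun e => hxc2 (hinj x c₂ (by
      rw [pow_two c₂, ← hc₂, eq_div_iff hm]; linear_combination e))
    obtain ⟨r, hr⟩ := hsq ((x ^ 2 * (1 - w ^ 2) + w ^ 2) / (1 - x ^ 2 * (1 - w ^ 2)))
    have hr0 : r ≠ 0 := fun e => div_ne_zero hδ hα (by rw [hr, e, mul_zero])
    refine ⟨x, r, hx0, hr0, mul_ne_zero (mul_ne_zero hx0 hm) fun e => hx1 (hinj x 1 ?_), Or.inl ⟨hα, ?_⟩⟩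
    · linear_combination -e
    · rw [div_eq_iff hα] at hr
      rw [h2]
      field_simp
      linear_combination hr + (r * r * (1 - x ^ 2 * (1 - w ^ 2))) * h2
  · -- odd characteristic
    set x := (w + w⁻¹) / 2 with hx
    set y := (w - w⁻¹) / 2 with hy
    have hx0 : x ≠ 0 := fun e => hw4 (by
      have : w ^ 2 = -1 := by
        rw [hx] at e; field_simp at e; linear_combination e
      linear_combination (w ^ 2 - 1) * this)
    have hxy : x ^ 2 - 1 = y ^ 2 := by rw [hx, hy]; field_simp; ring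
    have hy0 : y ≠ 0 := fun e => hw2 (by
      rw [hy] at e; field_simp at e; linear_combination e)
    have hbg : x * (1 - w ^ 2) * (1 - x ^ 2) ≠ 0 :=
      mul_ne_zero (mul_ne_zero hx0 hm) fun e => hy0 (pow_eq_zero_iff two_ne_zero |>.1 (by linear_combination -hxy - e))
    set α := (1 - x ^ 2 * (1 - w ^ 2)) / w with hα
    set δ := (x ^ 2 * (1 - w ^ 2) + w ^ 2) / w with hδ
    have htr : α + δ = 2 * x := by rw [hα, hδ, hx]; field_simp; ring
    set ρ := x * (1 - w ^ 2) * y / w with hρ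
    have hdet : α * δ = 1 - ρ ^ 2 := by
      have : w ^ 2 * (α * δ) = w ^ 2 * (1 - ρ ^ 2) := by
        rw [hα, hδ, hρ]; field_simp; linear_combination -(x ^ 2 * (1 - w ^ 2) ^ 2) * hxy
      exact mul_left_cancel₀ (pow_ne_zero 2 hw) this
    by_cases hα0 : 1 - x ^ 2 * (1 - w ^ 2) = 0
    · have hα' : α = 0 := by rw [hα, hα0, zero_div]
      have hδ0 : δ ≠ 0 := by
        rw [show δ = 2 * x by linear_combination htr - hα']
        exact mul_ne_zero h2 hx0
      refine ⟨x, 2 / δ, hx0, div_ne_zero h2 hδ0, hbg, Or.inr ⟨fun e => hδ0 (by rw [hδ, e, zero_div]), ?_⟩⟩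
      show 2 / δ * δ + (2 / δ)⁻¹ * α = 2
      rw [hα', mul_zero, add_zero, div_mul_cancel₀ _ hδ0]
    · have hα' : α ≠ 0 := div_ne_zero hα0 hw
      obtain ⟨s, hs0, hs⟩ : ∃ s : F, s ≠ 0 ∧ (s - 1) ^ 2 = ρ ^ 2 := by
        by_cases h : 1 + ρ = 0
        · exact ⟨2, h2, by linear_combination (1 - ρ) * h⟩
        · exact ⟨1 + ρ, h, by ring⟩
      refine ⟨x, s / α, hx0, div_ne_zero hs0 hα', hbg, Or.inl ⟨hα0, ?_⟩⟩
      show s / α * α + (s / α)⁻¹ * δ = 2
      rw [div_mul_cancel₀ _ hα', inv_div, div_mul_eq_mul_div, ← eq_sub_iff_add_eq', div_eq_iff hs0]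
      linear_combination hdet + hs

/-- A generator of the field and an element which generates with its swapped image. -/
theorem exists_pair_gen : ∃ w : F, ∃ hw : w ≠ 0, (∀ x : F, x ≠ 0 → ∃ e : ℕ, w ^ e = x) ∧
    ∃ (e : ℕ) (g : F), g ≠ 0 ∧ Subgroup.closure {aGen hw e g, swHom (aGen hw e g)} = (⊤ : Subgroup (SL F)) := by
  by_cases h9 : Fintype.card F = 9
  · obtain ⟨w, hw, h2, hgen⟩ := exists_golden_nine h9
    exact ⟨w, hw, hgen, 1, 1, one_ne_zero, pair_nine h9 hw h2 hgen⟩
  obtain ⟨w, hw, hgen⟩ := exists_generator (F := F)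
  refine ⟨w, hw, hgen, ?_⟩
  by_cases h4 : Fintype.card F = 4
  · exact ⟨1, 1, one_ne_zero, (pair_four h4 hw hgen).2⟩
  by_cases hp : (Fintype.card F).Prime
  · exact ⟨0, 1, one_ne_zero, pair_prime hp hw⟩
  have h7 : 7 ≤ Fintype.card F := by
    by_contra hlt
    have h2 : 2 ≤ Fintype.card F := Fintype.one_lt_card
    obtain ⟨p, hcp⟩ := CharP.exists F
    haveI := Fact.mk (CharP.char_is_prime F p)
    obtain ⟨n, hp', hn⟩ := FiniteField.card F p
    rcases (show Fintype.card F = 2 ∨ Fintype.card F = 3 ∨ Fintype.card F = 5 ∨ Fintype.card F = 6 by omega)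
      with h | h | h | h
    · exact hp (by rw [h]; norm_num)
    · exact hp (by rw [h]; norm_num)
    · exact hp (by rw [h]; norm_num)
    · have hd2 : 2 ∣ p ^ (n : ℕ) := by rw [← hn, h]; norm_num
      have hd3 : 3 ∣ p ^ (n : ℕ) := by rw [← hn, h]; norm_num
      have e2 := (Nat.prime_dvd_prime_iff_eq Nat.prime_two hp').1 (Nat.prime_two.dvd_of_dvd_pow hd2)
      have e3 := (Nat.prime_dvd_prime_iff_eq Nat.prime_three hp').1 (Nat.prime_three.dvd_of_dvd_pow hd3)
      omega
  obtain ⟨g, hg, h⟩ := pair_general h7 h9 hw hgen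
  exact ⟨1, g, hg, h⟩

/-- Presentations with seven relations on an element, its swapped image and a torus element. -/
theorem exists_pair_pres : ∃ w : F, ∃ hw : w ≠ 0, (∀ x : F, x ≠ 0 → ∃ e : ℕ, w ^ e = x) ∧
    ∃ a : SL F, Subgroup.closure {a, swHom a} = (⊤ : Subgroup (SL F)) ∧
      ∃ rels : Finset (FreeGroup (Fin 3)), rels.card ≤ 7 ∧
        ∃ E : PresentedGroup (↑rels : Set (FreeGroup (Fin 3))) ≃* SL F,
          ∀ k, E (PresentedGroup.of k) = ![a, swHom a, dSL hw] k := by
  classical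
  obtain ⟨p, hcp⟩ := CharP.exists F
  haveI : Fact p.Prime := ⟨CharP.char_is_prime F p⟩
  letI : Algebra (ZMod p) F := ZMod.algebra F p
  obtain ⟨w, hw, hgen, e, g, hg, htop⟩ := exists_pair_gen (F := F)
  refine ⟨w, hw, hgen, aGen hw e g, htop, ?_⟩
  obtain ⟨R, hR, ε, hε⟩ := exists_short (p := p) hw hgen
  obtain ⟨j, hj⟩ := hgen g⁻¹ (inv_ne_zero hg)
  let U : FreeGroup (Fin 3) := FreeGroup.of 0 * (FreeGroup.of 2 ^ e)⁻¹
  let V : FreeGroup (Fin 3) :=
    ((FreeGroup.of 2 ^ j)⁻¹ * FreeGroup.of 1 * FreeGroup.of 2 ^ e * FreeGroup.of 2 ^ j)⁻¹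
  let sub : FreeGroup (Fin 3) →* FreeGroup (Fin 3) := FreeGroup.lift ![U, FreeGroup.of 2, U * V * U]
  refine ⟨R.image sub, Finset.card_image_le.trans hR, ?_⟩
  set a := aGen hw e g with ha
  let imgs : Fin 3 → SL F := ![a, swHom a, dSL hw]
  let L := FreeGroup.lift imgs
  -- the conjugation by the diagonal element
  set δ : SL F →* SL F := scHom hg
  have hδ : ∀ z, (δ z).1 = !![z.1 0 0, g * z.1 0 1; g⁻¹ * z.1 1 0, z.1 1 1] := fun z => scHom_val hg z
  clear_value δ
  have hδbij : Function.Bijective δ := by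
    refine Finite.injective_iff_bijective.1 fun z z' h => ?_
    have h' := congrArg (fun u : SL F => u.1) h
    simp only [hδ] at h'
    apply ext2
    · simpa using congrFun (congrFun h' 0) 0
    · simpa [hg] using congrFun (congrFun h' 0) 1
    · simpa [hg] using congrFun (congrFun h' 1) 0
    · simpa using congrFun (congrFun h' 1) 1
  have hU : L U = δ (uSL (Multiplicative.ofAdd (1 : F))) := by
    simp only [L, U, imgs, map_mul, map_inv, map_pow, FreeGroup.lift_apply_of, Matrix.cons_val_zero,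
      Matrix.cons_val_two, Matrix.tail_cons, Matrix.head_cons, ha, aGen, mul_inv_cancel_right]
    apply ext2 <;> simp [hδ, uSL_coe, up_val]
  have hH : L (FreeGroup.of 2) = δ (dSL hw) := by
    simp only [L, imgs, FreeGroup.lift_apply_of, Matrix.cons_val_two, Matrix.tail_cons, Matrix.head_cons]
    apply ext2 <;> simp [hδ, dSL_coe]
  have hV : L V = low (-g⁻¹) := by
    have e1 : swHom (dSL hw ^ e) = (dSL hw ^ e)⁻¹ := by
      rw [dSL_pow_eq]
      apply ext2 <;> simp [swHom_val, dg_val, Matrix.adjugate_fin_two]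
    simp only [L, V, imgs, map_mul, map_inv, map_pow, FreeGroup.lift_apply_of, Matrix.cons_val_one,
      Matrix.cons_val_zero, Matrix.cons_val_two, Matrix.tail_cons, Matrix.head_cons, ha, aGen]
    rw [← MonoidHom.map_pow swHom, e1, swHom_up, dSL_pow_eq hw j]
    simp only [mul_assoc, inv_mul_cancel_left, _root_.mul_inv_rev]
    rw [inv_inv, ← mul_assoc]
    apply ext2 <;> simp [mul_apply2, dg_val, low_val, Matrix.adjugate_fin_two, hw, hj, hg]
  have hT : L (U * V * U) = δ jSL := by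
    rw [map_mul, map_mul, hU, hV]
    apply ext2 <;> simp [mul_apply2, hδ, uSL_coe, jSL_coe, low_val, hg]
  let f₀ : PresentedGroup (↑R : Set (FreeGroup (Fin 3))) →* SL F := δ.comp ε.toMonoidHom
  have hf₀ : ∀ z, f₀ (PresentedGroup.mk _ z) = L (sub z) := by
    have : f₀.comp (PresentedGroup.mk _) = L.comp sub := FreeGroup.ext_hom _ _ fun k => by
      show δ (ε (PresentedGroup.of k)) = L (sub (FreeGroup.of k))
      rw [hε]
      fin_cases k
      · simpa [sub] using hU.symm
      · simpa [sub] using hH.symm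
      · simpa [sub] using hT.symm
    exact fun z => DFunLike.congr_fun this z
  have hrel : ∀ r ∈ (↑(R.image sub) : Set (FreeGroup (Fin 3))), L r = 1 := by
    intro r hr
    obtain ⟨z, hz, rfl⟩ := Finset.mem_image.1 (Finset.mem_coe.1 hr)
    rw [← hf₀, PresentedGroup.one_of_mem (Finset.mem_coe.2 hz), map_one]
  let ψ := PresentedGroup.toGroup (rels := (↑(R.image sub) : Set (FreeGroup (Fin 3)))) (f := imgs) hrel
  let q : FreeGroup (Fin 3) →* PresentedGroup (↑(R.image sub) : Set (FreeGroup (Fin 3))) := PresentedGroup.mk _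
  let φ := PresentedGroup.toGroup (rels := (↑R : Set (FreeGroup (Fin 3))))
    (f := fun k => q (sub (FreeGroup.of k))) (fun r hr => by
      rw [show FreeGroup.lift (fun k => q (sub (FreeGroup.of k))) = q.comp sub from
        FreeGroup.ext_hom _ _ fun k => by simp]
      exact PresentedGroup.one_of_mem (Finset.mem_coe.2 (Finset.mem_image_of_mem sub (Finset.mem_coe.1 hr))))
  have hφ : ∀ z, φ (PresentedGroup.mk _ z) = q (sub z) := by
    have : φ.comp (PresentedGroup.mk _) = q.comp sub := FreeGroup.ext_hom _ _ fun k => by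
      show φ (PresentedGroup.of k) = q (sub (FreeGroup.of k))
      rw [PresentedGroup.toGroup.of]
    exact fun z => DFunLike.congr_fun this z
  have hφs : Function.Surjective φ := by
    have hr : ∀ k, q (sub (FreeGroup.of k)) ∈ φ.range := fun k => ⟨_, hφ _⟩
    have h0 := hr 0
    have h1 := hr 1
    have h2 := hr 2
    simp only [sub, FreeGroup.lift_apply_of, Matrix.cons_val_zero, Matrix.cons_val_one, Matrix.cons_val_two,
      Matrix.tail_cons, Matrix.head_cons] at h0 h1 h2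
    have hV' : q V ∈ φ.range := by
      have := mul_mem (mul_mem (inv_mem h0) h2) (inv_mem h0)
      have e : ∀ x y : FreeGroup (Fin 3), (q x)⁻¹ * q (x * y * x) * (q x)⁻¹ = q y := fun x y => by
        simp [mul_assoc]
      rwa [e] at this
    rw [← MonoidHom.range_eq_top, eq_top_iff, ← PresentedGroup.closure_range_of, Subgroup.closure_le]
    rintro _ ⟨k, rfl⟩
    fin_cases k
    · show q (FreeGroup.of 0) ∈ φ.range
      have := mul_mem h0 (pow_mem h1 e)
      simpa [U, map_mul, map_inv, map_pow] using this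
    · show q (FreeGroup.of 1) ∈ φ.range
      have := mul_mem (mul_mem (mul_mem (pow_mem h1 j) (inv_mem hV')) (inv_mem (pow_mem h1 j))) (inv_mem (pow_mem h1 e))
      simpa [V, map_mul, map_inv, map_pow, mul_assoc] using this
    · exact h1
  have hcomp : ψ.comp φ = f₀ := by
    refine MonoidHom.ext fun z => ?_
    obtain ⟨z, rfl⟩ := PresentedGroup.mk_surjective _ z
    rw [MonoidHom.comp_apply, hφ, hf₀]
    rfl
  have hb : Function.Bijective f₀ := hδbij.comp ε.bijective
  have hψ : Function.Bijective ψ := by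
    rw [← hcomp] at hb
    refine ⟨fun y y' h => ?_, fun z => ?_⟩
    · obtain ⟨u, rfl⟩ := hφs y
      obtain ⟨u', rfl⟩ := hφs y'
      rw [hb.1 h]
    · obtain ⟨u, hu⟩ := hb.2 z
      exact ⟨φ u, hu⟩
  exact ⟨MulEquiv.ofBijective ψ hψ, fun k => PresentedGroup.toGroup.of hrel⟩

end CfsgLib.SLPres
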