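import Cfsg.Agent.Lib.KnownB.SLPres.Present
import Cfsg.Agent.S3335
import Cfsg.Agent.S3377

/-!
# Presentations of the alternating groups used for the special linear groups
-/

set_option autoImplicit false

open CfsgLib.Presentations

namespace CfsgLib.SLPres

theorem alt_pres_large {n : ℕ} (hn : 5 ≤ n) :
    ∃ t : Fin 3 → alternatingGroup (Fin n), HasPres 3 7 t ⊤ := by
  obtain ⟨t, ht⟩ := three_gen n hn true
  obtain ⟨rels, hk, e, -⟩ := ht.exists_equiv
  exact ⟨_, hasPres_of_iso hk (e : _ ≃* alternatingGroup (Fin n))⟩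

theorem alt_pres_five : ∃ t : Fin 2 → alternatingGroup (Fin 5), HasPres 2 3 t ⊤ := by
  obtain ⟨e⟩ := Cfsg.Agent.S3377.result
  let rels : Finset (FreeGroup (Fin 2)) :=
    {FreeGroup.of 0 ^ 3, FreeGroup.of 1 ^ 5, (FreeGroup.of 0 * FreeGroup.of 1) ^ 2}
  have hk : rels.card ≤ 3 := Finset.card_le_three
  have hs : (↑rels : Set (FreeGroup (Fin 2))) = {FreeGroup.of 0 ^ 3, FreeGroup.of 1 ^ 5,
      (FreeGroup.of 0 * FreeGroup.of 1) ^ 2} := by simp [rels]
  exact ⟨_, hasPres_of_iso hk (hs ▸ e)⟩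

theorem alt_pres_four : ∃ t : Fin 2 → alternatingGroup (Fin 4), HasPres 2 3 t ⊤ := by
  obtain ⟨e⟩ := Cfsg.Agent.S3335.result 4 (by norm_num)
  let rels : Finset (FreeGroup (Fin 2)) :=
    {FreeGroup.of 0 ^ 3, FreeGroup.of 1 ^ 2, (FreeGroup.of 0 * FreeGroup.of 1) ^ 3}
  have hk : rels.card ≤ 3 := Finset.card_le_three
  have hs : (↑rels : Set (FreeGroup (Fin 2))) =
      ({g : FreeGroup (Fin (4 - 2)) | ∃ i : Fin (4 - 2), i.val = 0 ∧ g = FreeGroup.of i ^ 3} ∪
       {g | ∃ i : Fin (4 - 2), 1 ≤ i.val ∧ g = FreeGroup.of i ^ 2} ∪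
       {g | ∃ i j : Fin (4 - 2), j.val = i.val + 1 ∧ g = (FreeGroup.of i * FreeGroup.of j) ^ 3} ∪
       {g | ∃ i j : Fin (4 - 2), i.val + 1 < j.val ∧ g = (FreeGroup.of i * FreeGroup.of j) ^ 2}) := by
    ext g
    simp only [rels, Finset.coe_insert, Finset.coe_singleton, Set.mem_insert_iff, Set.mem_singleton_iff,
      Set.mem_union, Set.mem_setOf_eq]
    constructor
    · rintro (rfl | rfl | rfl)
      · exact Or.inl (Or.inl (Or.inl ⟨0, rfl, rfl⟩))
      · exact Or.inl (Or.inl (Or.inr ⟨1, le_rfl, rfl⟩))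
      · exact Or.inl (Or.inr ⟨0, 1, rfl, rfl⟩)
    · rintro (((⟨i, hi, rfl⟩ | ⟨i, hi, rfl⟩) | ⟨i, j, hij, rfl⟩) | ⟨i, j, hij, rfl⟩)
      · obtain rfl : i = 0 := Fin.ext hi
        exact Or.inl rfl
      · obtain rfl : i = 1 := Fin.ext (by have := i.2; show i.val = 1; omega)
        exact Or.inr (Or.inl rfl)
      · obtain rfl : i = 0 := Fin.ext (by have := j.2; show i.val = 0; omega)
        obtain rfl : j = 1 := Fin.ext (by show j.val = 1; simpa using hij)
        exact Or.inr (Or.inr rfl)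
      · have := j.2
        omega
  exact ⟨_, hasPres_of_iso hk (hs ▸ e)⟩

/-- The presentations of `SL n` used in the statements. -/
theorem sl_pres_counts {F : Type*} [Field F] [Fintype F] {n : ℕ} (hn : 4 ≤ n) :
    ∃ s : Fin 7 → Matrix.SpecialLinearGroup (Fin n) F, HasPres 7 25 s ⊤ := by
  rcases (show n = 4 ∨ 5 ≤ n by omega) with rfl | h5
  · obtain ⟨t, ht⟩ := alt_pres_four
    obtain ⟨s, hs⟩ := pres_sl (F := F) hn ht
    obtain ⟨s, hs⟩ := hasPres_succ hs
    obtain ⟨s, hs⟩ := hasPres_succ hs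
    obtain ⟨s, hs⟩ := hasPres_succ hs
    exact ⟨s, hs.mono (by norm_num)⟩
  · obtain ⟨t, ht⟩ := alt_pres_large h5
    obtain ⟨s, hs⟩ := pres_sl (F := F) hn ht
    obtain ⟨s, hs⟩ := hasPres_succ hs
    obtain ⟨s, hs⟩ := hasPres_succ hs
    exact ⟨s, hs.mono (by norm_num)⟩

/-- The centre of `SL n` over a field is cyclic. -/
theorem exists_center_gen {F : Type*} [Field F] [Fintype F] (n : ℕ) [NeZero n] :
    ∃ z ∈ Subgroup.center (Matrix.SpecialLinearGroup (Fin n) F),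
      Subgroup.center (Matrix.SpecialLinearGroup (Fin n) F) ≤ Subgroup.zpowers z := by
  haveI : IsCyclic (Subgroup.center (Matrix.SpecialLinearGroup (Fin n) F)) := by
    obtain e := Matrix.SpecialLinearGroup.center_equiv_rootsOfUnity (n := Fin n) (R := F)
    exact isCyclic_of_injective e.toMonoidHom e.injective
  obtain ⟨z, hz⟩ := IsCyclic.exists_generator (α := Subgroup.center (Matrix.SpecialLinearGroup (Fin n) F))
  refine ⟨z.1, z.2, fun x hx => ?_⟩
  obtain ⟨m, hm⟩ := Subgroup.mem_zpowers_iff.1 (hz ⟨x, hx⟩)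
  exact ⟨m, congrArg Subtype.val hm⟩

/-- One more relation presents the projective group. -/
theorem psl_pres {F : Type*} [Field F] [Fintype F] {n g k : ℕ} [NeZero n]
    {s : Fin g → Matrix.SpecialLinearGroup (Fin n) F} (h : HasPres g k s ⊤) :
    ∃ t : Fin g → Matrix.ProjectiveSpecialLinearGroup (Fin n) F, HasPres g (k + 1) t ⊤ := by
  obtain ⟨z, hz, hle⟩ := exists_center_gen (F := F) n
  exact ⟨_, quotient_pres h _ z hz hle⟩

end CfsgLib.SLPres
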