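import Mathlib

/-!
# A polynomial whose two power relations only leave the minimal polynomial
-/

set_option autoImplicit false

open Polynomial

namespace CfsgLib.SLPres

variable {p : ℕ} [Fact p.Prime] {F : Type*} [Field F] [Finite F] [Algebra (ZMod p) F]

/-- For `c ^ i = s`, `c ^ j = 1 + s` there is a polynomial `A` with `A(s) = c` such that every ideal containing
`A ^ i - X` and `A ^ j - 1 - X` contains the minimal polynomial of `s`. -/
theorem exists_annihilator {s c : F} (hs : Algebra.adjoin (ZMod p) ({s} : Set F) = ⊤) {i j : ℕ}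
    (hi : 0 < i) (hj : 0 < j) (hci : c ^ i = s) (hcj : c ^ j = 1 + s) :
    ∃ A : (ZMod p)[X], aeval s A = c ∧
      ∀ I : Ideal (ZMod p)[X], A ^ i - X ∈ I → A ^ j - 1 - X ∈ I → minpoly (ZMod p) s ∈ I := by
  classical
  have hp : p.Prime := Fact.out
  set f := minpoly (ZMod p) s with hf
  have hint : IsIntegral (ZMod p) s := Algebra.IsIntegral.isIntegral s
  have hfirr : Irreducible f := minpoly.irreducible hint
  have hsep : f.Separable := PerfectField.separable_of_irreducible hfirr
  have hfs : aeval s f = 0 := minpoly.aeval _ _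
  have hf' : aeval s (derivative f) ≠ 0 := hsep.aeval_derivative_ne_zero hfs
  have hsurj : ∀ x : F, ∃ Q : (ZMod p)[X], aeval s Q = x := fun x => by
    have hx : x ∈ Algebra.adjoin (ZMod p) ({s} : Set F) := hs ▸ Algebra.mem_top
    rw [Algebra.adjoin_singleton_eq_range_aeval] at hx
    exact hx
  cases nonempty_fintype F
  set n := Module.finrank (ZMod p) F
  set M := Nat.factorial (i + j + n)
  have hcardF : Fintype.card F = p ^ n := by
    have h := Module.natCard_eq_pow_finrank (K := ZMod p) (V := F)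
    rwa [Nat.card_eq_fintype_card, Nat.card_zmod] at h
  have hnM : n ∣ M := Nat.dvd_factorial Module.finrank_pos (by omega)
  have hM : 0 < M := Nat.factorial_pos _
  have hN1s : aeval s (X ^ p ^ M - X : (ZMod p)[X]) = 0 := by
    obtain ⟨k, hk⟩ := hnM
    rw [map_sub, map_pow, aeval_X, hk, pow_mul, ← hcardF, FiniteField.pow_card_pow, sub_self]
  obtain ⟨N, hN⟩ : f ∣ (X ^ p ^ M - X : (ZMod p)[X]) := minpoly.dvd _ _ hN1s
  have hNs : aeval s N ≠ 0 := by
    intro h0
    have e := congrArg (fun Q => aeval s (derivative Q)) hN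
    simp only [derivative_sub, derivative_X_pow, derivative_X, derivative_mul, map_sub, map_add, map_mul, hfs,
      h0, map_one, zero_mul, mul_zero, add_zero, map_pow, aeval_X, aeval_C] at e
    rw [Nat.cast_pow, CharP.cast_eq_zero (ZMod p) p, zero_pow hM.ne', map_zero, zero_mul, zero_sub] at e
    exact one_ne_zero (neg_eq_zero.1 e)
  obtain ⟨R₀, hR₀⟩ := hsurj (c / aeval s N)
  obtain ⟨R₁, hR₁⟩ := hsurj (-(aeval s (derivative (N * R₀))) / (aeval s N * aeval s (derivative f)))
  set A := N * (R₀ + f * R₁) with hA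
  have hAs : aeval s A = c := by
    simp only [hA, map_mul, map_add, hfs, zero_mul, add_zero, hR₀]
    field_simp
  have hA' : aeval s (derivative A) = 0 := by
    have e : A = N * R₀ + N * f * R₁ := by rw [hA]; ring
    rw [e, derivative_add, derivative_mul (f := N * f), derivative_mul (f := N) (g := f)]
    simp only [map_add, map_mul, hfs, hR₁, mul_zero, zero_mul, add_zero, zero_add]
    field_simp
    ring
  refine ⟨A, hAs, fun I h1 h2 => ?_⟩
  set g := EuclideanDomain.gcd (A ^ i - X) (A ^ j - 1 - X) with hg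
  have hgI : g ∈ I := by
    rw [hg, EuclideanDomain.gcd_eq_gcd_ab]
    exact add_mem (I.mul_mem_right _ h1) (I.mul_mem_right _ h2)
  suffices h : g ∣ f by
    obtain ⟨d, hd⟩ := h
    rw [hd]
    exact I.mul_mem_right _ hgI
  have hg1 : g ∣ A ^ i - X := EuclideanDomain.gcd_dvd_left _ _
  have hg2 : g ∣ A ^ j - 1 - X := EuclideanDomain.gcd_dvd_right _ _
  have hd1 : aeval s (derivative (A ^ i - X)) = -1 := by
    simp [derivative_pow, hA']
  have hsq : ¬ f * f ∣ A ^ i - X := by
    rintro ⟨d, hd⟩
    rw [hd] at hd1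
    simp [derivative_mul, hfs] at hd1
  have hirr : ∀ r : (ZMod p)[X], Irreducible r → r ∣ g → r ∣ f := by
    intro r hr hrg
    haveI : Fact (Irreducible r) := ⟨hr⟩
    set θ := AdjoinRoot.root r
    have hz1 : aeval θ A ^ i = θ := by
      have := AdjoinRoot.mk_eq_zero.2 (hrg.trans hg1)
      rwa [← AdjoinRoot.aeval_eq, map_sub, map_pow, aeval_X, sub_eq_zero] at this
    have hz2 : aeval θ A ^ j = 1 + θ := by
      have := AdjoinRoot.mk_eq_zero.2 (hrg.trans hg2)
      rw [← AdjoinRoot.aeval_eq, map_sub, map_sub, map_pow, map_one, aeval_X] at this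
      linear_combination this
    set z := aeval θ A with hz
    have hz0 : z ≠ 0 := fun h0 => by
      rw [h0, zero_pow hi.ne'] at hz1
      rw [h0, zero_pow hj.ne', ← hz1, add_zero] at hz2
      exact zero_ne_one hz2
    have hNθ : aeval θ N ≠ 0 := fun h0 => hz0 (by rw [hz, hA, map_mul, h0, zero_mul])
    have hθz : θ ∈ Algebra.adjoin (ZMod p) ({z} : Set (AdjoinRoot r)) := by
      rw [← hz1]; exact pow_mem (Algebra.subset_adjoin (Set.mem_singleton _)) _
    have htop : Algebra.adjoin (ZMod p) ({z} : Set (AdjoinRoot r)) = ⊤ := by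
      rw [eq_top_iff, ← AdjoinRoot.adjoinRoot_eq_top]
      exact Algebra.adjoin_le (Set.singleton_subset_iff.2 hθz)
    haveI : FiniteDimensional (ZMod p) (AdjoinRoot r) := (AdjoinRoot.powerBasis hr.ne_zero).finite
    haveI : Finite (AdjoinRoot r) := Module.finite_of_finite (ZMod p)
    cases nonempty_fintype (AdjoinRoot r)
    have hzint : IsIntegral (ZMod p) z := Algebra.IsIntegral.isIntegral z
    set d := Module.finrank (ZMod p) (AdjoinRoot r)
    have hd : d ≤ i + j := by
      have e1 : d = (minpoly (ZMod p) z).natDegree := by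
        show Module.finrank (ZMod p) (AdjoinRoot r) = _
        rw [(PowerBasis.ofAdjoinEqTop hzint htop).finrank]
        exact PowerBasis.ofAdjoinEqTop_dim _ _
      have hQ : aeval z (X ^ j - X ^ i - 1 : (ZMod p)[X]) = 0 := by
        simp [hz2, hz1]
      have hQ0 : (X ^ j - X ^ i - 1 : (ZMod p)[X]) ≠ 0 := fun h => by
        have h' := congrArg (eval 0) h
        simp [hi.ne', hj.ne'] at h'
      rw [e1]
      refine (natDegree_le_of_dvd (minpoly.dvd _ _ hQ) hQ0).trans ?_
      refine (natDegree_sub_le _ _).trans ?_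
      simp only [natDegree_one, Nat.max_zero]
      refine (natDegree_sub_le _ _).trans ?_
      simp only [natDegree_X_pow]
      omega
    have hcard : Fintype.card (AdjoinRoot r) = p ^ d := by
      have h := Module.natCard_eq_pow_finrank (K := ZMod p) (V := AdjoinRoot r)
      rwa [Nat.card_eq_fintype_card, Nat.card_zmod] at h
    have hN1 : aeval θ (X ^ p ^ M - X : (ZMod p)[X]) = 0 := by
      obtain ⟨k, hk⟩ : d ∣ M := Nat.dvd_factorial Module.finrank_pos (by omega)
      rw [map_sub, map_pow, aeval_X, hk, pow_mul, ← hcard, FiniteField.pow_card_pow, sub_self]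
    rw [hN, map_mul] at hN1
    have hfθ : aeval θ f = 0 := (mul_eq_zero.1 hN1).resolve_right hNθ
    rwa [AdjoinRoot.aeval_eq, AdjoinRoot.mk_eq_zero] at hfθ
  have hg0 : g ≠ 0 := fun h => by
    rw [h] at hg1
    rw [zero_dvd_iff.1 hg1] at hd1
    simp at hd1
  by_cases hfg : f ∣ g
  · obtain ⟨d, hd⟩ := hfg
    by_cases hu : IsUnit d
    · rw [hd]; exact (hu.mul_right_dvd).2 dvd_rfl
    · obtain ⟨r, hr, hrd⟩ := WfDvdMonoid.exists_irreducible_factor hu (by rintro rfl; simp [hd] at hg0)
      have hrf : r ∣ f := hirr r hr (hd ▸ hrd.mul_left f)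
      have hfr : f ∣ r := (hfirr.dvd_iff.1 hrf).elim (fun h => absurd h hr.not_isUnit) fun h => h.dvd
      exact absurd ((mul_dvd_mul_left f (hfr.trans hrd)).trans (hd ▸ hg1)) hsq
  · by_cases hu : IsUnit g
    · exact hu.dvd
    · obtain ⟨r, hr, hrg⟩ := WfDvdMonoid.exists_irreducible_factor hu hg0
      have hrf : r ∣ f := hirr r hr hrg
      have hfr : f ∣ r := (hfirr.dvd_iff.1 hrf).elim (fun h => absurd h hr.not_isUnit) fun h => h.dvd
      exact absurd (hfr.trans hrg) hfg

end CfsgLib.SLPres
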