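import Cfsg.Agent.Lib.KnownB.Pres.Core
import Cfsg.Agent.Lib.KnownB.Pres.Hex

/-!
# The module of the conjugates of an element by the powers of another
-/

set_option autoImplicit false

open Multiplicative Polynomial

namespace CfsgLib.SLPres

variable {p : ℕ} [Fact p.Prime] {P : Type*} [Group P]

/-- The word of a polynomial in the conjugates of `u` by powers of `a`. -/
def polyWord (u a : P) (Q : (ZMod p)[X]) : P :=
  ((List.range (Q.natDegree + 1)).map fun k => (a ^ k * u * (a ^ k)⁻¹) ^ (Q.coeff k).val).prod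

theorem map_polyWord {R : Type*} [Group R] (f : P →* R) (u a : P) (Q : (ZMod p)[X]) :
    f (polyWord u a Q) = polyWord (f u) (f a) Q := by
  simp [polyWord, map_list_prod, List.map_map, Function.comp_def]

/-- A homomorphism on the polynomials with the value of the conjugates on the monomials is given by the word. -/
theorem eval_polyWord (ψ : Multiplicative (ZMod p)[X] →* P) {u a : P}
    (h : ∀ k : ℕ, ψ (ofAdd (X ^ k)) = a ^ k * u * (a ^ k)⁻¹) (Q : (ZMod p)[X]) :
    ψ (ofAdd Q) = polyWord u a Q := by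
  have hQ : Q = ((List.range (Q.natDegree + 1)).map fun k => (Q.coeff k).val • (X : (ZMod p)[X]) ^ k).sum := by
    rw [← List.sum_toFinset _ List.nodup_range, List.toFinset_range]
    conv_lhs => rw [Q.as_sum_range' (Q.natDegree + 1) (by omega)]
    refine Finset.sum_congr rfl fun k _ => ?_
    rw [← C_mul_X_pow_eq_monomial, nsmul_eq_mul, ← C_eq_natCast, ZMod.natCast_zmod_val]
  conv_lhs => rw [hQ]
  rw [ofAdd_list_prod, map_list_prod, List.map_map, List.map_map, polyWord]
  congr 1
  refine List.map_congr_left fun k _ => ?_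
  simp only [Function.comp_def, ofAdd_nsmul, map_pow, h]

/-- The polynomials act on the conjugates of `u` when those commute and `u` has order dividing `p`. -/
theorem exists_polyHom {u a : P} (hu : u ^ p = 1)
    (hc : ∀ k l : ℕ, Commute (a ^ k * u * (a ^ k)⁻¹) (a ^ l * u * (a ^ l)⁻¹)) :
    ∃ ψ : Multiplicative (ZMod p)[X] →* P,
      (∀ k : ℕ, ψ (ofAdd (X ^ k)) = a ^ k * u * (a ^ k)⁻¹) ∧
      (∀ Q, a * ψ (ofAdd Q) * a⁻¹ = ψ (ofAdd (X * Q))) := by
  classical
  let v : ℕ → P := fun k => a ^ k * u * (a ^ k)⁻¹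
  have hv : ∀ k, v k ^ p = 1 := fun k => by simp only [v]; rw [conj_pow, hu, mul_one, mul_inv_cancel]
  set S : Subgroup P := Subgroup.closure (Set.range v) with hS
  have : IsMulCommutative ↥S := Subgroup.isMulCommutative_closure fun x hx y hy => by
    obtain ⟨k, rfl⟩ := hx
    obtain ⟨l, rfl⟩ := hy
    exact (hc k l).eq
  open scoped IsMulCommutative in
  let w : ℕ → ↥S := fun k => ⟨v k, Subgroup.subset_closure ⟨k, rfl⟩⟩
  open scoped IsMulCommutative in
  let ch : ℕ → (ZMod p →+ Additive ↥S) := fun k => ZMod.lift p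
    ⟨zmultiplesHom (Additive ↥S) (Additive.ofMul (w k)), by
      apply Additive.toMul.injective
      apply Subtype.ext
      simpa [w] using hv k⟩
  open scoped IsMulCommutative in
  let Φ : (ZMod p)[X] →+ Additive ↥S :=
    AddMonoidHom.mk' (fun Q => Q.sum fun k c => ch k c)
      fun f g => Polynomial.sum_add_index f g _ (fun k => map_zero (ch k)) (fun k x y => map_add (ch k) x y)
  open scoped IsMulCommutative in
  let ψ : Multiplicative (ZMod p)[X] →* P := S.subtype.comp (AddMonoidHom.toMultiplicativeLeft Φ)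
  have h1 : ∀ k, ψ (ofAdd (X ^ k)) = v k := by
    intro k
    have h1' : Fact (1 < p) := ⟨(Fact.out : p.Prime).one_lt⟩
    show ((Additive.toMul (Φ (X ^ k)) : ↥S) : P) = v k
    simp only [Φ, AddMonoidHom.mk'_apply]
    rw [X_pow_eq_monomial, Polynomial.sum_monomial_index (1 : ZMod p) (fun i c => ch i c) (map_zero (ch k))]
    have : (1 : ZMod p) = ((1 : ℤ) : ZMod p) := by simp
    rw [this]
    simp only [ch, ZMod.lift_coe, zmultiplesHom_apply, one_smul]
    rfl
  clear_value ψ
  refine ⟨ψ, h1, fun Q => ?_⟩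
  have key : (MulAut.conj a).toMonoidHom.comp ψ =
      ψ.comp (AddMonoidHom.toMultiplicative (AddMonoidHom.mulLeft X)) := by
    refine MonoidHom.ext fun x => ?_
    rw [← ofAdd_toAdd x]
    induction x.toAdd using Polynomial.induction_on' with
    | add f g hf hg => rw [ofAdd_add, map_mul, map_mul, hf, hg]
    | monomial n c =>
      have e : monomial n c = c.val • (X : (ZMod p)[X]) ^ n := by
        rw [← C_mul_X_pow_eq_monomial, nsmul_eq_mul, ← C_eq_natCast, ZMod.natCast_zmod_val]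
      rw [e, ofAdd_nsmul, MonoidHom.map_pow, MonoidHom.map_pow]
      refine congrArg (fun z : P => z ^ c.val) ?_
      show a * ψ (ofAdd (X ^ n)) * a⁻¹ = ψ (ofAdd (X * X ^ n))
      rw [h1, ← pow_succ', h1]
      simp only [v, pow_succ' a, mul_inv_rev, mul_assoc]
  exact DFunLike.congr_fun key (ofAdd Q)

/-- The annihilator of all shifts. -/
def annIdeal (ψ : Multiplicative (ZMod p)[X] →* P) : Ideal (ZMod p)[X] where
  carrier := {Q | ∀ R, ψ (ofAdd (Q * R)) = 1}
  zero_mem' := fun R => by rw [zero_mul, ofAdd_zero, map_one]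
  add_mem' := fun {a b} ha hb R => by rw [add_mul, ofAdd_add, map_mul, ha R, hb R, mul_one]
  smul_mem' := fun c Q hQ R => by rw [smul_eq_mul, mul_comm c Q, mul_assoc]; exact hQ _

theorem mem_annIdeal {ψ : Multiplicative (ZMod p)[X] →* P} {Q : (ZMod p)[X]} :
    Q ∈ annIdeal ψ ↔ ∀ R, ψ (ofAdd (Q * R)) = 1 := Iff.rfl

/-- An element commuting with `a` and sending `u` to the value of a polynomial multiplies by it. -/
theorem conj_mul_poly {ψ : Multiplicative (ZMod p)[X] →* P} {u a h : P}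
    (h1 : ∀ k : ℕ, ψ (ofAdd (X ^ k)) = a ^ k * u * (a ^ k)⁻¹)
    (ha : ∀ Q, a * ψ (ofAdd Q) * a⁻¹ = ψ (ofAdd (X * Q)))
    (hcomm : Commute h a) {A : (ZMod p)[X]} (hA : h * u * h⁻¹ = ψ (ofAdd A)) (Q : (ZMod p)[X]) :
    h * ψ (ofAdd Q) * h⁻¹ = ψ (ofAdd (A * Q)) := by
  have hk : ∀ k : ℕ, ∀ Q, a ^ k * ψ (ofAdd Q) * (a ^ k)⁻¹ = ψ (ofAdd (X ^ k * Q)) := by
    intro k
    induction k with
    | zero => simp
    | succ k ih =>
      intro Q
      calc a ^ (k + 1) * ψ (ofAdd Q) * (a ^ (k + 1))⁻¹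
          = a * (a ^ k * ψ (ofAdd Q) * (a ^ k)⁻¹) * a⁻¹ := by
            rw [pow_succ']; simp only [mul_inv_rev, mul_assoc]
        _ = _ := by rw [ih, ha, ← mul_assoc, ← pow_succ']
  have key : (MulAut.conj h).toMonoidHom.comp ψ =
      ψ.comp (AddMonoidHom.toMultiplicative (AddMonoidHom.mulLeft A)) := by
    refine MonoidHom.ext fun x => ?_
    rw [← ofAdd_toAdd x]
    induction x.toAdd using Polynomial.induction_on' with
    | add f g hf hg => rw [ofAdd_add, map_mul, map_mul, hf, hg]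
    | monomial n c =>
      have e : monomial n c = c.val • (X : (ZMod p)[X]) ^ n := by
        rw [← C_mul_X_pow_eq_monomial, nsmul_eq_mul, ← C_eq_natCast, ZMod.natCast_zmod_val]
      rw [e, ofAdd_nsmul, MonoidHom.map_pow, MonoidHom.map_pow]
      refine congrArg (fun z : P => z ^ c.val) ?_
      show h * ψ (ofAdd (X ^ n)) * h⁻¹ = ψ (ofAdd (A * X ^ n))
      rw [h1, mul_comm A, ← hk n A, ← hA]
      have hn : h * a ^ n = a ^ n * h := (hcomm.pow_right n).eq
      calc h * (a ^ n * u * (a ^ n)⁻¹) * h⁻¹ = h * a ^ n * u * (h * a ^ n)⁻¹ := by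
            simp only [mul_inv_rev, mul_assoc]
        _ = _ := by rw [hn]; simp only [mul_inv_rev, mul_assoc]
  exact DFunLike.congr_fun key (ofAdd Q)

/-- The conjugation by a power of such an element multiplies by the power. -/
theorem conj_pow_poly {ψ : Multiplicative (ZMod p)[X] →* P} {h : P} {A : (ZMod p)[X]}
    (hA : ∀ Q, h * ψ (ofAdd Q) * h⁻¹ = ψ (ofAdd (A * Q))) (m : ℕ) (Q : (ZMod p)[X]) :
    h ^ m * ψ (ofAdd Q) * (h ^ m)⁻¹ = ψ (ofAdd (A ^ m * Q)) := by
  induction m generalizing Q with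
  | zero => simp
  | succ m ih =>
    calc h ^ (m + 1) * ψ (ofAdd Q) * (h ^ (m + 1))⁻¹ = h * (h ^ m * ψ (ofAdd Q) * (h ^ m)⁻¹) * h⁻¹ := by
          rw [pow_succ']; simp only [mul_inv_rev, mul_assoc]
      _ = _ := by rw [ih, hA, ← mul_assoc, ← pow_succ']

variable {F : Type*} [Field F] [Algebra (ZMod p) F]

/-- When the kernel of the evaluation at `s` annihilates, the polynomial map factors through the field. -/
theorem exists_fieldHom {ψ : Multiplicative (ZMod p)[X] →* P} {s : F}
    (hs : Algebra.adjoin (ZMod p) ({s} : Set F) = ⊤)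
    (hker : ∀ Q : (ZMod p)[X], aeval s Q = 0 → ψ (ofAdd Q) = 1) :
    ∃ φ : Multiplicative F →* P, ∀ Q : (ZMod p)[X], φ (ofAdd (aeval s Q)) = ψ (ofAdd Q) := by
  classical
  have hsurj : ∀ x : F, ∃ Q : (ZMod p)[X], aeval s Q = x := fun x => by
    have hx : x ∈ Algebra.adjoin (ZMod p) ({s} : Set F) := hs ▸ Algebra.mem_top
    rw [Algebra.adjoin_singleton_eq_range_aeval] at hx
    exact hx
  choose c hc using hsurj
  have wd : ∀ Q : (ZMod p)[X], ψ (ofAdd (c (aeval s Q))) = ψ (ofAdd Q) := fun Q => by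
    have h := hker (c (aeval s Q) - Q) (by rw [map_sub, hc, sub_self])
    rw [ofAdd_sub, MonoidHom.map_div, div_eq_one] at h
    exact h
  refine ⟨{ toFun := fun x => ψ (ofAdd (c x.toAdd)), map_one' := ?_, map_mul' := fun x y => ?_ }, wd⟩
  · show ψ (ofAdd (c 0)) = 1
    rw [← map_zero (aeval s (R := ZMod p)), wd, ofAdd_zero, map_one]
  · show ψ (ofAdd (c (x.toAdd + y.toAdd))) = _
    rw [← hc x.toAdd, ← hc y.toAdd, ← map_add, wd, wd, wd, ofAdd_add, map_mul]

end CfsgLib.SLPres
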