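import Cfsg.Agent.Lib.KnownB.Pres.SL2Pres
import Cfsg.Agent.Lib.KnownB.SLPres.Module
import Cfsg.Agent.Lib.KnownB.SLPres.Annihilator

/-!
# Presentations of `SL(2, q)` with seven relations and known generators
-/

set_option autoImplicit false

open Multiplicative Matrix Polynomial CfsgLib.Classical CfsgLib.SL2Pres
open scoped MatrixGroups

namespace CfsgLib.SLPres

variable {p : ℕ} [Fact p.Prime] {F : Type*} [Field F] [Algebra (ZMod p) F]

/-- The relations `u ^ p`, the action of `h`, the three Weyl relations, and enough extra relations to make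
the conjugates of `u` a module over the field bound the order. -/
theorem finite_of_short [Fintype F] {P : Type*} [Group P] {u h t : P} {w s : F} {i : ℕ}
    (hw : w ≠ 0) (hgen : ∀ x : F, x ≠ 0 → ∃ e : ℕ, w ^ e = x)
    (hs : Algebra.adjoin (ZMod p) ({s} : Set F) = ⊤) {A B₁ B₂ : (ZMod p)[X]}
    (hA : aeval s A = w ^ 2) (hB₁ : aeval s B₁ = w) (hB₂ : aeval s B₂ = w⁻¹)
    (hu : u ^ p = 1)
    (hc : ∀ k l : ℕ, Commute ((h ^ i) ^ k * u * ((h ^ i) ^ k)⁻¹) ((h ^ i) ^ l * u * ((h ^ i) ^ l)⁻¹))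
    (hhu : h * u * h⁻¹ = polyWord u (h ^ i) A)
    (hker : ∀ ψ : Multiplicative (ZMod p)[X] →* P,
      (∀ k : ℕ, ψ (ofAdd (X ^ k)) = (h ^ i) ^ k * u * ((h ^ i) ^ k)⁻¹) →
      (∀ Q, h * ψ (ofAdd Q) * h⁻¹ = ψ (ofAdd (A * Q))) →
      (∀ Q, h ^ i * ψ (ofAdd Q) * (h ^ i)⁻¹ = ψ (ofAdd (X * Q))) →
      minpoly (ZMod p) s ∈ annIdeal ψ)
    (hth : t * h * t⁻¹ = h⁻¹) (hs1 : u * (t * u * t⁻¹) * u = t)
    (hsw : polyWord u (h ^ i) B₁ * (t * polyWord u (h ^ i) B₂ * t⁻¹) * polyWord u (h ^ i) B₁ = h * t)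
    (hgenP : Subgroup.closure {u, h, t} = ⊤) {N : ℕ} (hN0 : 0 < N) (hN : w ^ N = 1) :
    Finite P ∧ Nat.card P ≤ N * Nat.card F * (Nat.card F + 1) := by
  obtain ⟨ψ, h1, ha⟩ := exists_polyHom hu hc
  have hψA : h * u * h⁻¹ = ψ (ofAdd A) := by rw [eval_polyWord ψ h1, hhu]
  have hh : ∀ Q, h * ψ (ofAdd Q) * h⁻¹ = ψ (ofAdd (A * Q)) :=
    conj_mul_poly h1 ha (Commute.self_pow h i) hψA
  have hmem := hker ψ h1 hh ha
  obtain ⟨φ, hφ⟩ := exists_fieldHom (ψ := ψ) hs fun Q hQ => by
    obtain ⟨R, rfl⟩ := minpoly.dvd _ _ hQ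
    exact hmem R
  have hone : φ (ofAdd 1) = u := by
    have := hφ 1
    rw [map_one] at this
    rw [this, ← pow_zero (X : (ZMod p)[X]), h1]
    simp
  have hword : ∀ Q : (ZMod p)[X], polyWord u (h ^ i) Q = φ (ofAdd (aeval s Q)) := fun Q => by
    rw [hφ, eval_polyWord ψ h1]
  have A₀ : PreAxioms w φ h t := by
    refine ⟨fun x => ?_, hth, ?_, ?_⟩
    · obtain ⟨Q, rfl⟩ : ∃ Q : (ZMod p)[X], aeval s Q = x := by
        have hx : x ∈ Algebra.adjoin (ZMod p) ({s} : Set F) := hs ▸ Algebra.mem_top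
        rwa [Algebra.adjoin_singleton_eq_range_aeval] at hx
      rw [hφ, hh, ← hφ, map_mul, hA]
    · simp only [steinWord, inv_one, hone]; exact hs1
    · simp only [steinWord, ← hB₁]
      rw [← hword B₁, hB₁, ← hB₂, ← hword B₂]
      exact hsw
  obtain ⟨e, he⟩ := hgen (-1) (neg_ne_zero.2 one_ne_zero)
  have hgen' : Subgroup.closure (Set.range φ ∪ {h, t}) = ⊤ := by
    refine eq_top_iff.2 (hgenP.ge.trans (Subgroup.closure_mono ?_))
    rintro z (rfl | rfl | rfl)
    · exact Or.inl ⟨ofAdd 1, hone⟩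
    · exact Or.inr (Or.inl rfl)
    · exact Or.inr (Or.inr rfl)
  exact (show Axioms w φ h t from ⟨A₀.conj_h, A₀.t_h, A₀.t_two hw he, A₀.stein_one, A₀.stein_w, hgen'⟩).card_le
    hw hgen hN0 (A₀.h_pow_eq_one hw hN)

variable [Fintype F]

omit [Fintype F] in
/-- The polynomial word in `SL(2, F)`. -/
theorem polyWord_image {w : F} (hw : w ≠ 0) {i : ℕ} {s : F} (hs : w ^ (2 * i) = s) (Q : (ZMod p)[X]) :
    polyWord (uSL (ofAdd (1 : F))) ((dSL hw) ^ i) Q = uSL (ofAdd (aeval s Q)) := by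
  refine (eval_polyWord ((uSL (F := F)).comp (AddMonoidHom.toMultiplicative (aeval s).toLinearMap.toAddMonoidHom))
    (fun k => ?_) Q).symm
  show uSL (ofAdd (aeval s (X ^ k))) = _
  rw [← pow_mul, dSL_pow_conj, map_pow, aeval_X, mul_one, ← hs, ← pow_mul, mul_assoc]

/-- The common relations, with the powers of `HF` as the module generator. -/
noncomputable def shortCommon (i : ℕ) (B₁ B₂ : (ZMod p)[X]) : List (FreeGroup (Fin 3)) :=
  [rl (UF ^ p) 1, rl (TF * HF * TF⁻¹) HF⁻¹, rl (UF * (TF * UF * TF⁻¹) * UF) TF,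
   rl (polyWord UF (HF ^ i) B₁ * (TF * polyWord UF (HF ^ i) B₂ * TF⁻¹) * polyWord UF (HF ^ i) B₁) (HF * TF)]

/-- A list of relations that holds in `SL(2, F)` and forces the module presents it. -/
theorem short_pres_of [CharP F p] {w : F} (hw : w ≠ 0) (hgen : ∀ x : F, x ≠ 0 → ∃ e : ℕ, w ^ e = x)
    {i : ℕ} {s : F} (hi : w ^ (2 * i) = s) (hs : Algebra.adjoin (ZMod p) ({s} : Set F) = ⊤)
    {A : (ZMod p)[X]} (hA : aeval s A = w ^ 2) (E : List (FreeGroup (Fin 3))) (hlen : E.length ≤ 3)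
    (hEhold : ∀ r ∈ E, FreeGroup.lift ![uSL (ofAdd (1 : F)), dSL hw, jSL] r = 1)
    (hE : ∀ (P : Type) [Group P] (f : FreeGroup (Fin 3) →* P), f UF ^ p = 1 → (∀ r ∈ E, f r = 1) →
      (∀ k l : ℕ, Commute ((f HF ^ i) ^ k * f UF * ((f HF ^ i) ^ k)⁻¹) ((f HF ^ i) ^ l * f UF * ((f HF ^ i) ^ l)⁻¹)) ∧
      f HF * f UF * (f HF)⁻¹ = polyWord (f UF) (f HF ^ i) A ∧
      ∀ ψ : Multiplicative (ZMod p)[X] →* P,
      (∀ k : ℕ, ψ (ofAdd (X ^ k)) = (f HF ^ i) ^ k * f UF * ((f HF ^ i) ^ k)⁻¹) →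
      (∀ Q, f HF * ψ (ofAdd Q) * (f HF)⁻¹ = ψ (ofAdd (A * Q))) →
      (∀ Q, f HF ^ i * ψ (ofAdd Q) * (f HF ^ i)⁻¹ = ψ (ofAdd (X * Q))) →
      minpoly (ZMod p) s ∈ annIdeal ψ) :
    ∃ rels : Finset (FreeGroup (Fin 3)), rels.card ≤ 7 ∧
      ∃ e : PresentedGroup (↑rels : Set (FreeGroup (Fin 3))) ≃* SL(2, F),
        ∀ k, e (PresentedGroup.of k) = ![uSL (ofAdd (1 : F)), dSL hw, jSL] k := by
  classical
  have hsurj : ∀ x : F, ∃ Q : (ZMod p)[X], aeval s Q = x := fun x => by
    have hx : x ∈ Algebra.adjoin (ZMod p) ({s} : Set F) := hs ▸ Algebra.mem_top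
    rw [Algebra.adjoin_singleton_eq_range_aeval] at hx
    exact hx
  obtain ⟨B₁, hB₁⟩ := hsurj w
  obtain ⟨B₂, hB₂⟩ := hsurj w⁻¹
  set rels := (shortCommon i B₁ B₂ ++ E).toFinset with hrels
  refine ⟨rels, (List.toFinset_card_le _).trans (by simp [shortCommon]; omega), ?_⟩
  have hint : IsIntegral (ZMod p) s := Algebra.IsIntegral.isIntegral s
  let pb := PowerBasis.ofAdjoinEqTop hint hs
  have R := rels_image (pb := pb) (MonoidHom.id SL(2, F)) hw Function.surjective_id (i := i)
    (by rw [PowerBasis.ofAdjoinEqTop_gen, hi])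
  simp only [uG, MonoidHom.comp_apply, MonoidHom.id_apply] at R
  refine iso_of_card' rels _ (fun r hr => ?_) R.gen ?_
  · simp only [hrels, List.mem_toFinset, List.mem_append, shortCommon, List.mem_cons, List.not_mem_nil,
      or_false] at hr
    rcases hr with (rfl | rfl | rfl | rfl) | hr
    · simpa [map_rl] using R.u_pow
    · simpa [map_rl] using R.th
    · simpa [map_rl] using R.s1
    · simp only [map_rl, map_mul, map_inv, map_pow, map_polyWord, FreeGroup.lift_apply_of, Matrix.cons_val_zero,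
        Matrix.cons_val_one, Matrix.cons_val_two, Matrix.tail_cons, Matrix.head_cons]
      rw [polyWord_image hw hi, polyWord_image hw hi, hB₁, hB₂]
      exact stein_image hw
    · exact hEhold r hr
  let f : FreeGroup (Fin 3) →* PresentedGroup (↑rels : Set (FreeGroup (Fin 3))) := PresentedGroup.mk _
  have hf : ∀ r ∈ shortCommon i B₁ B₂ ++ E, f r = 1 := fun r hr =>
    PresentedGroup.one_of_mem (by simpa [hrels] using hr)
  have hgenP : Subgroup.closure {f UF, f HF, f TF} = ⊤ := by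
    rw [← lift_three]; exact PresentedGroup.closure_range_of _
  simp only [shortCommon, List.cons_append, List.nil_append, List.forall_mem_cons, map_rl, map_pow, map_mul,
    map_inv, map_one, map_polyWord] at hf
  obtain ⟨r1, r2, r3, r4, r5⟩ := hf
  obtain ⟨hcm, hhu, hk⟩ := hE _ f r1 r5
  have hN : w ^ (Fintype.card F - 1) = 1 := FiniteField.pow_card_sub_one_eq_one w hw
  have h2 : 2 ≤ Fintype.card F := Fintype.one_lt_card
  obtain ⟨hfin, hle⟩ := finite_of_short hw hgen hs hA hB₁ hB₂ r1 hcm hhu hk r2 r3 r4 hgenP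
    (N := Fintype.card F - 1) (by omega) hN
  refine ⟨hfin, hle.trans (le_of_eq ?_)⟩
  rw [card_sl2 rfl, Nat.card_eq_fintype_card (α := F)]
  obtain ⟨r, hr⟩ : ∃ r, Fintype.card F = r + 1 := ⟨Fintype.card F - 1, by omega⟩
  have e : (r + 1) ^ 2 - 1 = r * (r + 2) := by
    rw [show (r + 1) ^ 2 = r * (r + 2) + 1 by ring, Nat.add_sub_cancel]
  rw [hr, Nat.add_sub_cancel, e]
  ring

/-- Two commuting conjugates with a recursion make all conjugates commute. -/
theorem comm_of_two {P : Type*} [Group P] {u a : P} {c d : ℕ}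
    (hv : Commute u (a * u * a⁻¹)) (hr : a ^ 2 * u * (a ^ 2)⁻¹ = u ^ c * (a * u * a⁻¹) ^ d) (k l : ℕ) :
    Commute (a ^ k * u * (a ^ k)⁻¹) (a ^ l * u * (a ^ l)⁻¹) := by
  set v := a * u * a⁻¹ with hv'
  set S := Subgroup.closure ({u, v} : Set P)
  have hcomm : IsMulCommutative ↥S := Subgroup.isMulCommutative_closure fun x hx y hy => by
    rcases hx with rfl | rfl <;> rcases hy with rfl | rfl
    · rfl
    · exact hv.eq
    · exact hv.eq.symm
    · rfl
  have hu : u ∈ S := Subgroup.subset_closure (Or.inl rfl)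
  have hvm : v ∈ S := Subgroup.subset_closure (Or.inr rfl)
  have hstep : ∀ x ∈ S, a * x * a⁻¹ ∈ S := by
    intro x hx
    have : S ≤ S.comap (MulAut.conj a).toMonoidHom := by
      rw [Subgroup.closure_le]
      rintro z (rfl | rfl)
      · exact hvm
      · show a * v * a⁻¹ ∈ S
        rw [hv', show a * (a * u * a⁻¹) * a⁻¹ = a ^ 2 * u * (a ^ 2)⁻¹ by simp [pow_two, mul_assoc], hr]
        exact mul_mem (pow_mem hu _) (pow_mem hvm _)
    exact this hx
  have hall : ∀ k : ℕ, a ^ k * u * (a ^ k)⁻¹ ∈ S := by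
    intro k
    induction k with
    | zero => simpa using hu
    | succ k ih =>
      have := hstep _ ih
      rwa [show a * (a ^ k * u * (a ^ k)⁻¹) * a⁻¹ = a ^ (k + 1) * u * (a ^ (k + 1))⁻¹ by
        rw [pow_succ']; simp only [_root_.mul_inv_rev, mul_assoc]] at this
  have := congrArg Subtype.val (hcomm.is_comm.comm (⟨_, hall k⟩ : ↥S) ⟨_, hall l⟩)
  exact this

/-- The odd characteristic. -/
theorem short_odd [CharP F p] (hp3 : 3 ≤ p) {w : F} (hw : w ≠ 0)
    (hgen : ∀ x : F, x ≠ 0 → ∃ e : ℕ, w ^ e = x) :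
    ∃ rels : Finset (FreeGroup (Fin 3)), rels.card ≤ 7 ∧
      ∃ e : PresentedGroup (↑rels : Set (FreeGroup (Fin 3))) ≃* SL(2, F),
        ∀ k, e (PresentedGroup.of k) = ![uSL (ofAdd (1 : F)), dSL hw, jSL] k := by
  classical
  obtain ⟨n, hn0, hn⟩ := FiniteField.card F p
  have hnF : Nat.card F = p ^ (n : ℕ) := by rw [Nat.card_eq_fintype_card, hn]
  have hsurj : ∀ s : F, Algebra.adjoin (ZMod p) ({s} : Set F) = ⊤ → ∀ x : F, ∃ Q : (ZMod p)[X], aeval s Q = x :=
    fun s hs x => by
      have hx : x ∈ Algebra.adjoin (ZMod p) ({s} : Set F) := hs ▸ Algebra.mem_top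
      rw [Algebra.adjoin_singleton_eq_range_aeval] at hx
      exact hx
  by_cases h1 : (n : ℕ) = 1
  · rw [h1, pow_one] at hnF
    have hs : Algebra.adjoin (ZMod p) ({(1 : F)} : Set F) = ⊤ := adjoin_eq_top_of_prime hnF 1
    obtain ⟨Q, hQ⟩ := hsurj 1 hs (w ^ 2)
    refine short_pres_of (i := 0) hw hgen (by simp) hs hQ
      [rl (HF * UF * HF⁻¹) (polyWord UF (HF ^ 0) Q)] (by simp) (fun r hr => ?_) fun P _ f hu hE => ?_
    · obtain rfl := List.mem_singleton.1 hr
      simp only [map_rl, map_mul, map_inv, map_pow, map_polyWord, FreeGroup.lift_apply_of, Matrix.cons_val_zero,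
        Matrix.cons_val_one]
      rw [polyWord_image hw (s := (1 : F)) (by simp), hQ]
      simpa using dSL_pow_conj hw 1 1
    · have hE' := hE _ (List.mem_singleton.2 rfl)
      simp only [map_rl, map_mul, map_inv, map_pow, map_polyWord] at hE'
      refine ⟨fun k l => by simp only [pow_zero, one_pow, one_mul, inv_one, mul_one]; exact Commute.refl _, hE',
        fun ψ _ _ ha => ?_⟩
      rw [minpoly.one, mem_annIdeal]
      intro R
      have h2 := ha R
      rw [pow_zero, one_mul, inv_one, mul_one] at h2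
      rw [sub_mul, one_mul, ofAdd_sub, MonoidHom.map_div, div_eq_one]
      exact h2.symm
  have h2n : 2 ≤ (n : ℕ) := by have := n.pos; omega
  by_cases h9 : p = 3 ∧ (n : ℕ) = 2
  · obtain ⟨hp, hn2⟩ := h9
    have hw4 : w ^ 4 ≠ 1 := fun e4 => by
      have : (Finset.univ.filter fun x : F => x ≠ 0) ⊆ (Finset.range 4).image (fun k => w ^ k) := by
        intro x hx
        obtain ⟨k, rfl⟩ := hgen x (Finset.mem_filter.1 hx).2
        refine Finset.mem_image.2 ⟨k % 4, Finset.mem_range.2 (Nat.mod_lt _ (by norm_num)), ?_⟩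
        conv_rhs => rw [← Nat.mod_add_div k 4, pow_add, pow_mul, e4, one_pow, mul_one]
      have := (Finset.card_le_card this).trans Finset.card_image_le
      rw [Finset.filter_ne', Finset.card_erase_of_mem (Finset.mem_univ _), Finset.card_univ,
        hn, hp, hn2] at this
      simp at this
    have hs : Algebra.adjoin (ZMod p) ({w ^ 2} : Set F) = ⊤ := by
      refine adjoin_eq_top_of_not_fixed hnF fun d hd1 hd2 e => ?_
      obtain rfl : d = 1 := by omega
      rw [pow_one, hp, ← pow_mul] at e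
      exact hw4 (mul_left_cancel₀ (pow_ne_zero 2 hw) (by rw [mul_one, ← pow_add]; exact e))
    have hint : IsIntegral (ZMod p) (w ^ 2) := Algebra.IsIntegral.isIntegral _
    set m := minpoly (ZMod p) (w ^ 2)
    have hdeg : m.natDegree = 2 := by
      have e1 := (PowerBasis.ofAdjoinEqTop hint hs).finrank
      rw [PowerBasis.ofAdjoinEqTop_dim] at e1
      have e2 := Module.natCard_eq_pow_finrank (K := ZMod p) (V := F)
      rw [hnF, Nat.card_zmod, e1] at e2
      rw [← hn2]
      exact (Nat.pow_right_injective (Fact.out : p.Prime).two_le e2).symm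
    have hm : aeval (w ^ 2) m = 0 := minpoly.aeval _ _
    let c := (-(m.coeff 0)).val
    let d := (-(m.coeff 1)).val
    have hmX : (X : (ZMod p)[X]) ^ 2 = m + c • 1 + d • X := by
      have e := (minpoly.monic hint).as_sum
      change m = _ at e
      rw [hdeg, Finset.sum_range_succ, Finset.sum_range_one, pow_zero, mul_one, pow_one] at e
      have ec : ((c : ℕ) : (ZMod p)[X]) = -Polynomial.C (m.coeff 0) := by
        simp only [c, ← C_eq_natCast, ZMod.natCast_zmod_val, map_neg]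
      have ed : ((d : ℕ) : (ZMod p)[X]) = -Polynomial.C (m.coeff 1) := by
        simp only [d, ← C_eq_natCast, ZMod.natCast_zmod_val, map_neg]
      rw [nsmul_eq_mul, nsmul_eq_mul, ec, ed]
      linear_combination -e
    refine short_pres_of (i := 1) hw hgen (by simp) hs (A := X) (aeval_X _)
      [rl (UF * (HF * UF * HF⁻¹)) (HF * UF * HF⁻¹ * UF),
       rl (HF ^ 2 * UF * (HF ^ 2)⁻¹) (UF ^ c * (HF * UF * HF⁻¹) ^ d)] (by simp) (fun r hr => ?_)
      fun P _ f hu hE => ?_
    · have e1 : dSL hw * uSL (ofAdd (1 : F)) * (dSL hw)⁻¹ = uSL (ofAdd (w ^ 2)) := by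
        simpa using dSL_pow_conj hw 1 1
      simp only [List.mem_cons, List.not_mem_nil, or_false] at hr
      rcases hr with rfl | rfl
      · simp only [map_rl, map_mul, map_inv, FreeGroup.lift_apply_of, Matrix.cons_val_zero, Matrix.cons_val_one]
        rw [e1]; exact ((Commute.all _ _).map uSL).eq
      · simp only [map_rl, map_mul, map_inv, map_pow, FreeGroup.lift_apply_of, Matrix.cons_val_zero,
          Matrix.cons_val_one]
        rw [dSL_pow_conj, e1, ← MonoidHom.map_pow, ← MonoidHom.map_pow, ← map_mul, ← ofAdd_nsmul, ← ofAdd_nsmul,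
          ← ofAdd_add]
        congr 2
        have e := congrArg (aeval (w ^ 2)) hmX
        simp only [map_add, map_nsmul, map_pow, aeval_X, hm, map_one, zero_add] at e
        rw [mul_one, ← e, ← pow_mul]
    · simp only [List.forall_mem_cons, map_rl, map_mul, map_inv, map_pow] at hE
      obtain ⟨hc, hr2, -⟩ := hE
      rw [pow_one]
      refine ⟨comm_of_two hc hr2, ?_, fun ψ h1 _ ha => ?_⟩
      · obtain ⟨ψ, h1, -⟩ := exists_polyHom hu (comm_of_two hc hr2)
        rw [← eval_polyWord ψ h1, ← pow_one (X : (ZMod p)[X]), h1, pow_one]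
      · rw [mem_annIdeal]
        intro R
        have hm1 : ψ (ofAdd m) = 1 := by
          have e0 : ψ (ofAdd (1 : (ZMod p)[X])) = f UF := by
            rw [← pow_zero (X : (ZMod p)[X]), h1]; simp
          have eX : ψ (ofAdd (X : (ZMod p)[X])) = f HF * f UF * (f HF)⁻¹ := by
            rw [← pow_one (X : (ZMod p)[X]), h1, pow_one]
          have e2 : ψ (ofAdd ((X : (ZMod p)[X]) ^ 2)) =
              ψ (ofAdd m) * (f UF ^ c * (f HF * f UF * (f HF)⁻¹) ^ d) := by
            rw [hmX, ofAdd_add, ofAdd_add, map_mul, map_mul, ofAdd_nsmul, ofAdd_nsmul, MonoidHom.map_pow,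
              MonoidHom.map_pow, e0, eX, mul_assoc]
          rw [h1 2, hr2] at e2
          exact mul_eq_right.1 e2.symm
        have hX : ∀ k : ℕ, ψ (ofAdd (X ^ k * m)) = 1 := by
          intro k
          induction k with
          | zero => simpa using hm1
          | succ k ih =>
            have := ha (X ^ k * m)
            rw [ih, mul_one, mul_inv_cancel, ← mul_assoc, ← pow_succ'] at this
            exact this.symm
        induction R using Polynomial.induction_on' with
        | add a b ha hb => rw [mul_add, ofAdd_add, map_mul, ha, hb, one_mul]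
        | monomial k z =>
          have e : m * monomial k z = z.val • (X ^ k * m) := by
            rw [← C_mul_X_pow_eq_monomial, nsmul_eq_mul, ← C_eq_natCast, ZMod.natCast_zmod_val]; ring
          rw [e, ofAdd_nsmul, MonoidHom.map_pow, hX, one_pow]
  obtain ⟨s, x, y, hx, hy, hxs, hys, hs⟩ := exists_square_gen (p := p) hnF h2n hp3 h9
  obtain ⟨i₀, hi⟩ := hgen x hx
  obtain ⟨j₀, hj⟩ := hgen y hy
  have hq : w ^ (Fintype.card F - 1) = 1 := FiniteField.pow_card_sub_one_eq_one w hw
  have hq2 : 2 ≤ Fintype.card F := Fintype.one_lt_card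
  set i := i₀ + (Fintype.card F - 1) with hi'
  set j := j₀ + (Fintype.card F - 1) with hj'
  have ei : w ^ i = x := by rw [hi', pow_add, hi, hq, mul_one]
  have ej : w ^ j = y := by rw [hj', pow_add, hj, hq, mul_one]
  have hci : (w ^ 2) ^ i = s := by rw [← pow_mul, mul_comm, pow_mul, ei, hxs]
  have hcj : (w ^ 2) ^ j = 1 + s := by rw [← pow_mul, mul_comm, pow_mul, ej, hys]
  have his : w ^ (2 * i) = s := by rw [pow_mul, hci]
  obtain ⟨A, hA, hann⟩ := exists_annihilator (p := p) hs (i := i) (j := j) (by omega) (by omega) hci hcj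
  refine short_pres_of (i := i) hw hgen his hs hA (hexRels i j ++ [rl (HF * UF * HF⁻¹) (polyWord UF (HF ^ i) A)])
    (by simp [hexRels]) (fun r hr => ?_) fun P _ f hu hE => ?_
  · simp only [hexRels, List.cons_append, List.nil_append, List.mem_cons, List.not_mem_nil, or_false] at hr
    rcases hr with rfl | rfl | rfl
    · simp only [map_rl, map_mul, map_inv, map_pow, FreeGroup.lift_apply_of, Matrix.cons_val_zero,
        Matrix.cons_val_one]
      rw [dSL_pow_conj, dSL_pow_conj, ← map_mul, ← ofAdd_add, mul_one, mul_one, his, pow_mul, hcj]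
    · simp only [map_rl, map_mul, map_inv, map_pow, FreeGroup.lift_apply_of, Matrix.cons_val_zero,
        Matrix.cons_val_one]
      rw [dSL_pow_conj]; exact ((Commute.all _ _).map uSL).eq
    · simp only [map_rl, map_mul, map_inv, map_pow, map_polyWord, FreeGroup.lift_apply_of, Matrix.cons_val_zero,
        Matrix.cons_val_one]
      rw [polyWord_image hw his, hA]
      simpa using dSL_pow_conj hw 1 1
  · simp only [hexRels, List.cons_append, List.nil_append, List.forall_mem_cons, map_rl, map_mul, map_inv,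
      map_pow, map_polyWord] at hE
    obtain ⟨hb, hc, hhu, -⟩ := hE
    refine ⟨fun k l => comm_of_hex hb hc k l, hhu, fun ψ h1 hh ha => hann _ ?_ ?_⟩
    · intro R
      have e := conj_pow_poly hh i R
      rw [ha] at e
      rw [sub_mul, ofAdd_sub, MonoidHom.map_div, div_eq_one]
      exact e.symm
    · intro R
      have h0 : ψ (ofAdd (1 : (ZMod p)[X])) = f UF := by
        rw [← pow_zero (X : (ZMod p)[X]), h1]; simp
      have e1 : f HF ^ j * f UF * (f HF ^ j)⁻¹ = ψ (ofAdd (1 + X)) := by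
        rw [hb, ofAdd_add, map_mul, h0, ← pow_one (X : (ZMod p)[X]), h1, pow_one]
      have e2 := conj_mul_poly h1 ha ((Commute.refl (f HF)).pow_pow j i) e1 R
      rw [conj_pow_poly hh j R] at e2
      rw [sub_sub, sub_mul, ofAdd_sub, MonoidHom.map_div, div_eq_one]
      exact e2

include p in
/-- Presentations with seven relations, five in characteristic two, and known generators. -/
theorem exists_short' {w : F} (hw : w ≠ 0) (hgen : ∀ x : F, x ≠ 0 → ∃ e : ℕ, w ^ e = x) :
    ∃ rels : Finset (FreeGroup (Fin 3)), rels.card ≤ 7 ∧ (p = 2 → rels.card ≤ 5) ∧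
      ∃ e : PresentedGroup (↑rels : Set (FreeGroup (Fin 3))) ≃* SL(2, F),
        ∀ k, e (PresentedGroup.of k) = ![uSL (ofAdd (1 : F)), dSL hw, jSL] k := by
  haveI : CharP F p := (Algebra.charP_iff (ZMod p) F p).1 (ZMod.charP p)
  by_cases hp2 : p = 2
  · subst hp2
    have h2 : 2 ≤ Fintype.card F := Fintype.one_lt_card
    have hsl : (Fintype.card F - 1) * Nat.card F * (Nat.card F + 1) = Nat.card SL(2, F) := by
      rw [card_sl2 rfl, Nat.card_eq_fintype_card (α := F)]
      obtain ⟨r, hr⟩ : ∃ r, Fintype.card F = r + 1 := ⟨Fintype.card F - 1, by omega⟩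
      have e : (r + 1) ^ 2 - 1 = r * (r + 2) := by
        rw [show (r + 1) ^ 2 = r * (r + 2) + 1 by ring, Nat.add_sub_cancel]
      rw [hr, Nat.add_sub_cancel, e]
      ring
    obtain ⟨rels, hc, e, he⟩ := even_pres' hgen hw (MonoidHom.id SL(2, F)) Function.surjective_id
      (Fintype.card F - 1) (by omega) hsl.le (FiniteField.pow_card_sub_one_eq_one w hw)
    exact ⟨rels, hc.trans (by norm_num), fun _ => hc, e, fun k => (he k).trans (by simp [uG])⟩
  · obtain ⟨rels, hc, he⟩ := short_odd (by have := (Fact.out : p.Prime).two_le; omega) hw hgen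
    exact ⟨rels, hc, fun h => absurd h hp2, he⟩

include p in
/-- Presentations with seven relations and known generators. -/
theorem exists_short {w : F} (hw : w ≠ 0) (hgen : ∀ x : F, x ≠ 0 → ∃ e : ℕ, w ^ e = x) :
    ∃ rels : Finset (FreeGroup (Fin 3)), rels.card ≤ 7 ∧
      ∃ e : PresentedGroup (↑rels : Set (FreeGroup (Fin 3))) ≃* SL(2, F),
        ∀ k, e (PresentedGroup.of k) = ![uSL (ofAdd (1 : F)), dSL hw, jSL] k :=
  let ⟨rels, hc, _, he⟩ := exists_short' (p := p) hw hgen
  ⟨rels, hc, he⟩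

end CfsgLib.SLPres
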