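import Mathlib

/-!
# Facts on alternating groups used to move pairs and triples of coordinates
-/

set_option autoImplicit false

open Equiv Equiv.Perm

namespace CfsgLib.SLPres

variable {α : Type*} [Fintype α] [DecidableEq α]

/-- An even permutation with two given values and the next two given up to order. -/
theorem exists_even_four {a b : Fin 4 → α} (ha : Function.Injective a) (hb : Function.Injective b) :
    ∃ g ∈ alternatingGroup α, g (a 0) = b 0 ∧ g (a 1) = b 1 ∧
      ((g (a 2) = b 2 ∧ g (a 3) = b 3) ∨ (g (a 2) = b 3 ∧ g (a 3) = b 2)) := by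
  let e : {x // x ∈ Set.range a} ≃ {x // x ∈ Set.range b} :=
    (Equiv.ofInjective a ha).symm.trans (Equiv.ofInjective b hb)
  have he : ∀ k, e.extendSubtype (a k) = b k := fun k => by
    rw [Equiv.extendSubtype_apply_of_mem _ _ ⟨k, rfl⟩]
    simp [e]
  rcases Int.units_eq_one_or (sign e.extendSubtype) with h | h
  · exact ⟨e.extendSubtype, mem_alternatingGroup.2 h, he 0, he 1, Or.inl ⟨he 2, he 3⟩⟩
  · refine ⟨e.extendSubtype * swap (a 2) (a 3), mem_alternatingGroup.2 ?_, ?_, ?_, Or.inr ⟨?_, ?_⟩⟩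
    · rw [Perm.sign_mul, h, sign_swap (ha.ne (by decide)), neg_mul_neg, one_mul]
    · rw [Perm.mul_apply, swap_apply_of_ne_of_ne (ha.ne (by decide)) (ha.ne (by decide)), he]
    · rw [Perm.mul_apply, swap_apply_of_ne_of_ne (ha.ne (by decide)) (ha.ne (by decide)), he]
    · rw [Perm.mul_apply, swap_apply_left, he]
    · rw [Perm.mul_apply, swap_apply_right, he]

/-- A three-cycle is reversed by a transposition. -/
theorem exists_swap_reverse {g : Perm α} (h₀ : g.IsThreeCycle) :
    ∃ τ : Perm α, sign τ = -1 ∧ τ * g * τ⁻¹ = g⁻¹ := by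
  obtain ⟨a, ha⟩ := h₀.isCycle.nonempty_support
  have h3 : ∀ x, g (g (g x)) = x := fun x => by
    have := h₀.orderOf ▸ pow_orderOf_eq_one g
    simpa [pow_succ] using DFunLike.congr_fun this x
  have hne1 : g a ≠ a := Perm.mem_support.1 ha
  have hne2 : g (g a) ≠ g a := fun e => hne1 (g.injective e)
  have hne3 : g (g a) ≠ a := fun e => hne1 (by
    conv_rhs => rw [← h3 a, e])
  have hsupp : g.support = {a, g a, g (g a)} := by
    refine (Finset.eq_of_subset_of_card_le ?_ ?_).symm
    · intro x hx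
      simp only [Finset.mem_insert, Finset.mem_singleton] at hx
      rcases hx with rfl | rfl | rfl
      · exact ha
      · exact apply_mem_support.2 ha
      · exact apply_mem_support.2 (apply_mem_support.2 ha)
    · rw [h₀.card_support, Finset.card_insert_of_notMem (by simp [hne1.symm, hne3.symm]),
        Finset.card_pair hne2.symm]
  refine ⟨swap (g a) (g (g a)), sign_swap hne2.symm, ?_⟩
  rw [eq_inv_iff_mul_eq_one, swap_inv]
  ext x
  simp only [Perm.mul_apply, Perm.one_apply]
  by_cases hx : x ∈ g.support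
  · rw [hsupp] at hx
    simp only [Finset.mem_insert, Finset.mem_singleton] at hx
    rcases hx with rfl | rfl | rfl <;>
      simp [swap_apply_def, h3, hne1, hne2, hne3, hne1.symm, hne2.symm, hne3.symm]
  · have hfix := Perm.notMem_support.1 hx
    have h1 : x ≠ g a := fun e => hx (e ▸ apply_mem_support.2 ha)
    have h2 : x ≠ g (g a) := fun e => hx (e ▸ apply_mem_support.2 (apply_mem_support.2 ha))
    rw [hfix, swap_apply_of_ne_of_ne h1 h2, hfix, swap_apply_of_ne_of_ne h1 h2]

/-- A subgroup of the alternating group normalised by it and containing one three-cycle is everything. -/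
theorem alt_top_of_threeCycle {g₀ : alternatingGroup α} (h₀ : (g₀ : Perm α).IsThreeCycle)
    (K : Subgroup (alternatingGroup α)) (hg : g₀ ∈ K) (hn : ∀ g k, k ∈ K → g * k * g⁻¹ ∈ K) : K = ⊤ := by
  rw [eq_top_iff]
  intro x _
  obtain ⟨τ, hτs, hτ⟩ := exists_swap_reverse h₀
  have hall : Subgroup.closure {σ : Perm α | σ.IsThreeCycle} ≤ K.map (alternatingGroup α).subtype := by
    rw [Subgroup.closure_le]
    intro z hz
    obtain ⟨σ, hσ⟩ := isConj_iff.1 (isConj_iff_cycleType_eq.2 (h₀.cycleType.trans hz.cycleType.symm))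
    rcases Int.units_eq_one_or (sign σ) with h | h
    · exact ⟨⟨σ, mem_alternatingGroup.2 h⟩ * g₀ * ⟨σ, mem_alternatingGroup.2 h⟩⁻¹, hn _ _ hg, hσ⟩
    · let s : alternatingGroup α := ⟨σ * τ, mem_alternatingGroup.2 (by rw [Perm.sign_mul, h, hτs, neg_mul_neg, one_mul])⟩
      refine ⟨s * g₀⁻¹ * s⁻¹, hn _ _ (inv_mem hg), ?_⟩
      show σ * τ * (g₀ : Perm α)⁻¹ * (σ * τ)⁻¹ = z
      have hinv : τ * (g₀ : Perm α)⁻¹ * τ⁻¹ = (g₀ : Perm α) := by
        rw [← conj_inv, hτ, inv_inv]
      calc σ * τ * (g₀ : Perm α)⁻¹ * (σ * τ)⁻¹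
          = σ * (τ * (g₀ : Perm α)⁻¹ * τ⁻¹) * σ⁻¹ := by group
        _ = z := by rw [hinv, hσ]
  rw [closure_three_cycles_eq_alternating] at hall
  obtain ⟨k, hk, e⟩ := hall x.2
  exact (Subtype.ext e : k = x) ▸ hk

/-- Even permutations of a set with a full cycle `C` are generated by an even one of `C`, `C τ` and its `τ`-conjugate. -/
theorem alt_le_closure_pair {C : Perm α} (hC : C.IsCycle) (hs : C.support = Finset.univ) (x : α) :
    ∃ c : Perm α, sign c = 1 ∧ ∀ σ : Perm α, sign σ = 1 →
      σ ∈ Subgroup.closure {c, swap x (C x) * c * (swap x (C x))⁻¹} := by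
  set τ := swap x (C x)
  have hτ : sign τ = -1 := by
    refine sign_swap fun e => ?_
    have : x ∈ C.support := hs ▸ Finset.mem_univ x
    exact Perm.mem_support.1 this e.symm
  obtain ⟨c, hc, hCc⟩ : ∃ c : Perm α, sign c = 1 ∧ (C = c ∨ C = c * τ) := by
    rcases Int.units_eq_one_or (sign C) with h | h
    · exact ⟨C, h, Or.inl rfl⟩
    · exact ⟨C * τ, by rw [Perm.sign_mul, h, hτ, neg_mul_neg, one_mul],
        Or.inr (by rw [mul_assoc]; simp [τ])⟩
  refine ⟨c, hc, fun σ hσ => ?_⟩
  set H := Subgroup.closure {c, τ * c * τ⁻¹}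
  have hττ : τ * τ = 1 := swap_mul_self x (C x)
  have hτi : τ⁻¹ = τ := inv_eq_of_mul_eq_one_right hττ
  have hcm : c ∈ H := Subgroup.subset_closure (Or.inl rfl)
  have hnτ : ∀ z ∈ H, τ * z * τ ∈ H := by
    intro z hz
    induction hz using Subgroup.closure_induction with
    | mem z hz =>
      rcases hz with rfl | rfl
      · exact Subgroup.subset_closure (Or.inr (Set.mem_singleton_iff.2 (by rw [hτi])))
      · rw [hτi, show τ * (τ * c * τ) * τ = (τ * τ) * c * (τ * τ) by simp only [mul_assoc], hττ, one_mul, mul_one]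
        exact hcm
    | one => rw [mul_one, hττ]; exact one_mem H
    | mul y z _ _ hy hz =>
      rw [show τ * (y * z) * τ = τ * y * τ * (τ * z * τ) by
        simp only [mul_assoc]; rw [← mul_assoc τ τ, hττ, one_mul]]
      exact mul_mem hy hz
    | inv y _ hy =>
      have := inv_mem hy
      rwa [_root_.mul_inv_rev, _root_.mul_inv_rev, hτi, ← mul_assoc] at this
  -- every permutation lies in `H` or in `H τ`
  have hall : ∀ π : Perm α, (π ∈ H ∧ sign π = 1) ∨ (π * τ ∈ H ∧ sign π = -1) := by
    have hsign : ∀ z ∈ H, sign z = 1 := by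
      intro z hz
      induction hz using Subgroup.closure_induction with
      | mem z hz =>
        rcases hz with rfl | rfl
        · exact hc
        · rw [Perm.sign_mul, Perm.sign_mul, hc, Perm.sign_inv, hτ, mul_one, neg_mul_neg, one_mul]
      | one => simp
      | mul y z _ _ hy hz => rw [Perm.sign_mul, hy, hz, one_mul]
      | inv y _ hy => rw [Perm.sign_inv, hy]
    let K : Subgroup (Perm α) :=
      { carrier := {π | π ∈ H ∨ π * τ ∈ H}
        one_mem' := Or.inl (one_mem H)
        mul_mem' := by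
          rintro a b (ha | ha) (hb | hb)
          · exact Or.inl (mul_mem ha hb)
          · exact Or.inr (by rw [mul_assoc]; exact mul_mem ha hb)
          · refine Or.inr ?_
            rw [show a * b * τ = a * τ * (τ * b * τ) by
              simp only [mul_assoc]; rw [← mul_assoc τ τ, hττ, one_mul]]
            exact mul_mem ha (hnτ b hb)
          · refine Or.inl ?_
            rw [show a * b = a * τ * (τ * (b * τ) * τ) by
              simp only [mul_assoc, hττ, mul_one]; rw [← mul_assoc τ τ, hττ, one_mul]]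
            exact mul_mem ha (hnτ _ hb)
        inv_mem' := by
          rintro a (ha | ha)
          · exact Or.inl (inv_mem ha)
          · refine Or.inr ?_
            have := hnτ _ (inv_mem ha)
            rw [_root_.mul_inv_rev, hτi, ← mul_assoc τ τ, hττ, one_mul] at this
            exact this }
    have hK : K = ⊤ := by
      rw [eq_top_iff, ← closure_cycle_adjacent_swap hC hs x, Subgroup.closure_le]
      rintro z (rfl | rfl)
      · rcases hCc with h | h
        · exact Or.inl (h ▸ hcm)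
        · refine Or.inr ?_
          rw [h, mul_assoc, hττ, mul_one]
          exact hcm
      · exact Or.inr (by rw [hττ]; exact one_mem H)
    intro π
    rcases (hK.ge (Subgroup.mem_top π) : π ∈ K) with h | h
    · exact Or.inl ⟨h, hsign _ h⟩
    · refine Or.inr ⟨h, ?_⟩
      have := hsign _ h
      rw [Perm.sign_mul, hτ, mul_neg, mul_one] at this
      rw [← this, neg_neg]
  rcases hall σ with ⟨h, -⟩ | ⟨-, h⟩
  · exact h
  · rw [hσ] at h; exact absurd h (by decide)

variable {n : ℕ}

/-- The even permutations fixing `0` and `1` are generated by one of them and its conjugate. -/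
theorem exists_stab_gen (hn : 4 ≤ n) :
    ∃ c : alternatingGroup (Fin n), (c : Perm (Fin n)) ⟨0, by omega⟩ = ⟨0, by omega⟩ ∧
      (c : Perm (Fin n)) ⟨1, by omega⟩ = ⟨1, by omega⟩ ∧
      ∀ Fl : alternatingGroup (Fin n), (Fl : Perm (Fin n)) =
        swap (⟨0, by omega⟩ : Fin n) ⟨1, by omega⟩ * swap ⟨2, by omega⟩ ⟨3, by omega⟩ →
      ∀ g : alternatingGroup (Fin n), (g : Perm (Fin n)) ⟨0, by omega⟩ = ⟨0, by omega⟩ →
        (g : Perm (Fin n)) ⟨1, by omega⟩ = ⟨1, by omega⟩ → g ∈ Subgroup.closure {c, Fl * c * Fl⁻¹} := by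
  classical
  let T := {x : Fin n // 2 ≤ (x : ℕ)}
  let e : Fin (n - 2) ≃ T :=
    { toFun := fun k => ⟨⟨k + 2, by omega⟩, by show 2 ≤ (k : ℕ) + 2; omega⟩
      invFun := fun x => ⟨(x.1 : ℕ) - 2, by have := x.1.2; have := x.2; omega⟩
      left_inv := fun k => by ext; simp
      right_inv := fun x => by ext; simp; have := x.2; omega }
  obtain ⟨m, hm⟩ : ∃ m, n - 2 = m + 2 := ⟨n - 4, by omega⟩
  let e' : Fin (m + 2) ≃ T := (finCongr hm.symm).trans e
  set C : Perm T := e'.permCongr (finRotate (m + 2)) with hC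
  have hCs : C.support = Finset.univ := Finset.eq_univ_iff_forall.2 fun y => by
    rw [Perm.mem_support, hC, Equiv.permCongr_apply, ne_eq, Equiv.apply_eq_iff_eq_symm_apply]
    have := (support_finRotate (n := m)).ge (Finset.mem_univ (e'.symm y))
    rwa [Perm.mem_support] at this
  have hCc : C.IsCycle := by
    have := (isCycle_finRotate (n := m))
    obtain ⟨y, hy, h⟩ := this
    refine ⟨e' y, by simpa [hC, Equiv.permCongr_apply] using hy, fun z hz => ?_⟩
    obtain ⟨i, hi⟩ := h (y := e'.symm z) (by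
      have := (support_finRotate (n := m)).ge (Finset.mem_univ (e'.symm z))
      rwa [Perm.mem_support] at this)
    refine ⟨i, ?_⟩
    rw [hC, ← Equiv.permCongrHom_coe, ← map_zpow, Equiv.permCongrHom_coe, Equiv.permCongr_apply,
      Equiv.symm_apply_apply, hi, Equiv.apply_symm_apply]
  obtain ⟨c, hc, hgen⟩ := alt_le_closure_pair hCc hCs (e' 0)
  have e2 : ((e' 0 : T) : Fin n) = ⟨2, by omega⟩ := by ext; simp [e', e]
  have e3 : ((C (e' 0) : T) : Fin n) = ⟨3, by omega⟩ := by
    rw [hC, Equiv.permCongr_apply, Equiv.symm_apply_apply]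
    ext
    simp [e', e, finRotate_succ_apply]
  have hfix : ∀ (π : Perm T) (x : Fin n), (x : ℕ) < 2 → ofSubtype π x = x := fun π x hx =>
    ofSubtype_apply_of_not_mem π (by omega)
  refine ⟨⟨ofSubtype c, mem_alternatingGroup.2 (by rw [sign_ofSubtype, hc])⟩, hfix _ _ (by norm_num),
    hfix _ _ (by norm_num), fun Fl hFl g h0 h1 => ?_⟩
  have hpres : ∀ x : Fin n, 2 ≤ ((g : Perm (Fin n)) x : ℕ) ↔ 2 ≤ (x : ℕ) := by
    intro x
    have key : ∀ i : Fin n, (g : Perm (Fin n)) i = i → ((g : Perm (Fin n)) x = i ↔ x = i) := fun i hi =>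
      ⟨fun h => (g : Perm (Fin n)).injective (h.trans hi.symm), fun h => h ▸ hi⟩
    have a := key _ h0
    have b := key _ h1
    simp only [Fin.ext_iff] at a b
    omega
  set σ : Perm T := (g : Perm (Fin n)).subtypePerm hpres
  have hg : ofSubtype σ = (g : Perm (Fin n)) := ofSubtype_subtypePerm hpres fun x hx => by
    by_contra hlt
    apply hx
    rcases (show (x : ℕ) = 0 ∨ (x : ℕ) = 1 by omega) with h | h
    · rw [show x = ⟨0, by omega⟩ from Fin.ext h]; exact h0
    · rw [show x = ⟨1, by omega⟩ from Fin.ext h]; exact h1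
  have hσ : sign σ = 1 := by rw [← sign_ofSubtype σ, hg]; exact mem_alternatingGroup.1 g.2
  have hmem := hgen σ hσ
  set τ := swap (e' 0) (C (e' 0))
  have hτ : ofSubtype τ = swap (⟨2, by omega⟩ : Fin n) ⟨3, by omega⟩ := by
    rw [ofSubtype_swap_eq, e2, e3]
  have hcomm : ∀ π : Perm T, Commute (swap (⟨0, by omega⟩ : Fin n) ⟨1, by omega⟩) (ofSubtype π) := fun π =>
    Disjoint.commute fun x => by
      by_cases hx : (x : ℕ) < 2
      · exact Or.inr (hfix π x hx)
      · refine Or.inl (swap_apply_of_ne_of_ne ?_ ?_) <;> intro h <;> rw [h] at hx <;> simp at hx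
  have hconj : ofSubtype (τ * c * τ⁻¹) = (Fl : Perm (Fin n)) * ofSubtype c * (Fl : Perm (Fin n))⁻¹ := by
    rw [hFl, ← hτ, map_mul, map_mul, map_inv, _root_.mul_inv_rev]
    set s := swap (⟨0, by omega⟩ : Fin n) ⟨1, by omega⟩
    calc ofSubtype τ * ofSubtype c * (ofSubtype τ)⁻¹
        = (s * s⁻¹) * (ofSubtype τ * ofSubtype c * (ofSubtype τ)⁻¹) := by rw [mul_inv_cancel, one_mul]
      _ = s * ((ofSubtype τ * ofSubtype c * (ofSubtype τ)⁻¹) * s⁻¹) := by
          rw [mul_assoc s, ← map_inv, ← map_mul, ← map_mul, ((hcomm _).inv_left).eq]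
      _ = _ := by simp only [mul_assoc]
  have hmap := Subgroup.mem_map_of_mem (ofSubtype : Perm T →* Perm (Fin n)) hmem
  rw [MonoidHom.map_closure, Set.image_pair, hconj, hg] at hmap
  have htarget : Subgroup.closure {(ofSubtype c : Perm (Fin n)), (Fl : Perm (Fin n)) * ofSubtype c * (Fl : Perm (Fin n))⁻¹} =
      (Subgroup.closure {(⟨ofSubtype c, mem_alternatingGroup.2 (by rw [sign_ofSubtype, hc])⟩ : alternatingGroup (Fin n)),
        Fl * ⟨ofSubtype c, mem_alternatingGroup.2 (by rw [sign_ofSubtype, hc])⟩ * Fl⁻¹}).map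
          (alternatingGroup (Fin n)).subtype := by
    rw [MonoidHom.map_closure, Set.image_pair]
    rfl
  rw [htarget] at hmap
  obtain ⟨k, hk, hkeq⟩ := hmap
  exact (Subtype.ext hkeq : k = g) ▸ hk

end CfsgLib.SLPres
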