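import Cfsg.Agent.Lib.KnownB.SLPres.Glue
import Cfsg.Agent.Lib.Classical.SLBasic
import Cfsg.Agent.Lib.KnownB.WordClassical

/-!
# The rank one subgroups of `SL n` on pairs of coordinates
-/

set_option autoImplicit false

open Matrix CfsgLib.SL2Pres CfsgLib.Perm.Quad.SL2 CfsgLib.Classical CfsgLib.KnownB.WordClassical
open scoped commutatorElement

namespace CfsgLib.SLPres

variable {F : Type*} [Field F] {n : ℕ}

/-- The rank one subgroup on two coordinates in the matrices. -/
def emb2 (i j : Fin n) : SL F →* Matrix.SpecialLinearGroup (Fin n) F :=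
  if h : i ≠ j then slEmbed (pairFun i j) (pairFun_injective h) else 1

theorem emb2_up {i j : Fin n} (h : i ≠ j) (t : F) :
    emb2 i j (up t) = SpecialLinearGroup.transvection h t := by
  rw [emb2, dif_pos h, show up t = SpecialLinearGroup.transvection (zero_ne_one : (0 : Fin 2) ≠ 1) t from ?_,
    slEmbed_transvection h]
  · rfl
  · apply ext2 <;> simp [up_val, SpecialLinearGroup.transvection_coe]

theorem emb2_low {i j : Fin n} (h : i ≠ j) (t : F) :
    emb2 i j (low t) = SpecialLinearGroup.transvection h.symm t := by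
  rw [emb2, dif_pos h, show low t = SpecialLinearGroup.transvection (one_ne_zero : (1 : Fin 2) ≠ 0) t from ?_,
    slEmbed_transvection h]
  · rfl
  · apply ext2 <;> simp [low_val, SpecialLinearGroup.transvection_coe]

theorem emb2_dSL {i j : Fin n} (h : i ≠ j) {w : F} (hw : w ≠ 0) :
    emb2 i j (dSL hw) = SpecialLinearGroup.diag2n h w hw := by
  rw [emb2, dif_pos h, show dSL hw = SpecialLinearGroup.diag2 w hw from ?_, slEmbed_diag2 h]
  apply ext2 <;> simp [dSL_coe, SpecialLinearGroup.diag2_coe']

/-- Two homomorphisms on `SL₂` agree when they agree on the transvections. -/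
theorem sl2_hom_ext {G : Type*} [Group G] {f f' : SL F →* G} (hu : ∀ x, f (up x) = f' (up x))
    (hl : ∀ x, f (low x) = f' (low x)) : f = f' :=
  MonoidHom.ext fun z => ((eq_top_of_up_low (H := f.eqLocus f') hu hl).ge (Subgroup.mem_top z) :)

theorem swHom_low (r : F) : swHom (low r) = up r := by rw [← swHom_up, swHom_swHom]

theorem emb2_swap {i j : Fin n} (h : i ≠ j) (z : SL F) : emb2 j i z = emb2 i j (swHom z) := by
  have : emb2 j i = (emb2 i j).comp (swHom (R := F)) := by
    refine sl2_hom_ext (fun x => ?_) fun x => ?_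
    · rw [MonoidHom.comp_apply, swHom_up, emb2_low h, emb2_up h.symm]
    · rw [MonoidHom.comp_apply, swHom_low, emb2_low h.symm, emb2_up h]
  rw [this]
  rfl

theorem altSL_conj_transvection (g : alternatingGroup (Fin n)) {i j : Fin n} (h : i ≠ j) (t : F) :
    altSL n g * SpecialLinearGroup.transvection h t * (altSL n g)⁻¹ =
      SpecialLinearGroup.transvection ((g : Equiv.Perm (Fin n)).injective.ne h) t := by
  rw [mul_inv_eq_iff_eq_mul]
  apply sl_ext
  rw [Matrix.SpecialLinearGroup.coe_mul, Matrix.SpecialLinearGroup.coe_mul, SpecialLinearGroup.transvection_coe,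
    SpecialLinearGroup.transvection_coe,
    show (altSL n g : Matrix.SpecialLinearGroup (Fin n) F).1 = ((g : Equiv.Perm (Fin n))⁻¹).permMatrix F from rfl,
    mul_add, add_mul, mul_one, one_mul]
  congr 1
  ext a b
  simp only [Equiv.Perm.permMatrix, PEquiv.toMatrix_toPEquiv_mul, PEquiv.mul_toMatrix_toPEquiv,
    Matrix.submatrix_apply, id, Matrix.single_apply]
  by_cases ha : (g : Equiv.Perm (Fin n)) i = a <;> by_cases hb : j = b
  · subst ha; subst hb; simp
    intro hne
    exact absurd rfl hne
  · subst ha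
    rw [if_neg, if_neg]
    · simpa [Equiv.eq_symm_apply] using hb
    · simp [hb]
  · rw [if_neg, if_neg]
    · exact fun e => ha e.1
    · intro e; apply ha; rw [e.1]; simp
  · rw [if_neg, if_neg]
    · exact fun e => ha e.1
    · exact fun e => hb e.2

theorem emb2_conj (g : alternatingGroup (Fin n)) {i j : Fin n} (h : i ≠ j) (z : SL F) :
    altSL n g * emb2 i j z * (altSL n g)⁻¹ =
      emb2 ((g : Equiv.Perm (Fin n)) i) ((g : Equiv.Perm (Fin n)) j) z := by
  have : (MulAut.conj (altSL (F := F) n g)).toMonoidHom.comp (emb2 i j) =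
      emb2 ((g : Equiv.Perm (Fin n)) i) ((g : Equiv.Perm (Fin n)) j) := by
    refine sl2_hom_ext (fun x => ?_) fun x => ?_
    · show altSL n g * emb2 i j (up x) * (altSL n g)⁻¹ = _
      rw [emb2_up h, altSL_conj_transvection g h, emb2_up]
    · show altSL n g * emb2 i j (low x) * (altSL n g)⁻¹ = _
      rw [emb2_low h, altSL_conj_transvection g h.symm, emb2_low ((g : Equiv.Perm (Fin n)).injective.ne h)]
  rw [← this]
  rfl

theorem transvection_commute {i j k l : Fin n} (h : i ≠ j) (h' : k ≠ l) (hil : i ≠ l) (hjk : j ≠ k) (t u : F) :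
    Commute (SpecialLinearGroup.transvection h t) (SpecialLinearGroup.transvection h' u) := by
  apply sl_ext
  rw [Matrix.SpecialLinearGroup.coe_mul, Matrix.SpecialLinearGroup.coe_mul, SpecialLinearGroup.transvection_coe,
    SpecialLinearGroup.transvection_coe]
  simp only [mul_add, add_mul, mul_one, one_mul, Matrix.single_mul_single_of_ne _ _ _ _ hjk,
    Matrix.single_mul_single_of_ne _ _ _ _ hil.symm]
  abel

theorem emb2_commute {i j k l : Fin n} (hij : i ≠ j) (hkl : k ≠ l) (hik : i ≠ k) (hil : i ≠ l) (hjk : j ≠ k)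
    (hjl : j ≠ l) (z z' : SL F) : Commute (emb2 i j z) (emb2 k l z') := by
  have h1 : ∀ (a b : Fin n), (a = i ∧ b = j ∨ a = j ∧ b = i) → ∀ (hab : a ≠ b) (t : F) z',
      Commute (SpecialLinearGroup.transvection hab t) (emb2 k l z') := by
    intro a b hc hab t z'
    have : (Subgroup.centralizer {SpecialLinearGroup.transvection hab t}).comap (emb2 k l) = ⊤ := by
      refine eq_top_of_up_low (fun x => ?_) fun x => ?_ <;> rw [Subgroup.mem_comap, Subgroup.mem_centralizer_iff]
      · intro y hy
        rw [Set.mem_singleton_iff.1 hy, emb2_up hkl]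
        refine transvection_commute hab hkl ?_ ?_ t x <;> rcases hc with ⟨rfl, rfl⟩ | ⟨rfl, rfl⟩ <;> assumption
      · intro y hy
        rw [Set.mem_singleton_iff.1 hy, emb2_low hkl]
        refine transvection_commute hab hkl.symm ?_ ?_ t x <;> rcases hc with ⟨rfl, rfl⟩ | ⟨rfl, rfl⟩ <;> assumption
    have hm := Subgroup.mem_comap.1 (this.ge (Subgroup.mem_top z'))
    exact Subgroup.mem_centralizer_iff.1 hm _ (Set.mem_singleton _)
  have : (Subgroup.centralizer {emb2 k l z'}).comap (emb2 i j) = ⊤ := by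
    refine eq_top_of_up_low (fun x => ?_) fun x => ?_ <;> rw [Subgroup.mem_comap, Subgroup.mem_centralizer_iff]
    · intro y hy
      rw [Set.mem_singleton_iff.1 hy, emb2_up hij]
      exact (h1 i j (Or.inl ⟨rfl, rfl⟩) hij x z').eq.symm
    · intro y hy
      rw [Set.mem_singleton_iff.1 hy, emb2_low hij]
      exact (h1 j i (Or.inr ⟨rfl, rfl⟩) hij.symm x z').eq.symm
  have hm := Subgroup.mem_comap.1 (this.ge (Subgroup.mem_top z))
  exact (Subgroup.mem_centralizer_iff.1 hm _ (Set.mem_singleton _)).symm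

theorem diag2n_scale {i j : Fin n} (h : i ≠ j) {w : F} (hw : w ≠ 0) {a b : Fin n} (hab : a ≠ b) (t : F) :
    SpecialLinearGroup.diag2n h w hw * SpecialLinearGroup.transvection hab t * (SpecialLinearGroup.diag2n h w hw)⁻¹ =
      SpecialLinearGroup.transvection hab
        ((if a = i then w else if a = j then w⁻¹ else 1) / (if b = i then w else if b = j then w⁻¹ else 1) * t) := by
  rw [mul_inv_eq_iff_eq_mul]
  apply sl_ext
  rw [Matrix.SpecialLinearGroup.coe_mul, Matrix.SpecialLinearGroup.coe_mul, SpecialLinearGroup.transvection_coe,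
    SpecialLinearGroup.transvection_coe, SpecialLinearGroup.diag2n_coe]
  ext x y
  by_cases hxy : x = y
  · subst hxy
    have : ¬(a = x ∧ b = x) := fun e => hab (e.1.trans e.2.symm)
    simp [Matrix.diagonal_mul, Matrix.mul_diagonal, Matrix.single_apply, this]
  · by_cases hc : a = x ∧ b = y
    · obtain ⟨rfl, rfl⟩ := hc
      simp [Matrix.diagonal_mul, Matrix.mul_diagonal, Matrix.single_apply, hxy]
      split_ifs <;> field_simp
    · simp [Matrix.diagonal_mul, Matrix.mul_diagonal, Matrix.single_apply, Matrix.one_apply_ne hxy, hc]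

theorem diag2n_commute {i j k l : Fin n} (h : i ≠ j) (h' : k ≠ l) {w : F} (hw : w ≠ 0) :
    Commute (SpecialLinearGroup.diag2n h w hw) (SpecialLinearGroup.diag2n h' w hw) := by
  apply sl_ext
  rw [Matrix.SpecialLinearGroup.coe_mul, Matrix.SpecialLinearGroup.coe_mul, SpecialLinearGroup.diag2n_coe,
    SpecialLinearGroup.diag2n_coe, Matrix.diagonal_mul_diagonal, Matrix.diagonal_mul_diagonal]
  congr 1
  funext x
  exact mul_comm _ _

theorem emb2_tri {w : F} (hw : w ≠ 0) {i j k : Fin n} (hij : i ≠ j) (hjk : j ≠ k) (hik : i ≠ k) :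
    Tri hw (emb2 (F := F)) i j k where
  comm := by rw [emb2_dSL hij, emb2_dSL hik]; exact diag2n_commute hij hik hw
  scale := by
    rw [emb2_dSL hij, emb2_up hik, emb2_up hik, diag2n_scale hij hw hik]
    simp [hik.symm, hjk.symm]
  mix := by rw [emb2_up hij, emb2_up hjk, emb2_up hik, commutator_transvection hij hjk hik, one_mul]

theorem emb2_col {w : F} (hw : w ≠ 0) {i j k : Fin n} (hij : i ≠ j) (hjk : j ≠ k) (hik : i ≠ k) :
    emb2 i k (dSL hw) * emb2 j k (up 1) * (emb2 i k (dSL hw))⁻¹ = emb2 j k (up w) := by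
  rw [emb2_dSL hik, emb2_up hjk, emb2_up hjk, diag2n_scale hik hw hjk]
  simp [hij.symm, hjk, hik.symm]

theorem emb2_mix {i j k : Fin n} (hij : i ≠ j) (hjk : j ≠ k) (hik : i ≠ k) (t : F) :
    ⁅emb2 i j (up t), emb2 j k (up 1)⁆ = emb2 i k (up t) := by
  rw [emb2_up hij, emb2_up hjk, emb2_up hik, commutator_transvection hij hjk hik, mul_one]

theorem closure_emb2_eq_top :
    Subgroup.closure {g : Matrix.SpecialLinearGroup (Fin n) F | ∃ i j t, i ≠ j ∧ g = emb2 i j (up t)} = ⊤ :=
  sl_subgroup_eq_top _ fun i j h c => Subgroup.subset_closure ⟨i, j, c, h, (emb2_up h c).symm⟩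

end CfsgLib.SLPres
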