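import Cfsg.Agent.Lib.KnownB.SLPres.Glue
import Cfsg.Agent.Lib.KnownB.SLPres.AltFacts

/-!
# Rank one subgroups moved by an alternating group
-/

set_option autoImplicit false

open Matrix CfsgLib.SL2Pres CfsgLib.Perm.Quad.SL2 CfsgLib.KnownA.StSL
open scoped commutatorElement

namespace CfsgLib.SLPres

variable {F : Type*} [Field F] {n : ℕ} {P : Type*} [Group P]

/-- The coordinate with a given number. -/
abbrev co (hn : 4 ≤ n) (k : Fin 4) : Fin n := Fin.castLE hn k

/-- The product of the transpositions `(0 1)` and `(2 3)`. -/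
def flip4 (hn : 4 ≤ n) : alternatingGroup (Fin n) :=
  ⟨Equiv.swap (co hn 0) (co hn 1) * Equiv.swap (co hn 2) (co hn 3), Equiv.Perm.mem_alternatingGroup.2 (by
    rw [Equiv.Perm.sign_mul, Equiv.Perm.sign_swap ((Fin.castLE_injective hn).ne (by decide)),
      Equiv.Perm.sign_swap ((Fin.castLE_injective hn).ne (by decide))]
    rfl)⟩

/-- The product of the transpositions `(0 2)` and `(1 3)`. -/
def cross4 (hn : 4 ≤ n) : alternatingGroup (Fin n) :=
  ⟨Equiv.swap (co hn 0) (co hn 2) * Equiv.swap (co hn 1) (co hn 3), Equiv.Perm.mem_alternatingGroup.2 (by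
    rw [Equiv.Perm.sign_mul, Equiv.Perm.sign_swap ((Fin.castLE_injective hn).ne (by decide)),
      Equiv.Perm.sign_swap ((Fin.castLE_injective hn).ne (by decide))]
    rfl)⟩

theorem flip4_apply (hn : 4 ≤ n) :
    (flip4 hn : Equiv.Perm (Fin n)) (co hn 0) = co hn 1 ∧ (flip4 hn : Equiv.Perm (Fin n)) (co hn 1) = co hn 0 ∧
    (flip4 hn : Equiv.Perm (Fin n)) (co hn 2) = co hn 3 ∧ (flip4 hn : Equiv.Perm (Fin n)) (co hn 3) = co hn 2 := by
  refine ⟨?_, ?_, ?_, ?_⟩ <;>
    simp [flip4, co, Equiv.swap_apply_def, (Fin.castLE_injective hn).eq_iff]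

theorem cross4_apply (hn : 4 ≤ n) :
    (cross4 hn : Equiv.Perm (Fin n)) (co hn 0) = co hn 2 ∧ (cross4 hn : Equiv.Perm (Fin n)) (co hn 1) = co hn 3 ∧
    (cross4 hn : Equiv.Perm (Fin n)) (co hn 2) = co hn 0 ∧ (cross4 hn : Equiv.Perm (Fin n)) (co hn 3) = co hn 1 := by
  refine ⟨?_, ?_, ?_, ?_⟩ <;>
    simp [cross4, co, Equiv.swap_apply_def, (Fin.castLE_injective hn).eq_iff]

theorem flip4_mul_self (hn : 4 ≤ n) : flip4 hn * flip4 hn = 1 := by
  apply Subtype.ext
  have hc : Commute (Equiv.swap (co hn 0) (co hn 1)) (Equiv.swap (co hn 2) (co hn 3)) := by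
    refine Equiv.Perm.Disjoint.commute fun x => ?_
    by_cases h : x = co hn 0 ∨ x = co hn 1
    · refine Or.inr (Equiv.swap_apply_of_ne_of_ne ?_ ?_) <;> rcases h with rfl | rfl <;>
        exact (Fin.castLE_injective hn).ne (by decide)
    · rw [not_or] at h
      exact Or.inl (Equiv.swap_apply_of_ne_of_ne h.1 h.2)
  show Equiv.swap (co hn 0) (co hn 1) * Equiv.swap (co hn 2) (co hn 3) *
    (Equiv.swap (co hn 0) (co hn 1) * Equiv.swap (co hn 2) (co hn 3)) = 1
  rw [mul_assoc, ← mul_assoc (Equiv.swap (co hn 2) (co hn 3)), ← hc.eq, mul_assoc, Equiv.swap_mul_self, mul_one,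
    Equiv.swap_mul_self]

theorem exists_even_pair (hn : 4 ≤ n) {i j : Fin n} (h : i ≠ j) :
    ∃ g : alternatingGroup (Fin n), (g : Equiv.Perm (Fin n)) (co hn 0) = i ∧
      (g : Equiv.Perm (Fin n)) (co hn 1) = j := by
  obtain ⟨k, hk⟩ : ∃ k, k ∉ ({i, j} : Finset (Fin n)) := by
    by_contra hc
    push Not at hc
    have h1 := Finset.card_le_card (fun x (_ : x ∈ Finset.univ) => hc x)
    have h2 := h1.trans Finset.card_le_two
    rw [Finset.card_univ, Fintype.card_fin] at h2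
    omega
  obtain ⟨l, hl⟩ : ∃ l, l ∉ ({i, j, k} : Finset (Fin n)) := by
    by_contra hc
    push Not at hc
    have h1 := Finset.card_le_card (fun x (_ : x ∈ Finset.univ) => hc x)
    have h2 := h1.trans Finset.card_le_three
    rw [Finset.card_univ, Fintype.card_fin] at h2
    omega
  simp only [Finset.mem_insert, Finset.mem_singleton, not_or] at hk hl
  obtain ⟨g, hg, h0, h1, -⟩ := exists_even_four (a := co hn) (b := ![i, j, k, l]) (Fin.castLE_injective hn) (by
    intro x y e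
    fin_cases x <;> fin_cases y <;> simp_all)
  exact ⟨⟨g, hg⟩, h0, h1⟩

open scoped Classical in
/-- The rank one subgroup on two coordinates. -/
noncomputable def lam (hn : 4 ≤ n) (μ : alternatingGroup (Fin n) →* P) (ℓ : SL F →* P) (i j : Fin n) :
    SL F →* P :=
  if h : i ≠ j then (MulAut.conj (μ (exists_even_pair hn h).choose)).toMonoidHom.comp ℓ else 1

/-- What the relations give. -/
structure AltSys {w : F} (hw : w ≠ 0) (hn : 4 ≤ n) (μ : alternatingGroup (Fin n) →* P) (ℓ : SL F →* P) :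
    Prop where
  flip : ∀ z, μ (flip4 hn) * ℓ z * (μ (flip4 hn))⁻¹ = ℓ (swHom z)
  stab : ∀ g : alternatingGroup (Fin n), (g : Equiv.Perm (Fin n)) (co hn 0) = co hn 0 →
    (g : Equiv.Perm (Fin n)) (co hn 1) = co hn 1 → ∀ z, Commute (μ g) (ℓ z)
  disj : ∀ z z', Commute (ℓ z) (μ (cross4 hn) * ℓ z' * (μ (cross4 hn))⁻¹)
  tri : Tri hw (lam hn μ ℓ) (co hn 0) (co hn 1) (co hn 2)
  tri' : Tri hw (lam hn μ ℓ) (co hn 0) (co hn 1) (co hn 3)

variable {w : F} {hw : w ≠ 0} {hn : 4 ≤ n} {μ : alternatingGroup (Fin n) →* P} {ℓ : SL F →* P}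

theorem lam_eq_of_stab (hstab : ∀ g : alternatingGroup (Fin n), (g : Equiv.Perm (Fin n)) (co hn 0) = co hn 0 →
      (g : Equiv.Perm (Fin n)) (co hn 1) = co hn 1 → ∀ z, Commute (μ g) (ℓ z))
    {i j : Fin n} (h : i ≠ j) {g : alternatingGroup (Fin n)}
    (h0 : (g : Equiv.Perm (Fin n)) (co hn 0) = i) (h1 : (g : Equiv.Perm (Fin n)) (co hn 1) = j) (z : SL F) :
    lam hn μ ℓ i j z = μ g * ℓ z * (μ g)⁻¹ := by
  obtain ⟨e0, e1⟩ := (exists_even_pair hn h).choose_spec
  rw [lam, dif_pos h]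
  set c := (exists_even_pair hn h).choose
  show μ c * ℓ z * (μ c)⁻¹ = _
  have hs := hstab (g⁻¹ * c) (by simp [Equiv.symm_apply_eq, e0, h0]) (by simp [Equiv.symm_apply_eq, e1, h1]) z
  rw [map_mul, map_inv] at hs
  calc μ c * ℓ z * (μ c)⁻¹ = μ g * (((μ g)⁻¹ * μ c) * ℓ z * ((μ g)⁻¹ * μ c)⁻¹) * (μ g)⁻¹ := by group
    _ = _ := by rw [hs.eq, mul_inv_cancel_right]

theorem lam_move (hstab : ∀ g : alternatingGroup (Fin n), (g : Equiv.Perm (Fin n)) (co hn 0) = co hn 0 →
      (g : Equiv.Perm (Fin n)) (co hn 1) = co hn 1 → ∀ z, Commute (μ g) (ℓ z))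
    (g : alternatingGroup (Fin n)) {i j : Fin n} (h : i ≠ j) (z : SL F) :
    μ g * lam hn μ ℓ i j z * (μ g)⁻¹ =
      lam hn μ ℓ ((g : Equiv.Perm (Fin n)) i) ((g : Equiv.Perm (Fin n)) j) z := by
  obtain ⟨c, h0, h1⟩ := exists_even_pair hn h
  rw [lam_eq_of_stab hstab h h0 h1, lam_eq_of_stab hstab ((g : Equiv.Perm (Fin n)).injective.ne h) (g := g * c)
    (by simp [h0]) (by simp [h1]), map_mul]
  group

variable (S : AltSys hw hn μ ℓ)
include S

theorem lam_eq {i j : Fin n} (h : i ≠ j) {g : alternatingGroup (Fin n)}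
    (h0 : (g : Equiv.Perm (Fin n)) (co hn 0) = i) (h1 : (g : Equiv.Perm (Fin n)) (co hn 1) = j) (z : SL F) :
    lam hn μ ℓ i j z = μ g * ℓ z * (μ g)⁻¹ :=
  lam_eq_of_stab S.stab h h0 h1 z

theorem lam_base (z : SL F) : lam hn μ ℓ (co hn 0) (co hn 1) z = ℓ z := by
  rw [lam_eq S ((Fin.castLE_injective hn).ne (by decide)) (g := 1) rfl rfl, map_one, one_mul, inv_one, mul_one]

theorem lam_conj (g : alternatingGroup (Fin n)) {i j : Fin n} (h : i ≠ j) (z : SL F) :
    μ g * lam hn μ ℓ i j z * (μ g)⁻¹ =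
      lam hn μ ℓ ((g : Equiv.Perm (Fin n)) i) ((g : Equiv.Perm (Fin n)) j) z :=
  lam_move S.stab g h z

theorem lam_swap {i j : Fin n} (h : i ≠ j) (z : SL F) : lam hn μ ℓ j i z = lam hn μ ℓ i j (swHom z) := by
  obtain ⟨c, h0, h1⟩ := exists_even_pair hn h
  rw [lam_eq S h h0 h1, lam_eq S h.symm (g := c * flip4 hn) (by simp [(flip4_apply hn).1, h1])
    (by simp [(flip4_apply hn).2.1, h0]), map_mul, ← S.flip]
  group

theorem lam_disj (i j k l : Fin n) (hij : i ≠ j) (hkl : k ≠ l) (hik : i ≠ k) (hil : i ≠ l) (hjk : j ≠ k)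
    (hjl : j ≠ l) (z z' : SL F) : Commute (lam hn μ ℓ i j z) (lam hn μ ℓ k l z') := by
  have hinj := Fin.castLE_injective hn
  have h23 : co hn 2 ≠ co hn 3 := hinj.ne (by decide)
  have h01 : co hn 0 ≠ co hn 1 := hinj.ne (by decide)
  have base : ∀ z z', Commute (lam hn μ ℓ (co hn 0) (co hn 1) z) (lam hn μ ℓ (co hn 2) (co hn 3) z') :=
    fun z z' => by
      rw [lam_base S, lam_eq S h23 (g := cross4 hn) (cross4_apply hn).1 (cross4_apply hn).2.1]
      exact S.disj z z'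
  obtain ⟨g, hg, h0, h1, hcase⟩ := exists_even_four (a := co hn) (b := ![i, j, k, l]) hinj (by
    intro x y e
    fin_cases x <;> fin_cases y <;> simp_all)
  simp only [Matrix.cons_val_zero, Matrix.cons_val_one, Matrix.cons_val_two, Matrix.cons_val_three, Matrix.tail_cons,
    Matrix.head_cons] at h0 h1 hcase
  rcases hcase with ⟨h2, h3⟩ | ⟨h2, h3⟩
  · have e := (base z z').map (MulAut.conj (μ ⟨g, hg⟩))
    simp only [MulAut.conj_apply, lam_conj S _ h01, lam_conj S _ h23, h0, h1, h2, h3] at e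
    exact e
  · have e := (base z (swHom z')).map (MulAut.conj (μ ⟨g, hg⟩))
    simp only [MulAut.conj_apply, lam_conj S _ h01, lam_conj S _ h23, h0, h1, h2, h3] at e
    rw [← lam_swap S hkl.symm] at e
    exact e

omit S in
theorem tri_map {Λ : Fin n → Fin n → SL F →* P} {i j k i' j' k' : Fin n} (T : Tri hw Λ i j k) (f : MulAut P)
    (e1 : ∀ z, f (Λ i j z) = Λ i' j' z) (e2 : ∀ z, f (Λ i k z) = Λ i' k' z)
    (e3 : ∀ z, f (Λ j k z) = Λ j' k' z) : Tri hw Λ i' j' k' where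
  comm := by rw [← e1, ← e2]; exact T.comm.map f
  scale := by rw [← e1, ← e2, ← e2, ← map_inv, ← map_mul, ← map_mul, T.scale]
  mix := by rw [← e1, ← e2, ← e3, ← map_commutatorElement, T.mix]

theorem lam_tri (i j k : Fin n) (hij : i ≠ j) (hjk : j ≠ k) (hik : i ≠ k) : Tri hw (lam hn μ ℓ) i j k := by
  have hinj := Fin.castLE_injective hn
  obtain ⟨l, hl⟩ : ∃ l, l ∉ ({i, j, k} : Finset (Fin n)) := by
    by_contra hc
    push Not at hc
    have h1 := Finset.card_le_card (fun x (_ : x ∈ Finset.univ) => hc x)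
    have h2 := h1.trans Finset.card_le_three
    rw [Finset.card_univ, Fintype.card_fin] at h2
    omega
  simp only [Finset.mem_insert, Finset.mem_singleton, not_or] at hl
  obtain ⟨g, hg, h0, h1, hcase⟩ := exists_even_four (a := co hn) (b := ![i, j, k, l]) hinj (by
    intro x y e
    fin_cases x <;> fin_cases y <;> simp_all)
  simp only [Matrix.cons_val_zero, Matrix.cons_val_one, Matrix.cons_val_two, Matrix.cons_val_three, Matrix.tail_cons,
    Matrix.head_cons] at h0 h1 hcase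
  rcases hcase with ⟨h2, -⟩ | ⟨-, h2⟩
  · refine tri_map S.tri (MulAut.conj (μ ⟨g, hg⟩)) ?_ ?_ ?_ <;> intro z <;> rw [MulAut.conj_apply, lam_conj S]
    · rw [h0, h1]
    · exact hinj.ne (by decide)
    · rw [h0, h2]
    · exact hinj.ne (by decide)
    · rw [h1, h2]
    · exact hinj.ne (by decide)
  · refine tri_map S.tri' (MulAut.conj (μ ⟨g, hg⟩)) ?_ ?_ ?_ <;> intro z <;> rw [MulAut.conj_apply, lam_conj S]
    · rw [h0, h1]
    · exact hinj.ne (by decide)
    · rw [h0, h2]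
    · exact hinj.ne (by decide)
    · rw [h1, h2]
    · exact hinj.ne (by decide)

/-- The root elements satisfy the Steinberg relations. -/
theorem altSys_preSt [Fintype F] (hgen : ∀ x : F, x ≠ 0 → ∃ e : ℕ, w ^ e = x) :
    PreSt (rootY (lam hn μ ℓ)) :=
  preSt_of_four hw (fun _ _ h z => lam_swap S h z) hgen (by simpa using hn) (lam_disj S) (lam_tri S)

/-- The root elements generate, given one three-cycle among their products. -/
theorem altSys_gen [Fintype F] {g₀ : alternatingGroup (Fin n)} (h₀ : (g₀ : Equiv.Perm (Fin n)).IsThreeCycle)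
    (hmem : μ g₀ ∈ Subgroup.closure (rootSet (rootY (lam hn μ ℓ))))
    (hP : μ.range ⊔ ℓ.range = ⊤) : Subgroup.closure (rootSet (rootY (lam hn μ ℓ))) = ⊤ := by
  set H := Subgroup.closure (rootSet (rootY (lam hn μ ℓ))) with hH
  have hconj : ∀ g, ∀ x ∈ H, μ g * x * (μ g)⁻¹ ∈ H := by
    intro g x hx
    have : H ≤ H.comap (MulAut.conj (μ g)).toMonoidHom := by
      rw [hH, Subgroup.closure_le]
      rintro _ ⟨i, j, t, h, rfl⟩
      exact Subgroup.subset_closure ⟨_, _, t, (g : Equiv.Perm (Fin n)).injective.ne h, lam_conj S g h _⟩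
    exact this hx
  have hμ : H.comap μ = ⊤ := alt_top_of_threeCycle h₀ _ hmem fun g k hk => by
    rw [Subgroup.mem_comap, map_mul, map_mul, map_inv]
    exact hconj g _ hk
  rw [eq_top_iff, ← hP, sup_le_iff]
  refine ⟨?_, ?_⟩
  · rintro _ ⟨g, rfl⟩
    exact Subgroup.mem_comap.1 (hμ.ge (Subgroup.mem_top g))
  · rintro _ ⟨z, rfl⟩
    rw [← lam_base S z]
    exact range_le_closure (fun _ _ h z => lam_swap S h z) ((Fin.castLE_injective hn).ne (by decide)) ⟨z, rfl⟩

end CfsgLib.SLPres
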