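import Cfsg.Agent.Lib.KnownB.SLPres.Pair
import Cfsg.Agent.Lib.KnownA.StSLUniv

/-!
# The Steinberg relations from a few relations between rank one subgroups

`Λ i j` is the rank one subgroup on the coordinates `i, j`.  For each triple we ask for one commutation of
torus elements, one conjugation of a transvection and one commutator.  The additivity in the commutator
formula then gives the commutation of transvections in one row or one column.
-/

set_option autoImplicit false

open Matrix CfsgLib.SL2Pres CfsgLib.Perm.Quad.SL2 CfsgLib.KnownA.StSL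
open scoped commutatorElement

namespace CfsgLib.SLPres

variable {F : Type*} [Field F] {ι : Type*} {P : Type*} [Group P]

/-- The upper transvections as a homomorphism. -/
def upHom : Multiplicative F →* SL F where
  toFun x := up x.toAdd
  map_one' := by simp [up_zero]
  map_mul' x y := by rw [toAdd_mul, up_add]

/-- The relations for a triple of coordinates. -/
structure Tri {w : F} (hw : w ≠ 0) (Λ : ι → ι → SL F →* P) (i j k : ι) : Prop where
  comm : Commute (Λ i j (dSL hw)) (Λ i k (dSL hw))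
  scale : Λ i j (dSL hw) * Λ i k (up 1) * (Λ i j (dSL hw))⁻¹ = Λ i k (up w)
  mix : ⁅Λ i j (up 1), Λ j k (up 1)⁆ = Λ i k (up 1)

theorem swHom_dSL {w : F} (hw : w ≠ 0) : swHom (dSL hw) = (dSL hw)⁻¹ := by
  apply ext2 <;> simp [swHom_val, dSL_coe, Matrix.adjugate_fin_two]

theorem dSL_conj_up {w : F} (hw : w ≠ 0) (t : F) : dSL hw * up t * (dSL hw)⁻¹ = up (w ^ 2 * t) := by
  rw [mul_inv_eq_iff_eq_mul]
  apply ext2 <;> simp [mul_apply2, up_val, dSL_coe] <;> field_simp

theorem dSL_conj_low {w : F} (hw : w ≠ 0) (t : F) : dSL hw * low t * (dSL hw)⁻¹ = low (t / w ^ 2) := by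
  rw [mul_inv_eq_iff_eq_mul]
  apply ext2 <;> simp [mul_apply2, low_val, dSL_coe] <;> field_simp

section Field

variable [Fintype F] {w : F} (hgen : ∀ x : F, x ≠ 0 → ∃ e : ℕ, w ^ e = x)
include hgen

/-- An element that scales one transvection and commutes with the torus scales all of them. -/
theorem scale_all (φ : Multiplicative F →* P) {g h : P} (hgh : Commute g h) {c : F}
    (hh : ∀ t : F, h * φ (Multiplicative.ofAdd t) * h⁻¹ = φ (Multiplicative.ofAdd (w ^ 2 * t)))
    (h1 : g * φ (Multiplicative.ofAdd 1) * g⁻¹ = φ (Multiplicative.ofAdd c)) (t : F) :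
    g * φ (Multiplicative.ofAdd t) * g⁻¹ = φ (Multiplicative.ofAdd (c * t)) := by
  have hstep : ∀ t, g * φ (Multiplicative.ofAdd t) * g⁻¹ = φ (Multiplicative.ofAdd (c * t)) →
      g * φ (Multiplicative.ofAdd (w ^ 2 * t)) * g⁻¹ = φ (Multiplicative.ofAdd (c * (w ^ 2 * t))) := by
    intro t ht
    rw [← hh t, mul_left_comm c, ← hh (c * t), ← ht]
    have e1 : g * h = h * g := hgh.eq
    have e2 : h⁻¹ * g⁻¹ = g⁻¹ * h⁻¹ := by rw [← _root_.mul_inv_rev, ← _root_.mul_inv_rev, e1]
    calc g * (h * φ (Multiplicative.ofAdd t) * h⁻¹) * g⁻¹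
        = (g * h) * φ (Multiplicative.ofAdd t) * (h⁻¹ * g⁻¹) := by simp only [mul_assoc]
      _ = _ := by rw [e1, e2]; simp only [mul_assoc]
  have hsq : ∀ a : F, g * φ (Multiplicative.ofAdd (a ^ 2)) * g⁻¹ = φ (Multiplicative.ofAdd (c * a ^ 2)) := by
    intro a
    by_cases ha : a = 0
    · simp [ha, map_one φ]
    obtain ⟨e, rfl⟩ := hgen a ha
    induction e with
    | zero => simpa using h1
    | succ e ih =>
      rw [show (w ^ (e + 1)) ^ 2 = w ^ 2 * (w ^ e) ^ 2 by ring]
      exact hstep _ (ih (pow_ne_zero e fun hw => ha (by rw [pow_succ, hw, mul_zero])))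
  obtain ⟨a, b, rfl⟩ := exists_sq_sub t
  rw [mul_sub, ofAdd_sub, ofAdd_sub, MonoidHom.map_div, MonoidHom.map_div, ← hsq a, ← hsq b,
    div_eq_mul_inv, div_eq_mul_inv]
  simp only [_root_.mul_inv_rev, inv_inv, mul_assoc, inv_mul_cancel_left]

end Field

section Derive

variable {w : F} (hw : w ≠ 0) {Λ : ι → ι → SL F →* P}
  (hsw : ∀ i j, i ≠ j → ∀ z, Λ j i z = Λ i j (swHom z))

/-- The root elements. -/
def rootY (Λ : ι → ι → SL F →* P) (i j : ι) (t : F) : P := Λ i j (up t)

theorem rootY_add (i j : ι) (t u : F) : rootY Λ i j t * rootY Λ i j u = rootY Λ i j (t + u) := by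
  simp only [rootY, ← map_mul, up_add]

theorem conj_self (i j : ι) (t : F) :
    Λ i j (dSL hw) * rootY Λ i j t * (Λ i j (dSL hw))⁻¹ = rootY Λ i j (w ^ 2 * t) := by
  simp only [rootY, ← map_inv, ← map_mul, dSL_conj_up hw]

include hsw in
theorem rev_dSL {i j : ι} (h : i ≠ j) : Λ j i (dSL hw) = (Λ i j (dSL hw))⁻¹ := by
  rw [hsw i j h, swHom_dSL hw, map_inv]

variable [Fintype F] (hgen : ∀ x : F, x ≠ 0 → ∃ e : ℕ, w ^ e = x)

include hgen in
theorem scale_tri {i j k : ι} (T : Tri hw Λ i j k) (t : F) :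
    Λ i j (dSL hw) * rootY Λ i k t * (Λ i j (dSL hw))⁻¹ = rootY Λ i k (w * t) :=
  scale_all hgen ((Λ i k).comp upHom) T.comm (fun t => conj_self hw i k t) T.scale t

omit [Fintype F] in
theorem comm_rows {y : ι → ι → F → P} {i j k : ι} (hadd : ∀ t u, y i k t * y i k u = y i k (t + u))
    (haij : ∀ t u, y i j t * y i j u = y i j (t + u)) (hajk : ∀ t u, y j k t * y j k u = y j k (t + u))
    (hmix : ∀ t u, ⁅y i j t, y j k u⁆ = y i k (t * u)) :
    (∀ t u, Commute (y i j t) (y i k u)) ∧ ∀ t u, Commute (y j k t) (y i k u) := by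
  constructor
  · intro s u
    have e : y i k ((s + u) * 1) = y i j s * y i k u * (y i j s)⁻¹ * y i k (s * 1) := by
      rw [← hmix (s + u) 1, ← haij s u, ← hmix s 1, show y i k u = y i k (u * 1) by rw [mul_one], ← hmix u 1]
      simp only [commutatorElement_def]
      group
    rw [mul_one, mul_one, add_comm, ← hadd u s] at e
    exact mul_inv_eq_iff_eq_mul.1 (mul_right_cancel e).symm
  · intro s u
    have e : y i k (1 * (s + u)) = y i k (1 * s) * (y j k s * y i k u * (y j k s)⁻¹) := by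
      rw [← hmix 1 (s + u), ← hajk s u, ← hmix 1 s, show y i k u = y i k (1 * u) by rw [one_mul], ← hmix 1 u]
      simp only [commutatorElement_def]
      group
    rw [one_mul, one_mul, ← hadd s u] at e
    exact mul_inv_eq_iff_eq_mul.1 (mul_left_cancel e).symm

omit [Fintype F] in
include hgen in
/-- The commutator formula spreads from `(t, 1)` by an element scaling by `(w², w⁻¹)`. -/
theorem mix_spread (hw : w ≠ 0) {A B C : F → P} (h0A : A 0 = 1) (h0B : B 0 = 1) (h0C : C 0 = 1) {g : P}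
    (hA : ∀ t, g * A t * g⁻¹ = A (w ^ 2 * t)) (hB : ∀ u, g * B u * g⁻¹ = B (w⁻¹ * u))
    (hC : ∀ t, g * C t * g⁻¹ = C (w * t)) (h1 : ∀ t, t ≠ 0 → ⁅A t, B 1⁆ = C t) (t u : F) :
    ⁅A t, B u⁆ = C (t * u) := by
  by_cases ht : t = 0
  · simp [ht, h0A, h0C, commutatorElement_def]
  by_cases hu : u = 0
  · simp [hu, h0B, h0C, commutatorElement_def]
  obtain ⟨b, hb⟩ := hgen u⁻¹ (inv_ne_zero hu)
  rw [show u = (w⁻¹) ^ b by rw [inv_pow, hb, inv_inv]]
  clear hu hb
  induction b generalizing t with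
  | zero => simpa using h1 t ht
  | succ b ih =>
    have ht' : t / w ^ 2 ≠ 0 := div_ne_zero ht (pow_ne_zero 2 hw)
    have e := congrArg (fun z => g * z * g⁻¹) (ih (t / w ^ 2) ht')
    have e' : g * ⁅A (t / w ^ 2), B (w⁻¹ ^ b)⁆ * g⁻¹ =
        ⁅g * A (t / w ^ 2) * g⁻¹, g * B (w⁻¹ ^ b) * g⁻¹⁆ := by simp only [commutatorElement_def]; group
    simp only [e', hA, hB, hC] at e
    rw [mul_div_cancel₀ _ (pow_ne_zero 2 hw)] at e
    rw [pow_succ', e]
    congr 1
    field_simp

variable [Fintype ι] [DecidableEq ι]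

/-- The assembly: disjointness and commutator formulas give the Steinberg relations. -/
theorem preSt_of_mix
    (hD : ∀ i j k l, i ≠ j → k ≠ l → i ≠ k → i ≠ l → j ≠ k → j ≠ l → ∀ z z', Commute (Λ i j z) (Λ k l z'))
    (hM : ∀ i j k t u, i ≠ j → j ≠ k → i ≠ k → ⁅rootY Λ i j t, rootY Λ j k u⁆ = rootY Λ i k (t * u)) :
    PreSt (rootY Λ) where
  add i j t u _ := rootY_add i j t u
  mix := hM
  comm i j k l t u hij hkl hil hjk := by
    by_cases hik : i = k
    · subst hik
      by_cases hjl : j = l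
      · subst hjl
        show Commute (Λ i j (up t)) (Λ i j (up u))
        exact Commute.map (show Commute (up t) (up u) by
          show up t * up u = up u * up t
          rw [up_add, up_add, add_comm]) _
      exact (comm_rows (y := rootY Λ) (rootY_add i l) (rootY_add i j) (rootY_add j l)
        (fun t u => hM i j l t u hij hjl hkl)).1 t u
    by_cases hjl : j = l
    · subst hjl
      exact ((comm_rows (y := rootY Λ) (rootY_add i j) (rootY_add i k) (rootY_add k j)
        (fun t u => hM i k j t u hik hkl hij)).2 u t).symm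
    exact hD i j k l hij hkl hik hil hjk hjl _ _

include hgen hsw in
/-- Four or more coordinates. -/
theorem preSt_of_four (h4 : 4 ≤ Fintype.card ι)
    (hD : ∀ i j k l, i ≠ j → k ≠ l → i ≠ k → i ≠ l → j ≠ k → j ≠ l → ∀ z z', Commute (Λ i j z) (Λ k l z'))
    (hT : ∀ i j k, i ≠ j → j ≠ k → i ≠ k → Tri hw Λ i j k) : PreSt (rootY Λ) := by
  refine preSt_of_mix hD fun i j k t u hij hjk hik => ?_
  obtain ⟨l, hl⟩ : ∃ l, l ∉ ({i, j, k} : Finset ι) := by
    by_contra h
    push Not at h
    have h1 := Finset.card_le_card (fun x (_ : x ∈ Finset.univ) => h x)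
    have h2 : ({i, j, k} : Finset ι).card ≤ 3 := Finset.card_le_three
    rw [Finset.card_univ] at h1
    omega
  simp only [Finset.mem_insert, Finset.mem_singleton, not_or] at hl
  obtain ⟨(hli : l ≠ i), (hlj : l ≠ j), (hlk : l ≠ k)⟩ := hl
  have hz : ∀ a b, rootY Λ a b 0 = 1 := fun a b => by rw [rootY, up_zero, map_one]
  refine mix_spread hgen hw (hz i j) (hz j k) (hz i k) (g := Λ i j (dSL hw)) (conj_self hw i j) (fun u => ?_)
    (scale_tri hw hgen (hT i j k hij hjk hik)) (fun t ht => ?_) t u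
  · have e := scale_tri hw hgen (hT j i k hij.symm hik hjk) (w⁻¹ * u)
    rw [rev_dSL hw hsw hij, inv_inv, mul_inv_cancel_left₀ hw] at e
    rw [← e]
    simp [mul_assoc]
  · obtain ⟨e, rfl⟩ := hgen t ht
    clear ht
    induction e with
    | zero => rw [pow_zero]; exact (hT i j k hij hjk hik).mix
    | succ e ih =>
      set g := Λ i l (dSL hw)
      have h1 := congrArg (fun z => g * z * g⁻¹) ih
      have e' : g * ⁅rootY Λ i j (w ^ e), rootY Λ j k 1⁆ * g⁻¹ =
          ⁅g * rootY Λ i j (w ^ e) * g⁻¹, g * rootY Λ j k 1 * g⁻¹⁆ := by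
        simp only [commutatorElement_def]; group
      have hd : g * rootY Λ j k 1 * g⁻¹ = rootY Λ j k 1 :=
        mul_inv_eq_iff_eq_mul.2 (hD i l j k hli.symm hjk hij hik hlj hlk _ _)
      simp only [e', hd] at h1
      rw [scale_tri hw hgen (hT i l j hli.symm hlj hij), scale_tri hw hgen (hT i l k hli.symm hlk hik)] at h1
      rw [pow_succ']
      exact h1

include hgen hsw in
/-- Three coordinates: we also ask for the scaling of a column and three commutators. -/
theorem preSt_of_three (h3 : Fintype.card ι = 3) (hT : ∀ i j k, i ≠ j → j ≠ k → i ≠ k → Tri hw Λ i j k)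
    (hcol : ∀ i j k, i ≠ j → j ≠ k → i ≠ k →
      Λ i k (dSL hw) * Λ j k (up 1) * (Λ i k (dSL hw))⁻¹ = Λ j k (up w))
    (hM : ∀ i j k, i ≠ j → j ≠ k → i ≠ k → ∀ r < 3,
      ⁅Λ i j (up (w ^ r)), Λ j k (up 1)⁆ = Λ i k (up (w ^ r))) : PreSt (rootY Λ) := by
  refine preSt_of_mix (fun i j k l hij hkl hik hil hjk hjl => ?_) fun i j k t u hij hjk hik => ?_
  · exfalso
    have : ({i, j, k, l} : Finset ι).card = 4 := by
      rw [Finset.card_insert_of_notMem (by simp [hij, hik, hil]), Finset.card_insert_of_notMem (by simp [hjk, hjl]),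
        Finset.card_pair hkl]
    have := Finset.card_le_univ ({i, j, k, l} : Finset ι)
    omega
  have hz : ∀ a b, rootY Λ a b 0 = 1 := fun a b => by rw [rootY, up_zero, map_one]
  set g := Λ i j (dSL hw) with hg
  set f := Λ i k (dSL hw) with hf
  have gB : ∀ u, g * rootY Λ j k u * g⁻¹ = rootY Λ j k (w⁻¹ * u) := fun u => by
    have e := scale_tri hw hgen (hT j i k hij.symm hik hjk) (w⁻¹ * u)
    rw [rev_dSL hw hsw hij, inv_inv, mul_inv_cancel_left₀ hw] at e
    rw [hg, ← e]
    simp [mul_assoc]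
  have fB : ∀ u, f * rootY Λ j k u * f⁻¹ = rootY Λ j k (w * u) := by
    refine scale_all hgen ((Λ j k).comp upHom) (h := Λ j k (dSL hw)) ?_ (fun t => conj_self hw j k t)
      (hcol i j k hij hjk hik)
    have c := (hT k i j hik.symm hij hjk.symm).comm
    rw [rev_dSL hw hsw hik, rev_dSL hw hsw hjk] at c
    simpa using c.inv_inv
  refine mix_spread hgen hw (hz i j) (hz j k) (hz i k) (g := g) (conj_self hw i j) gB
    (scale_tri hw hgen (hT i j k hij hjk hik)) (fun t ht => ?_) t u
  obtain ⟨e, rfl⟩ := hgen t ht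
  clear ht
  induction e using Nat.strong_induction_on with
  | _ e ih =>
    by_cases he : e < 3
    · exact hM i j k hij hjk hik e he
    obtain ⟨d, rfl⟩ : ∃ d, e = d + 3 := ⟨e - 3, by omega⟩
    have h1 := congrArg (fun z => (g * f) * z * (g * f)⁻¹) (ih d (by omega))
    have e' : ∀ x y : P, (g * f) * ⁅x, y⁆ * (g * f)⁻¹ =
        ⁅g * (f * x * f⁻¹) * g⁻¹, g * (f * y * f⁻¹) * g⁻¹⁆ := fun x y => by
      simp only [commutatorElement_def]; group
    have e'' : ∀ x : P, (g * f) * x * (g * f)⁻¹ = g * (f * x * f⁻¹) * g⁻¹ := fun x => by group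
    simp only [e', e''] at h1
    rw [hf, scale_tri hw hgen (hT i k j hik hjk.symm hij), conj_self hw i k, hg, conj_self hw i j,
      scale_tri hw hgen (hT i j k hij hjk hik)] at h1
    rw [← hf, fB, ← hg, gB, inv_mul_cancel_left₀ hw, show w ^ 2 * (w * w ^ d) = w ^ (d + 3) by ring,
      show w * (w ^ 2 * w ^ d) = w ^ (d + 3) by ring] at h1
    exact h1

end Derive

section Generation

variable [Fintype F] [Fintype ι] [DecidableEq ι] {Λ : ι → ι → SL F →* P}
  (hsw : ∀ i j, i ≠ j → ∀ z, Λ j i z = Λ i j (swHom z))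

omit [Fintype F] [Fintype ι] [DecidableEq ι] in
include hsw in
theorem range_le_closure {i j : ι} (h : i ≠ j) :
    (Λ i j).range ≤ Subgroup.closure (rootSet (rootY Λ)) := by
  rintro _ ⟨z, rfl⟩
  have : (Subgroup.closure (rootSet (rootY Λ))).comap (Λ i j) = ⊤ :=
    eq_top_of_up_low (fun x => Subgroup.subset_closure ⟨i, j, x, h, rfl⟩) fun x => by
      refine Subgroup.subset_closure ⟨j, i, x, h.symm, ?_⟩
      rw [rootY, hsw i j h, swHom_up]
  exact Subgroup.mem_comap.1 (this.ge (Subgroup.mem_top z))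

/-- A group generated by root elements with the Steinberg relations, mapping to the matrices in the obvious
way, is the special linear group. -/
theorem bijective_of_preSt (h3 : 3 ≤ Fintype.card ι) {y : ι → ι → F → P} (S : PreSt y)
    (hgen : Subgroup.closure (rootSet y) = ⊤) (π : P →* Matrix.SpecialLinearGroup ι F)
    (hπ : ∀ (i j : ι) (h : i ≠ j) (t : F), π (y i j t) = SpecialLinearGroup.transvection h t) :
    Function.Bijective π := by
  obtain ⟨φ, hφ⟩ := exists_hom h3 S
  have h1 : π.comp φ = MonoidHom.id _ := by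
    have : (π.comp φ).eqLocus (MonoidHom.id _) = ⊤ :=
      CfsgLib.Classical.sl_subgroup_eq_top _ fun i j h c => by
        show π (φ _) = _
        rw [hφ, hπ i j h]; rfl
    exact MonoidHom.ext fun x => (this.ge (Subgroup.mem_top x) :)
  have h2 : Function.Surjective φ := by
    rw [← MonoidHom.range_eq_top, eq_top_iff, ← hgen, Subgroup.closure_le]
    rintro _ ⟨i, j, t, h, rfl⟩
    exact ⟨_, hφ i j h t⟩
  refine ⟨fun a b e => ?_, fun x => ⟨φ x, DFunLike.congr_fun h1 x⟩⟩
  obtain ⟨x, rfl⟩ := h2 a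
  obtain ⟨x', rfl⟩ := h2 b
  rw [show x = x' from (DFunLike.congr_fun h1 x).symm.trans (e.trans (DFunLike.congr_fun h1 x'))]

end Generation

end CfsgLib.SLPres
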