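import Cfsg.Agent.Lib.Presentations.All

/-!
# Padding presentations and presenting quotients
-/

set_option autoImplicit false

open Subgroup CfsgLib.Presentations

namespace CfsgLib.SLPres

variable {P : Type*} [Group P]

/-- A generator may be added at the cost of one relation. -/
theorem hasPres_succ {g k : ℕ} {t : Fin g → P} {T : Subgroup P} (h : HasPres g k t T) :
    ∃ s : Fin (g + 1) → P, HasPres (g + 1) (k + 1) s T := by
  refine ⟨Fin.snoc t 1, ?_⟩
  have hs : closure (Set.range (Fin.snoc t 1 : Fin (g + 1) → P)) = T := by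
    refine le_antisymm ((closure_le _).2 ?_) (h.1.symm.le.trans ((closure_le _).2 ?_))
    · rintro _ ⟨i, rfl⟩
      induction i using Fin.lastCases with
      | last => rw [Fin.snoc_last]; exact one_mem T
      | cast i => rw [Fin.snoc_castSucc]; exact h.1.le (subset_closure (Set.mem_range_self i))
    · rintro _ ⟨i, rfl⟩
      exact subset_closure ⟨i.castSucc, Fin.snoc_castSucc ..⟩
  have := h.transfer (Fin.snoc t 1) hs (fun i => FreeGroup.of i.castSucc) (fun i => by simp)
    {FreeGroup.of (Fin.last g)} (fun e he => by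
      rw [Finset.mem_singleton] at he
      simp [he]) fun {Q} _ f hf j => by
    induction j using Fin.lastCases with
    | last => rw [hf _ (Finset.mem_singleton_self _)]; exact one_mem _
    | cast i => exact subset_closure ⟨i, rfl⟩
  simpa using this

/-- The quotient by a cyclic normal subgroup costs one relation. -/
theorem quotient_pres {g k : ℕ} {t : Fin g → P} (h : HasPres g k t ⊤) (N : Subgroup P) [N.Normal] (z : P)
    (hz : z ∈ N) (hN : N ≤ Subgroup.zpowers z) :
    HasPres g (k + 1) (fun i => (QuotientGroup.mk' N) (t i)) (⊤ : Subgroup (P ⧸ N)) := by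
  classical
  have hclos : closure (Set.range fun i => (QuotientGroup.mk' N) (t i)) = (⊤ : Subgroup (P ⧸ N)) := by
    rw [show (Set.range fun i => (QuotientGroup.mk' N) (t i)) = (QuotientGroup.mk' N) '' Set.range t from
      (Set.range_comp _ _), ← MonoidHom.map_closure, h.1, ← MonoidHom.range_eq_map,
      MonoidHom.range_eq_top.2 (QuotientGroup.mk'_surjective N)]
  obtain ⟨-, rels, hk, π, hinj, ht⟩ := h.mono le_rfl
  have hsurj : Function.Surjective π := MonoidHom.range_eq_top.1 ((range_eq_closure π ht).trans h.1)
  obtain ⟨y, hy⟩ := hsurj z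
  obtain ⟨y, rfl⟩ := PresentedGroup.mk_surjective _ y
  refine ⟨hclos, insert y rels, (Finset.card_insert_le _ _).trans (by omega), ?_⟩
  let q : PresentedGroup (↑rels : Set (FreeGroup (Fin g))) →* P ⧸ N := (QuotientGroup.mk' N).comp π
  have hq : ∀ x, FreeGroup.lift (fun i => (QuotientGroup.mk' N) (t i)) x = q (PresentedGroup.mk _ x) := by
    have : FreeGroup.lift (fun i => (QuotientGroup.mk' N) (t i)) = q.comp (PresentedGroup.mk _) :=
      FreeGroup.ext_hom _ _ fun i => by
        rw [FreeGroup.lift_apply_of, MonoidHom.comp_apply]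
        exact congrArg (QuotientGroup.mk' N) (ht i).symm
    exact fun x => DFunLike.congr_fun this x
  have hrel : ∀ r ∈ (↑(insert y rels) : Set (FreeGroup (Fin g))),
      FreeGroup.lift (fun i => (QuotientGroup.mk' N) (t i)) r = 1 := by
    intro r hr
    rw [hq]
    rcases Finset.mem_insert.1 (Finset.mem_coe.1 hr) with rfl | hr
    · show QuotientGroup.mk' N (π _) = 1
      rw [hy]; exact (QuotientGroup.eq_one_iff z).2 hz
    · rw [PresentedGroup.one_of_mem (Finset.mem_coe.2 hr), map_one]
  refine ⟨PresentedGroup.toGroup hrel, ?_, fun i => PresentedGroup.toGroup.of hrel⟩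
  rw [injective_iff_map_eq_one]
  intro x hx
  obtain ⟨x, rfl⟩ := PresentedGroup.mk_surjective _ x
  change FreeGroup.lift (fun i => (QuotientGroup.mk' N) (t i)) x = 1 at hx
  rw [hq] at hx
  change QuotientGroup.mk' N (π _) = 1 at hx
  obtain ⟨m, hm⟩ := Subgroup.mem_zpowers_iff.1 (hN ((QuotientGroup.eq_one_iff _).1 hx))
  rw [← hy, ← map_zpow, ← map_zpow] at hm
  let down : PresentedGroup (↑rels : Set (FreeGroup (Fin g))) →*
      PresentedGroup (↑(insert y rels) : Set (FreeGroup (Fin g))) :=
    PresentedGroup.toGroup (f := PresentedGroup.of) fun r hr => by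
      rw [show FreeGroup.lift (PresentedGroup.of (rels := (↑(insert y rels) : Set (FreeGroup (Fin g))))) =
        PresentedGroup.mk _ from FreeGroup.ext_hom _ _ fun i => by simp [PresentedGroup.of]]
      exact PresentedGroup.one_of_mem (Finset.mem_coe.2 (Finset.mem_insert_of_mem (Finset.mem_coe.1 hr)))
  have hdown : ∀ u, down (PresentedGroup.mk _ u) = PresentedGroup.mk _ u := by
    have : down.comp (PresentedGroup.mk _) = PresentedGroup.mk _ := FreeGroup.ext_hom _ _ fun i => by
      rw [MonoidHom.comp_apply]; exact PresentedGroup.toGroup.of _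
    exact fun u => DFunLike.congr_fun this u
  have e := congrArg down (hinj hm)
  rw [hdown, hdown, map_zpow,
    PresentedGroup.one_of_mem (Finset.mem_coe.2 (Finset.mem_insert_self _ _)), one_zpow] at e
  exact e.symm

/-- A presentation of the whole group as an isomorphism. -/
theorem hasPres_iso {g k : ℕ} {t : Fin g → P} (h : HasPres g k t ⊤) :
    ∃ rels : Finset (FreeGroup (Fin g)), rels.card ≤ k ∧
      Nonempty (PresentedGroup (↑rels : Set (FreeGroup (Fin g))) ≃* P) := by
  obtain ⟨rels, hk, e, -⟩ := h.exists_equiv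
  exact ⟨rels, hk, ⟨e.trans Subgroup.topEquiv⟩⟩

/-- An isomorphism from a presented group gives a presentation. -/
theorem hasPres_of_iso {g k : ℕ} {rels : Finset (FreeGroup (Fin g))} (hk : rels.card ≤ k)
    (e : PresentedGroup (↑rels : Set (FreeGroup (Fin g))) ≃* P) :
    HasPres g k (fun i => e (PresentedGroup.of i)) ⊤ := by
  refine ⟨?_, rels, hk, e.toMonoidHom, e.injective, fun i => rfl⟩
  rw [show (Set.range fun i => e (PresentedGroup.of i)) = e.toMonoidHom '' Set.range PresentedGroup.of from
    (Set.range_comp _ _), ← MonoidHom.map_closure, PresentedGroup.closure_range_of, ← MonoidHom.range_eq_map,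
    MonoidHom.range_eq_top.2 e.surjective]

end CfsgLib.SLPres
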