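import Cfsg.Agent.Lib.KnownB.SLPres.AltGlue
import Cfsg.Agent.Lib.KnownB.SLPres.Target
import Cfsg.Agent.Lib.KnownB.SLPres.Tietze

/-!
# Short presentations of `SL n` from short presentations of the alternating group
-/

set_option autoImplicit false

open Matrix CfsgLib.SL2Pres CfsgLib.Perm.Quad.SL2 CfsgLib.KnownA.StSL CfsgLib.Classical
open CfsgLib.KnownB.WordClassical CfsgLib.Presentations
open scoped commutatorElement

namespace CfsgLib.SLPres

variable {F : Type*} [Field F] [Fintype F] {n : ℕ}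

theorem alt_four_fix : ∀ g : Equiv.Perm (Fin 4), Equiv.Perm.sign g = 1 → g 0 = 0 → g 1 = 1 → g = 1 := by
  decide

theorem flip4_cross4 (hn : 4 ≤ n) : flip4 hn * cross4 hn = cross4 hn * flip4 hn := by
  obtain ⟨f0, f1, f2, f3⟩ := flip4_apply hn
  obtain ⟨c0, c1, c2, c3⟩ := cross4_apply hn
  apply Subtype.ext
  apply Equiv.ext
  intro x
  show (flip4 hn : Equiv.Perm (Fin n)) ((cross4 hn : Equiv.Perm (Fin n)) x) =
    (cross4 hn : Equiv.Perm (Fin n)) ((flip4 hn : Equiv.Perm (Fin n)) x)
  by_cases h0 : x = co hn 0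
  · rw [h0, c0, f0, f2, c1]
  by_cases h1 : x = co hn 1
  · rw [h1, c1, f1, f3, c0]
  by_cases h2 : x = co hn 2
  · rw [h2, c2, f2, f0, c3]
  by_cases h3 : x = co hn 3
  · rw [h3, c3, f3, f1, c2]
  have ef : (flip4 hn : Equiv.Perm (Fin n)) x = x := by
    simp [flip4, Equiv.swap_apply_of_ne_of_ne h0 h1, Equiv.swap_apply_of_ne_of_ne h2 h3]
  have ec : (cross4 hn : Equiv.Perm (Fin n)) x = x := by
    simp [cross4, Equiv.swap_apply_of_ne_of_ne h0 h2, Equiv.swap_apply_of_ne_of_ne h1 h3]
  rw [ec, ef, ec]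

omit [Fintype F] in
/-- The three relations of a triple, as relators. -/
def triWords {w : F} (hw : w ≠ 0) {P : Type*} [Group P] (Λ : Fin n → Fin n → SL F → P) (i j k : Fin n) : List P :=
  [⁅Λ i j (dSL hw), Λ i k (dSL hw)⁆,
   Λ i j (dSL hw) * Λ i k (up 1) * (Λ i j (dSL hw))⁻¹ * (Λ i k (up w))⁻¹,
   ⁅Λ i j (up 1), Λ j k (up 1)⁆ * (Λ i k (up 1))⁻¹]

omit [Fintype F] in
theorem triWords_iff {w : F} (hw : w ≠ 0) {P Q : Type*} [Group P] [Group Q] (Λ : Fin n → Fin n → SL F → P)
    (M : Fin n → Fin n → SL F →* Q) (f : P →* Q) (e : ∀ i j z, f (Λ i j z) = M i j z) (i j k : Fin n) :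
    (∀ r ∈ triWords hw Λ i j k, f r = 1) ↔ Tri hw M i j k := by
  simp only [triWords, List.forall_mem_cons, List.not_mem_nil, IsEmpty.forall_iff, implies_true, and_true,
    map_mul, map_inv, map_commutatorElement, e, commutatorElement_eq_one_iff_commute, mul_inv_eq_one]
  exact ⟨fun ⟨a, b, c⟩ => ⟨a, b, c⟩, fun T => ⟨T.comm, T.scale, T.mix⟩⟩

/-- From `r` relations on `k` generators for the alternating group we get `r + 16` relations on `k + 2`
generators for the special linear group. -/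
theorem pres_sl (hn : 4 ≤ n) {k r : ℕ} {t : Fin k → alternatingGroup (Fin n)} (hX : HasPres k r t ⊤) :
    ∃ s : Fin (k + 2) → Matrix.SpecialLinearGroup (Fin n) F, HasPres (k + 2) (r + 16) s ⊤ := by
  classical
  obtain ⟨w, hw, hgen, a, hcl, RL, hRL, E, hE⟩ := exists_pair_pres (F := F)
  obtain ⟨hXcl, RX, hRX, πX, hπXi, hπX⟩ := hX
  have hπXs : Function.Surjective πX := MonoidHom.range_eq_top.1 ((range_eq_closure πX hπX).trans hXcl)
  let eX := MulEquiv.ofBijective πX ⟨hπXi, hπXs⟩
  have heX : ∀ i, eX (PresentedGroup.of i) = t i := hπX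
  set c01 : SL F →* Matrix.SpecialLinearGroup (Fin n) F := emb2 (co hn 0) (co hn 1) with hc01
  let s : Fin (k + 2) → Matrix.SpecialLinearGroup (Fin n) F :=
    Fin.append (fun i => altSL n (t i)) ![c01 a, c01 (dSL hw)]
  -- the free words
  let ι₀ : FreeGroup (Fin k) →* FreeGroup (Fin (k + 2)) := FreeGroup.lift fun i => FreeGroup.of (Fin.castAdd 2 i)
  have hsur : ∀ g, ∃ x : FreeGroup (Fin k), eX (PresentedGroup.mk _ x) = g := fun g => by
    obtain ⟨y, hy⟩ := eX.surjective g
    obtain ⟨x, rfl⟩ := PresentedGroup.mk_surjective _ y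
    exact ⟨x, hy⟩
  choose wX hwX using hsur
  let W : alternatingGroup (Fin n) → FreeGroup (Fin (k + 2)) := fun g => ι₀ (wX g)
  let A : FreeGroup (Fin (k + 2)) := FreeGroup.of (Fin.natAdd k 0)
  let Hh : FreeGroup (Fin (k + 2)) := FreeGroup.of (Fin.natAdd k 1)
  let B : FreeGroup (Fin (k + 2)) := W (flip4 hn) * A * (W (flip4 hn))⁻¹
  let sub : FreeGroup (Fin 3) →* FreeGroup (Fin (k + 2)) := FreeGroup.lift ![A, B, Hh]
  have hsurL : ∀ z, ∃ x : FreeGroup (Fin 3), E (PresentedGroup.mk _ x) = z := fun z => by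
    obtain ⟨y, hy⟩ := E.surjective z
    obtain ⟨x, rfl⟩ := PresentedGroup.mk_surjective _ y
    exact ⟨x, hy⟩
  choose wL hwL using hsurL
  let Λ : Fin n → Fin n → SL F → FreeGroup (Fin (k + 2)) := fun i j z =>
    if h : i ≠ j then W (exists_even_pair hn h).choose * sub (wL z) * (W (exists_even_pair hn h).choose)⁻¹ else 1
  let L := FreeGroup.lift s
  -- the values of the words
  have hLι : ∀ x, L (ι₀ x) = altSL n (eX (PresentedGroup.mk _ x)) := by
    have : L.comp ι₀ = (altSL n).comp (eX.toMonoidHom.comp (PresentedGroup.mk _)) :=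
      FreeGroup.ext_hom _ _ fun i => by
        show L (ι₀ (FreeGroup.of i)) = altSL n (eX (PresentedGroup.of i))
        rw [heX]
        simp [L, ι₀, s]
    exact fun x => DFunLike.congr_fun this x
  have hLW : ∀ g, L (W g) = altSL n g := fun g => by simp only [W]; rw [hLι, hwX]
  have h01 : co hn 0 ≠ co hn 1 := (Fin.castLE_injective hn).ne (by decide)
  have hflipT : ∀ z, altSL n (flip4 hn) * c01 z * (altSL n (flip4 hn))⁻¹ = c01 (swHom z) := fun z => by
    rw [hc01, emb2_conj _ h01, (flip4_apply hn).1, (flip4_apply hn).2.1, emb2_swap h01]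
  have hLsub : ∀ x, L (sub x) = c01 (E (PresentedGroup.mk _ x)) := by
    have : L.comp sub = c01.comp (E.toMonoidHom.comp (PresentedGroup.mk _)) := FreeGroup.ext_hom _ _ fun i => by
      show L (sub (FreeGroup.of i)) = c01 (E (PresentedGroup.of i))
      rw [hE]
      fin_cases i
      · simp [L, sub, A, s]
      · show L (sub (FreeGroup.of 1)) = c01 (swHom a)
        rw [← hflipT]
        simp [L, sub, B, A, s, ← hLW (flip4 hn)]
      · simp [L, sub, Hh, s]
    exact fun x => DFunLike.congr_fun this x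
  have hLΛ : ∀ i j z, L (Λ i j z) = emb2 i j z := fun i j z => by
    by_cases h : i ≠ j
    · simp only [Λ, dif_pos h]
      obtain ⟨e0, e1⟩ := (exists_even_pair hn h).choose_spec
      rw [map_mul, map_mul, map_inv, hLW, hLsub, hwL, hc01, emb2_conj _ h01, e0, e1]
    · simp only [Λ, dif_neg h]
      rw [emb2, dif_neg h, map_one, MonoidHom.one_apply]
  -- the stabiliser and the three-cycle
  obtain ⟨c, hc0, hc1, hcgen⟩ := exists_stab_gen hn
  let g₀ : alternatingGroup (Fin n) :=
    ⟨Equiv.swap (co hn 0) (co hn 1) * Equiv.swap (co hn 0) (co hn 2),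
      Equiv.Perm.mem_alternatingGroup.2 (by
        rw [Equiv.Perm.sign_mul, Equiv.Perm.sign_swap ((Fin.castLE_injective hn).ne (by decide)),
          Equiv.Perm.sign_swap ((Fin.castLE_injective hn).ne (by decide))]
        rfl)⟩
  have hg₀ : (g₀ : Equiv.Perm (Fin n)).IsThreeCycle :=
    Equiv.Perm.isThreeCycle_swap_mul_swap_same ((Fin.castLE_injective hn).ne (by decide))
      ((Fin.castLE_injective hn).ne (by decide)) ((Fin.castLE_injective hn).ne (by decide))
  obtain ⟨Wroot, hWroot, hWval⟩ : ∃ x ∈ Subgroup.closure {x | ∃ i j t, i ≠ j ∧ x = Λ i j (up t)},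
      L x = altSL n g₀ := by
    have : (Subgroup.closure {x | ∃ i j t, i ≠ j ∧ x = Λ i j (up t)}).map L = ⊤ := by
      rw [MonoidHom.map_closure, ← closure_emb2_eq_top (F := F) (n := n)]
      congr 1
      ext y
      constructor
      · rintro ⟨_, ⟨i, j, t, h, rfl⟩, rfl⟩; exact ⟨i, j, t, h, hLΛ i j _⟩
      · rintro ⟨i, j, t, h, rfl⟩; exact ⟨_, ⟨i, j, t, h, rfl⟩, hLΛ i j _⟩
    obtain ⟨x, hx, e⟩ := this.ge (Subgroup.mem_top (altSL n g₀))
    exact ⟨x, hx, e⟩
  -- the relations
  let S₁ : List (FreeGroup (Fin (k + 2))) :=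
    if n = 4 then triWords hw Λ (co hn 0) (co hn 1) (co hn 3)
    else [⁅W c, A⁆, ⁅W (flip4 hn) * W c * (W (flip4 hn))⁻¹, A⁆]
  let S₀ : List (FreeGroup (Fin (k + 2))) :=
    [⁅A, W (cross4 hn) * A * (W (cross4 hn))⁻¹⁆, ⁅A, W (cross4 hn) * B * (W (cross4 hn))⁻¹⁆,
     W g₀ * Wroot⁻¹] ++ triWords hw Λ (co hn 0) (co hn 1) (co hn 2) ++ S₁
  have hS₀ : S₀.length ≤ 9 := by
    simp only [S₀, S₁, List.length_append]
    split_ifs <;> simp [triWords]
  let rels := RX.image ι₀ ∪ RL.image sub ∪ S₀.toFinset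
  have hcard : rels.card ≤ r + 16 := by
    refine (Finset.card_union_le _ _).trans (le_trans (Nat.add_le_add (Finset.card_union_le _ _) le_rfl) ?_)
    have := (Finset.card_image_le (s := RX) (f := ι₀)).trans hRX
    have := (Finset.card_image_le (s := RL) (f := sub)).trans hRL
    have := (List.toFinset_card_le S₀).trans hS₀
    omega
  -- they hold
  have h23 : co hn 2 ≠ co hn 3 := (Fin.castLE_injective hn).ne (by decide)
  have hne : ∀ x y : Fin 4, x ≠ y → co hn x ≠ co hn y := fun x y h => (Fin.castLE_injective hn).ne h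
  have hLA : L A = c01 a := by simp [L, A, s]
  have hLB : L B = c01 (swHom a) := by
    simp only [B]
    rw [map_mul, map_mul, map_inv, hLW, hLA, hflipT]
  have hstabT : ∀ g : alternatingGroup (Fin n), (g : Equiv.Perm (Fin n)) (co hn 0) = co hn 0 →
      (g : Equiv.Perm (Fin n)) (co hn 1) = co hn 1 → Commute (altSL n g) (c01 a) := fun g e0 e1 => by
    refine mul_inv_eq_iff_eq_mul.1 ?_
    rw [hc01, emb2_conj _ h01, e0, e1]
  have hhold : ∀ x ∈ (↑rels : Set (FreeGroup (Fin (k + 2)))), L x = 1 := by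
    intro x hx
    simp only [rels, Finset.coe_union, Set.mem_union, Finset.mem_coe, Finset.mem_image, List.mem_toFinset] at hx
    rcases hx with (⟨y, hy, rfl⟩ | ⟨y, hy, rfl⟩) | hx
    · rw [hLι, PresentedGroup.one_of_mem (Finset.mem_coe.2 hy), map_one, map_one]
    · rw [hLsub, PresentedGroup.one_of_mem (Finset.mem_coe.2 hy), map_one, map_one]
    · revert x
      simp only [S₀, S₁, List.forall_mem_append, List.forall_mem_cons, List.not_mem_nil, IsEmpty.forall_iff,
        implies_true, and_true]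
      refine ⟨⟨⟨?_, ?_, ?_⟩, ?_⟩, ?_⟩
      · rw [map_commutatorElement, map_mul, map_mul, map_inv, hLA, hLW, hc01, emb2_conj _ h01,
          (cross4_apply hn).1, (cross4_apply hn).2.1, commutatorElement_eq_one_iff_commute]
        exact emb2_commute h01 h23 (hne _ _ (by decide)) (hne _ _ (by decide)) (hne _ _ (by decide))
          (hne _ _ (by decide)) _ _
      · rw [map_commutatorElement, map_mul, map_mul, map_inv, hLA, hLB, hLW, hc01, emb2_conj _ h01,
          (cross4_apply hn).1, (cross4_apply hn).2.1, commutatorElement_eq_one_iff_commute]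
        exact emb2_commute h01 h23 (hne _ _ (by decide)) (hne _ _ (by decide)) (hne _ _ (by decide))
          (hne _ _ (by decide)) _ _
      · rw [map_mul, map_inv, hLW, hWval, mul_inv_cancel]
      · exact (triWords_iff hw Λ emb2 L hLΛ _ _ _).2
          (emb2_tri hw h01 (hne _ _ (by decide)) (hne _ _ (by decide)))
      · split_ifs
        · exact (triWords_iff hw Λ emb2 L hLΛ _ _ _).2
            (emb2_tri hw h01 (hne _ _ (by decide)) (hne _ _ (by decide)))
        · simp only [List.forall_mem_cons, List.not_mem_nil, IsEmpty.forall_iff, implies_true, and_true,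
            map_commutatorElement, commutatorElement_eq_one_iff_commute, map_mul, map_inv, hLA, hLW]
          refine ⟨hstabT c hc0 hc1, ?_⟩
          rw [← map_inv, ← map_mul, ← map_mul]
          obtain ⟨f0, f1, -, -⟩ := flip4_apply hn
          have i0 : (flip4 hn : Equiv.Perm (Fin n))⁻¹ (co hn 0) = co hn 1 := Equiv.Perm.inv_eq_iff_eq.2 f1.symm
          have i1 : (flip4 hn : Equiv.Perm (Fin n))⁻¹ (co hn 1) = co hn 0 := Equiv.Perm.inv_eq_iff_eq.2 f0.symm
          refine hstabT _ ?_ ?_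
          · show (flip4 hn : Equiv.Perm (Fin n)) ((c : Equiv.Perm (Fin n)) ((flip4 hn : Equiv.Perm (Fin n))⁻¹ (co hn 0))) = _
            rw [i0]
            exact (congrArg _ hc1).trans f1
          · show (flip4 hn : Equiv.Perm (Fin n)) ((c : Equiv.Perm (Fin n)) ((flip4 hn : Equiv.Perm (Fin n))⁻¹ (co hn 1))) = _
            rw [i1]
            exact (congrArg _ hc0).trans f0
  let π := PresentedGroup.toGroup (rels := (↑rels : Set (FreeGroup (Fin (k + 2))))) (f := s) hhold
  have hπ : ∀ i, π (PresentedGroup.of i) = s i := fun i => PresentedGroup.toGroup.of hhold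
  have hπmk : ∀ x, π (PresentedGroup.mk _ x) = L x := fun x => rfl
  -- the homomorphisms into the presented group
  let q : FreeGroup (Fin (k + 2)) →* PresentedGroup (↑rels : Set (FreeGroup (Fin (k + 2)))) := PresentedGroup.mk _
  have hq1 : ∀ x ∈ rels, q x = 1 := fun x hx => PresentedGroup.one_of_mem (Finset.mem_coe.2 hx)
  let φX := PresentedGroup.toGroup (rels := (↑RX : Set (FreeGroup (Fin k))))
    (f := fun i => q (ι₀ (FreeGroup.of i))) fun x hx => by
      rw [show FreeGroup.lift (fun i => q (ι₀ (FreeGroup.of i))) = q.comp ι₀ from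
        FreeGroup.ext_hom _ _ fun i => by simp]
      exact hq1 _ (Finset.mem_union_left _ (Finset.mem_union_left _ (Finset.mem_image_of_mem _ (Finset.mem_coe.1 hx))))
  let φL := PresentedGroup.toGroup (rels := (↑RL : Set (FreeGroup (Fin 3))))
    (f := fun i => q (sub (FreeGroup.of i))) fun x hx => by
      rw [show FreeGroup.lift (fun i => q (sub (FreeGroup.of i))) = q.comp sub from
        FreeGroup.ext_hom _ _ fun i => by simp]
      exact hq1 _ (Finset.mem_union_left _ (Finset.mem_union_right _ (Finset.mem_image_of_mem _ (Finset.mem_coe.1 hx))))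
  let μ : alternatingGroup (Fin n) →* _ := φX.comp eX.symm.toMonoidHom
  let ℓ : SL F →* _ := φL.comp E.symm.toMonoidHom
  have hφX : ∀ x, φX (PresentedGroup.mk _ x) = q (ι₀ x) := by
    have : φX.comp (PresentedGroup.mk _) = q.comp ι₀ := FreeGroup.ext_hom _ _ fun i => by
      show φX (PresentedGroup.of i) = _
      exact PresentedGroup.toGroup.of _
    exact fun x => DFunLike.congr_fun this x
  have hφL : ∀ x, φL (PresentedGroup.mk _ x) = q (sub x) := by
    have : φL.comp (PresentedGroup.mk _) = q.comp sub := FreeGroup.ext_hom _ _ fun i => by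
      show φL (PresentedGroup.of i) = _
      exact PresentedGroup.toGroup.of _
    exact fun x => DFunLike.congr_fun this x
  have hμ : ∀ g, μ g = q (W g) := fun g => by
    show φX (eX.symm g) = q (ι₀ (wX g))
    rw [← hφX, ← congrArg eX.symm (hwX g), eX.symm_apply_apply]
  have hℓ : ∀ z, ℓ z = q (sub (wL z)) := fun z => by
    show φL (E.symm z) = q (sub (wL z))
    rw [← hφL, ← congrArg E.symm (hwL z), E.symm_apply_apply]
  have hℓE : ∀ i, ℓ (E (PresentedGroup.of i)) = q (sub (FreeGroup.of i)) := fun i => by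
    show φL (E.symm (E _)) = _
    rw [E.symm_apply_apply]; exact PresentedGroup.toGroup.of _
  have hℓa : ℓ a = q A := by have := hℓE 0; rw [hE] at this; simpa [sub] using this
  have hℓb : ℓ (swHom a) = q B := by have := hℓE 1; rw [hE] at this; simpa [sub] using this
  have hℓh : ℓ (dSL hw) = q Hh := by have := hℓE 2; rw [hE] at this; simpa [sub] using this
  have hΛ : ∀ i j z, q (Λ i j z) = lam hn μ ℓ i j z := fun i j z => by
    by_cases h : i ≠ j
    · simp only [Λ, lam, dif_pos h]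
      show _ = μ _ * ℓ z * (μ _)⁻¹
      rw [map_mul, map_mul, map_inv, hμ, hℓ]
    · simp only [Λ, lam, dif_neg h]
      rw [map_one, MonoidHom.one_apply]
  clear_value μ ℓ
  have hR : ∀ x ∈ S₀, q x = 1 := fun x hx => hq1 x (Finset.mem_union_right _ (List.mem_toFinset.2 hx))
  simp only [S₀, List.forall_mem_append, List.forall_mem_cons, List.not_mem_nil, IsEmpty.forall_iff,
    implies_true, and_true] at hR
  obtain ⟨⟨⟨hD1, hD2, hTie⟩, hTri⟩, hS1⟩ := hR
  rw [map_commutatorElement, commutatorElement_eq_one_iff_commute, map_mul, map_mul, map_inv, ← hℓa, ← hμ] at hD1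
  rw [map_commutatorElement, commutatorElement_eq_one_iff_commute, map_mul, map_mul, map_inv, ← hℓa, ← hℓb,
    ← hμ] at hD2
  have hext : ∀ (f f' : SL F →* PresentedGroup (↑rels : Set (FreeGroup (Fin (k + 2))))),
      f a = f' a → f (swHom a) = f' (swHom a) → ∀ z, f z = f' z := by
    intro f f' e1 e2 z
    have : f.eqLocus f' = ⊤ := eq_top_iff.2 (hcl.ge.trans ((Subgroup.closure_le _).2 (by
      rintro _ (rfl | rfl)
      · exact e1
      · exact e2)))
    exact (this.ge (Subgroup.mem_top z) :)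
  have hflip : ∀ z, μ (flip4 hn) * ℓ z * (μ (flip4 hn))⁻¹ = ℓ (swHom z) := by
    have hb : μ (flip4 hn) * ℓ a * (μ (flip4 hn))⁻¹ = ℓ (swHom a) := by
      rw [hℓb, hℓa, hμ, ← map_inv, ← map_mul, ← map_mul]
    have hi : (μ (flip4 hn))⁻¹ = μ (flip4 hn) := by
      rw [← map_inv, inv_eq_of_mul_eq_one_right (flip4_mul_self hn)]
    refine hext ((MulAut.conj (μ (flip4 hn))).toMonoidHom.comp ℓ) (ℓ.comp swHom) hb ?_
    show μ (flip4 hn) * ℓ (swHom a) * (μ (flip4 hn))⁻¹ = ℓ (swHom (swHom a))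
    rw [swHom_swHom, ← hb, hi]
    simp only [← mul_assoc, ← map_mul, flip4_mul_self, map_one, one_mul]
    rw [mul_assoc, ← map_mul, flip4_mul_self, map_one, mul_one]
  have hconjF : ∀ x z, Commute (μ x) (ℓ z) →
      Commute (μ (flip4 hn * x * (flip4 hn)⁻¹)) (ℓ (swHom z)) := fun x z h => by
    rw [← hflip, map_mul, map_mul, map_inv]
    exact h.map (MulAut.conj (μ (flip4 hn)))
  have hFi : (flip4 hn)⁻¹ = flip4 hn := inv_eq_of_mul_eq_one_right (flip4_mul_self hn)
  have hstab : ∀ g : alternatingGroup (Fin n), (g : Equiv.Perm (Fin n)) (co hn 0) = co hn 0 →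
      (g : Equiv.Perm (Fin n)) (co hn 1) = co hn 1 → ∀ z, Commute (μ g) (ℓ z) := by
    have ha : ∀ g : alternatingGroup (Fin n), (g : Equiv.Perm (Fin n)) (co hn 0) = co hn 0 →
        (g : Equiv.Perm (Fin n)) (co hn 1) = co hn 1 → Commute (μ g) (ℓ a) := by
      intro g e0 e1
      by_cases h4 : n = 4
      · subst h4
        rw [show g = 1 from Subtype.ext (alt_four_fix _ (Equiv.Perm.mem_alternatingGroup.1 g.2) e0 e1), map_one]
        exact Commute.one_left _
      simp only [S₁, if_neg h4, List.forall_mem_cons, List.not_mem_nil, IsEmpty.forall_iff, implies_true,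
        and_true, map_commutatorElement, commutatorElement_eq_one_iff_commute, map_mul, map_inv, ← hμ,
        ← hℓa] at hS1
      have hle : Subgroup.closure {c, flip4 hn * c * (flip4 hn)⁻¹} ≤
          (Subgroup.centralizer {ℓ a}).comap μ := by
        rw [Subgroup.closure_le]
        rintro _ (rfl | rfl) <;> rw [SetLike.mem_coe, Subgroup.mem_comap, Subgroup.mem_centralizer_iff] <;>
          intro y hy <;> rw [Set.mem_singleton_iff.1 hy]
        · exact hS1.1.eq.symm
        · rw [map_mul, map_mul, map_inv]; exact hS1.2.eq.symm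
      exact (Subgroup.mem_centralizer_iff.1 (Subgroup.mem_comap.1
        (hle (hcgen (flip4 hn) rfl g e0 e1))) _ (Set.mem_singleton _)).symm
    intro g e0 e1 z
    have hb : Commute (μ g) (ℓ (swHom a)) := by
      obtain ⟨f0, f1, -, -⟩ := flip4_apply hn
      have i0 : (flip4 hn : Equiv.Perm (Fin n))⁻¹ (co hn 0) = co hn 1 := Equiv.Perm.inv_eq_iff_eq.2 f1.symm
      have i1 : (flip4 hn : Equiv.Perm (Fin n))⁻¹ (co hn 1) = co hn 0 := Equiv.Perm.inv_eq_iff_eq.2 f0.symm
      have h := hconjF _ a (ha ((flip4 hn)⁻¹ * g * flip4 hn)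
        (by simp [f0, e1, Equiv.symm_apply_eq, f1]) (by simp [f1, e0, Equiv.symm_apply_eq, f0]))
      rwa [show flip4 hn * ((flip4 hn)⁻¹ * g * flip4 hn) * (flip4 hn)⁻¹ = g by group] at h
    exact mul_inv_eq_iff_eq_mul.1 (hext ((MulAut.conj (μ g)).toMonoidHom.comp ℓ) ℓ
      (mul_inv_eq_iff_eq_mul.2 (ha g e0 e1).eq) (mul_inv_eq_iff_eq_mul.2 hb.eq) z)
  have hdisj : ∀ z z', Commute (ℓ z) (μ (cross4 hn) * ℓ z' * (μ (cross4 hn))⁻¹) := by
    set K := μ (cross4 hn)
    have hA : ∀ z', Commute (ℓ a) (K * ℓ z' * K⁻¹) := fun z' => by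
      refine (mul_inv_eq_iff_eq_mul.1 (hext ((MulAut.conj (ℓ a)).toMonoidHom.comp ((MulAut.conj K).toMonoidHom.comp ℓ))
        ((MulAut.conj K).toMonoidHom.comp ℓ) ?_ ?_ z') :)
      · exact mul_inv_eq_iff_eq_mul.2 hD1.eq
      · exact mul_inv_eq_iff_eq_mul.2 hD2.eq
    have hB : ∀ z', Commute (ℓ (swHom a)) (K * ℓ z' * K⁻¹) := fun z' => by
      have h := (hA (swHom z')).map (MulAut.conj (μ (flip4 hn)))
      simp only [MulAut.conj_apply, hflip] at h
      have e : μ (flip4 hn) * (K * ℓ (swHom z') * K⁻¹) * (μ (flip4 hn))⁻¹ =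
          K * (μ (flip4 hn) * ℓ (swHom z') * (μ (flip4 hn))⁻¹) * K⁻¹ := by
        have e2 : μ (flip4 hn) * K = K * μ (flip4 hn) := by rw [← map_mul, flip4_cross4, map_mul]
        have e3 : K⁻¹ * (μ (flip4 hn))⁻¹ = (μ (flip4 hn))⁻¹ * K⁻¹ := by
          rw [← _root_.mul_inv_rev, ← _root_.mul_inv_rev, e2]
        calc _ = (μ (flip4 hn) * K) * ℓ (swHom z') * (K⁻¹ * (μ (flip4 hn))⁻¹) := by simp only [mul_assoc]
          _ = _ := by rw [e2, e3]; simp only [mul_assoc]
      rwa [e, hflip, swHom_swHom] at h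
    intro z z'
    have := hext ((MulAut.conj (K * ℓ z' * K⁻¹)).toMonoidHom.comp ℓ) ℓ
      (mul_inv_eq_iff_eq_mul.2 (hA z').eq.symm) (mul_inv_eq_iff_eq_mul.2 (hB z').eq.symm) z
    exact (mul_inv_eq_iff_eq_mul.1 this :).symm
  have htri : Tri hw (lam hn μ ℓ) (co hn 0) (co hn 1) (co hn 2) := (triWords_iff hw Λ _ q hΛ _ _ _).1 hTri
  have htri' : Tri hw (lam hn μ ℓ) (co hn 0) (co hn 1) (co hn 3) := by
    by_cases h4 : n = 4
    · simp only [S₁, if_pos h4] at hS1
      exact (triWords_iff hw Λ _ q hΛ _ _ _).1 hS1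
    have h5 : 4 < n := by omega
    let m4 : Fin n := ⟨4, h5⟩
    have hm : ∀ x : Fin 4, co hn x ≠ m4 := fun x e => by
      have := congrArg Fin.val e
      have := x.2
      simp [m4] at *
      omega
    let σ : alternatingGroup (Fin n) := ⟨Equiv.swap (co hn 2) (co hn 3) * Equiv.swap (co hn 3) m4,
      Equiv.Perm.mem_alternatingGroup.2 (by
        rw [Equiv.Perm.sign_mul, Equiv.Perm.sign_swap h23, Equiv.Perm.sign_swap (hm 3)]; rfl)⟩
    have s0 : (σ : Equiv.Perm (Fin n)) (co hn 0) = co hn 0 := by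
      simp [σ, Equiv.swap_apply_of_ne_of_ne, hne 0 2 (by decide), hne 0 3 (by decide), hm 0]
    have s1 : (σ : Equiv.Perm (Fin n)) (co hn 1) = co hn 1 := by
      simp [σ, Equiv.swap_apply_of_ne_of_ne, hne 1 2 (by decide), hne 1 3 (by decide), hm 1]
    have s2 : (σ : Equiv.Perm (Fin n)) (co hn 2) = co hn 3 := by
      simp [σ, Equiv.swap_apply_of_ne_of_ne, h23, hm 2]
    refine tri_map htri (MulAut.conj (μ σ)) ?_ ?_ ?_ <;> intro z <;> rw [MulAut.conj_apply, lam_move hstab]
    · rw [s0, s1]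
    · exact h01
    · rw [s0, s2]
    · exact hne _ _ (by decide)
    · rw [s1, s2]
    · exact hne _ _ (by decide)
  have Sys : AltSys hw hn μ ℓ := ⟨hflip, hstab, hdisj, htri, htri'⟩
  have hroot : μ g₀ ∈ Subgroup.closure (rootSet (rootY (lam hn μ ℓ))) := by
    rw [map_mul, map_inv, mul_inv_eq_one] at hTie
    rw [hμ, hTie]
    have hle : (Subgroup.closure {x | ∃ i j t, i ≠ j ∧ x = Λ i j (up t)}).map q ≤
        Subgroup.closure (rootSet (rootY (lam hn μ ℓ))) := by
      rw [MonoidHom.map_closure]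
      refine Subgroup.closure_mono ?_
      rintro _ ⟨_, ⟨i, j, t, h, rfl⟩, rfl⟩
      exact ⟨i, j, t, h, hΛ i j _⟩
    exact hle ⟨_, hWroot, rfl⟩
  have hP : μ.range ⊔ ℓ.range = ⊤ := by
    rw [eq_top_iff, ← PresentedGroup.closure_range_of, Subgroup.closure_le]
    rintro _ ⟨i, rfl⟩
    induction i using Fin.addCases with
    | left i =>
      refine Subgroup.mem_sup_left ⟨t i, ?_⟩
      rw [← heX, hμ]
      have := hφX (wX (eX (PresentedGroup.of i)))
      rw [← this, show PresentedGroup.mk _ (wX (eX (PresentedGroup.of i))) = PresentedGroup.of i from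
        eX.injective (hwX _), PresentedGroup.toGroup.of]
      simp [ι₀]
      rfl
    | right i =>
      fin_cases i
      · exact Subgroup.mem_sup_right ⟨a, hℓa⟩
      · exact Subgroup.mem_sup_right ⟨dSL hw, hℓh⟩
  have hbij : Function.Bijective π := by
    refine bijective_of_preSt (by simpa using (by omega : 3 ≤ n)) (altSys_preSt Sys hgen)
      (altSys_gen Sys hg₀ hroot hP) π fun i j h x => ?_
    show π (lam hn μ ℓ i j (up x)) = _
    rw [← hΛ, ← emb2_up h, ← hLΛ]
    rfl
  refine ⟨s, ?_, rels, hcard, π, hbij.injective, hπ⟩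
  exact (range_eq_closure π hπ).symm.trans (MonoidHom.range_eq_top.2 hbij.surjective)

end CfsgLib.SLPres
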