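import Cfsg.Agent.Lib.KnownB.SLPres.Target
import Cfsg.Agent.Lib.KnownB.SLPres.Tietze
import Cfsg.Agent.Lib.KnownB.SLPres.AltFacts

/-!
# A presentation of `SL 3` with a bounded number of relations

The generators are a three-cycle `c` and the three generators of one rank one subgroup.  The six rank one
subgroups are given by words, so no relation on `c` alone is needed.
-/

set_option autoImplicit false

open Matrix CfsgLib.SL2Pres CfsgLib.Perm.Quad.SL2 CfsgLib.KnownA.StSL CfsgLib.Classical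
open CfsgLib.KnownB.WordClassical CfsgLib.Presentations
open scoped commutatorElement

namespace CfsgLib.SLPres

variable {F : Type*} [Field F]

/-- The rank one subgroups on three coordinates from one of them and a cyclic move. -/
def lam3 {P : Type*} [Group P] (C : P) (ℓ : SL F →* P) (i j : Fin 3) : SL F →* P :=
  if j = i + 1 then (MulAut.conj (C ^ (i : ℕ))).toMonoidHom.comp ℓ
  else if i = j + 1 then ((MulAut.conj (C ^ (j : ℕ))).toMonoidHom.comp ℓ).comp swHom else 1

theorem lam3_swap {P : Type*} [Group P] (C : P) (ℓ : SL F →* P) {i j : Fin 3} (h : i ≠ j) (z : SL F) :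
    lam3 C ℓ j i z = lam3 C ℓ i j (swHom z) := by
  fin_cases i <;> fin_cases j <;> simp [lam3, swHom_swHom] at h ⊢

/-- The words of the rank one subgroups on three coordinates. -/
def word3 {G : Type*} [Group G] (C : G) (v : SL F → G) (i j : Fin 3) (z : SL F) : G :=
  if j = i + 1 then C ^ (i : ℕ) * v z * (C ^ (i : ℕ))⁻¹
  else if i = j + 1 then C ^ (j : ℕ) * v (swHom z) * (C ^ (j : ℕ))⁻¹ else 1

theorem map_word3 {G Q : Type*} [Group G] [Group Q] (f : G →* Q) (C : G) (v : SL F → G) (ℓ : SL F →* Q)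
    (hf : ∀ z, f (v z) = ℓ z) (i j : Fin 3) (z : SL F) : f (word3 C v i j z) = lam3 (f C) ℓ i j z := by
  simp only [word3, lam3]
  split_ifs
  · rw [map_mul, map_mul, map_inv, map_pow, hf]; rfl
  · rw [map_mul, map_mul, map_inv, map_pow, hf]; rfl
  · exact map_one f

/-- The six relations of a triple of three coordinates, as relators. -/
def threeWords {w : F} (hw : w ≠ 0) {P : Type*} [Group P] (Λ : Fin 3 → Fin 3 → SL F → P) (i j k : Fin 3) : List P :=
  [⁅Λ i j (dSL hw), Λ i k (dSL hw)⁆,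
   Λ i j (dSL hw) * Λ i k (up 1) * (Λ i j (dSL hw))⁻¹ * (Λ i k (up w))⁻¹,
   ⁅Λ i j (up 1), Λ j k (up 1)⁆ * (Λ i k (up 1))⁻¹,
   Λ i k (dSL hw) * Λ j k (up 1) * (Λ i k (dSL hw))⁻¹ * (Λ j k (up w))⁻¹,
   ⁅Λ i j (up w), Λ j k (up 1)⁆ * (Λ i k (up w))⁻¹,
   ⁅Λ i j (up (w ^ 2)), Λ j k (up 1)⁆ * (Λ i k (up (w ^ 2)))⁻¹]

theorem threeWords_iff {w : F} (hw : w ≠ 0) {P Q : Type*} [Group P] [Group Q] (Λ : Fin 3 → Fin 3 → SL F → P)
    (M : Fin 3 → Fin 3 → SL F →* Q) (f : P →* Q) (e : ∀ i j z, f (Λ i j z) = M i j z) (i j k : Fin 3) :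
    (∀ r ∈ threeWords hw Λ i j k, f r = 1) ↔
      Tri hw M i j k ∧ M i k (dSL hw) * M j k (up 1) * (M i k (dSL hw))⁻¹ = M j k (up w) ∧
        ∀ r < 3, ⁅M i j (up (w ^ r)), M j k (up 1)⁆ = M i k (up (w ^ r)) := by
  simp only [threeWords, List.forall_mem_cons, List.not_mem_nil, IsEmpty.forall_iff, implies_true, and_true,
    map_mul, map_inv, map_commutatorElement, e, commutatorElement_eq_one_iff_commute, mul_inv_eq_one]
  constructor
  · rintro ⟨a, b, c, d, e1, e2⟩
    refine ⟨⟨a, b, c⟩, d, fun r hr => ?_⟩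
    rcases (show r = 0 ∨ r = 1 ∨ r = 2 by omega) with rfl | rfl | rfl
    · rw [pow_zero]; exact c
    · rw [pow_one]; exact e1
    · exact e2
  · rintro ⟨T, d, h⟩
    exact ⟨T.comm, T.scale, T.mix, d, by have := h 1 (by norm_num); rwa [pow_one] at this, h 2 (by norm_num)⟩

variable [Fintype F]

/-- `SL 3` on four generators with at most 44 relations. -/
theorem pres_sl_three : ∃ s : Fin 4 → Matrix.SpecialLinearGroup (Fin 3) F, HasPres 4 44 s ⊤ := by
  classical
  obtain ⟨w, hw, hgen, a, hcl, RL, hRL, E, hE⟩ := exists_pair_pres (F := F)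
  let g₁ : alternatingGroup (Fin 3) := ⟨finRotate 3, Equiv.Perm.mem_alternatingGroup.2 (by decide)⟩
  set cc : Matrix.SpecialLinearGroup (Fin 3) F := altSL 3 g₁ with hcc
  set c01 : SL F →* Matrix.SpecialLinearGroup (Fin 3) F := emb2 0 1 with hc01
  let s : Fin 4 → Matrix.SpecialLinearGroup (Fin 3) F := ![cc, c01 a, c01 (swHom a), c01 (dSL hw)]
  let sub : FreeGroup (Fin 3) →* FreeGroup (Fin 4) := FreeGroup.lift fun i => FreeGroup.of i.succ
  let C : FreeGroup (Fin 4) := FreeGroup.of 0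
  have hsurL : ∀ z, ∃ x : FreeGroup (Fin 3), E (PresentedGroup.mk _ x) = z := fun z => by
    obtain ⟨y, hy⟩ := E.surjective z
    obtain ⟨x, rfl⟩ := PresentedGroup.mk_surjective _ y
    exact ⟨x, hy⟩
  choose wL hwL using hsurL
  let Λ : Fin 3 → Fin 3 → SL F → FreeGroup (Fin 4) := word3 C fun z => sub (wL z)
  let L := FreeGroup.lift s
  have hLsub : ∀ x, L (sub x) = c01 (E (PresentedGroup.mk _ x)) := by
    have : L.comp sub = c01.comp (E.toMonoidHom.comp (PresentedGroup.mk _)) := FreeGroup.ext_hom _ _ fun i => by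
      show L (sub (FreeGroup.of i)) = c01 (E (PresentedGroup.of i))
      rw [hE]
      fin_cases i <;> simp [L, sub, s]
    exact fun x => DFunLike.congr_fun this x
  have hLC : L C = cc := by simp [L, C, s]
  have hLΛ : ∀ i j z, L (Λ i j z) = emb2 i j z := by
    intro i j z
    show L (word3 C (fun z => sub (wL z)) i j z) = _
    rw [map_word3 L C _ c01 (fun z => by rw [hLsub, hwL]) i j z, hLC]
    have key : ∀ (m : ℕ) (u : SL F), cc ^ m * c01 u * (cc ^ m)⁻¹ =
        emb2 (((g₁ ^ m : alternatingGroup (Fin 3)) : Equiv.Perm (Fin 3)) 0)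
          (((g₁ ^ m : alternatingGroup (Fin 3)) : Equiv.Perm (Fin 3)) 1) u := fun m u => by
      rw [hcc, ← map_pow, hc01, emb2_conj _ (by decide)]
    by_cases h : i ≠ j
    · by_cases h1 : j = i + 1
      · simp only [lam3, if_pos h1]
        show cc ^ (i : ℕ) * c01 z * (cc ^ (i : ℕ))⁻¹ = _
        rw [key]
        congr 2 <;> subst h1 <;> fin_cases i <;> decide
      · have h2 : i = j + 1 := by revert h h1; fin_cases i <;> fin_cases j <;> decide
        simp only [lam3, if_neg h1, if_pos h2]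
        show cc ^ (j : ℕ) * c01 (swHom z) * (cc ^ (j : ℕ))⁻¹ = _
        rw [key, emb2_swap h.symm]
        congr 2 <;> subst h2 <;> fin_cases j <;> decide
    · rw [not_not] at h
      subst h
      rw [emb2, dif_neg (by simp)]
      simp only [lam3, if_neg (show ¬ i = i + 1 by fin_cases i <;> decide), MonoidHom.one_apply]
  obtain ⟨Wroot, hWroot, hWval⟩ : ∃ x ∈ Subgroup.closure {x | ∃ i j t, i ≠ j ∧ x = Λ i j (up t)}, L x = cc := by
    have : (Subgroup.closure {x | ∃ i j t, i ≠ j ∧ x = Λ i j (up t)}).map L = ⊤ := by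
      rw [MonoidHom.map_closure, ← closure_emb2_eq_top (F := F) (n := 3)]
      congr 1
      ext y
      constructor
      · rintro ⟨_, ⟨i, j, t, h, rfl⟩, rfl⟩; exact ⟨i, j, t, h, hLΛ i j _⟩
      · rintro ⟨i, j, t, h, rfl⟩; exact ⟨_, ⟨i, j, t, h, rfl⟩, hLΛ i j _⟩
    obtain ⟨x, hx, e⟩ := this.ge (Subgroup.mem_top cc)
    exact ⟨x, hx, e⟩
  let triples : List (Fin 3 × Fin 3 × Fin 3) := [(0, 1, 2), (0, 2, 1), (1, 0, 2), (1, 2, 0), (2, 0, 1), (2, 1, 0)]
  let S₀ : List (FreeGroup (Fin 4)) :=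
    (C * Wroot⁻¹) :: triples.flatMap fun x => threeWords hw Λ x.1 x.2.1 x.2.2
  let rels := RL.image sub ∪ S₀.toFinset
  have hcard : rels.card ≤ 44 := by
    refine (Finset.card_union_le _ _).trans ?_
    have := (Finset.card_image_le (s := RL) (f := sub)).trans hRL
    have := List.toFinset_card_le S₀
    have e : S₀.length = 37 := rfl
    omega
  have htrip : ∀ i j k : Fin 3, i ≠ j → j ≠ k → i ≠ k → (i, j, k) ∈ triples := by decide
  have htrip' : ∀ x ∈ triples, x.1 ≠ x.2.1 ∧ x.2.1 ≠ x.2.2 ∧ x.1 ≠ x.2.2 := by decide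
  have hhold : ∀ x ∈ (↑rels : Set (FreeGroup (Fin 4))), L x = 1 := by
    intro x hx
    simp only [rels, Finset.coe_union, Set.mem_union, Finset.mem_coe, Finset.mem_image, List.mem_toFinset] at hx
    rcases hx with ⟨y, hy, rfl⟩ | hx
    · rw [hLsub, PresentedGroup.one_of_mem (Finset.mem_coe.2 hy), map_one, map_one]
    · rcases List.mem_cons.1 hx with rfl | hx
      · rw [map_mul, map_inv, hLC, hWval, mul_inv_cancel]
      · obtain ⟨⟨i, j, k⟩, ht, hx⟩ := List.mem_flatMap.1 hx
        obtain ⟨hij, hjk, hik⟩ := htrip' _ ht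
        exact (threeWords_iff hw Λ emb2 L hLΛ i j k).2
          ⟨emb2_tri hw hij hjk hik, emb2_col hw hij hjk hik, fun r _ => emb2_mix hij hjk hik _⟩ x hx
  let π := PresentedGroup.toGroup (rels := (↑rels : Set (FreeGroup (Fin 4)))) (f := s) hhold
  have hπ : ∀ i, π (PresentedGroup.of i) = s i := fun i => PresentedGroup.toGroup.of hhold
  let q : FreeGroup (Fin 4) →* PresentedGroup (↑rels : Set (FreeGroup (Fin 4))) := PresentedGroup.mk _
  have hq1 : ∀ x ∈ rels, q x = 1 := fun x hx => PresentedGroup.one_of_mem (Finset.mem_coe.2 hx)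
  let φL := PresentedGroup.toGroup (rels := (↑RL : Set (FreeGroup (Fin 3))))
    (f := fun i => q (sub (FreeGroup.of i))) fun x hx => by
      rw [show FreeGroup.lift (fun i => q (sub (FreeGroup.of i))) = q.comp sub from
        FreeGroup.ext_hom _ _ fun i => by simp]
      exact hq1 _ (Finset.mem_union_left _ (Finset.mem_image_of_mem _ (Finset.mem_coe.1 hx)))
  have hφL : ∀ x, φL (PresentedGroup.mk _ x) = q (sub x) := by
    have : φL.comp (PresentedGroup.mk _) = q.comp sub := FreeGroup.ext_hom _ _ fun i => by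
      show φL (PresentedGroup.of i) = _
      exact PresentedGroup.toGroup.of _
    exact fun x => DFunLike.congr_fun this x
  let ℓ : SL F →* _ := φL.comp E.symm.toMonoidHom
  have hℓ : ∀ z, q (sub (wL z)) = ℓ z := fun z => by
    show _ = φL (E.symm z)
    rw [← hφL, ← congrArg E.symm (hwL z), E.symm_apply_apply]
  have hℓE : ∀ i, ℓ (E (PresentedGroup.of i)) = q (sub (FreeGroup.of i)) := fun i => by
    show φL (E.symm (E _)) = _
    rw [E.symm_apply_apply]; exact PresentedGroup.toGroup.of _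
  clear_value ℓ
  set M := lam3 (q C) ℓ with hM
  have hqΛ : ∀ i j z, q (Λ i j z) = M i j z := fun i j z => map_word3 q C _ ℓ hℓ i j z
  have hrel : ∀ i j k : Fin 3, i ≠ j → j ≠ k → i ≠ k → ∀ r ∈ threeWords hw Λ i j k, q r = 1 :=
    fun i j k h1 h2 h3 r hr => hq1 r (Finset.mem_union_right _ (List.mem_toFinset.2
      (List.mem_cons_of_mem _ (List.mem_flatMap.2 ⟨(i, j, k), htrip i j k h1 h2 h3, hr⟩))))
  have hsw : ∀ i j, i ≠ j → ∀ z, M j i z = M i j (swHom z) := fun i j h z => lam3_swap _ _ h z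
  have hS : PreSt (rootY M) := preSt_of_three hw hsw hgen (by simp)
    (fun i j k h1 h2 h3 => ((threeWords_iff hw Λ M q hqΛ i j k).1 (hrel i j k h1 h2 h3)).1)
    (fun i j k h1 h2 h3 => ((threeWords_iff hw Λ M q hqΛ i j k).1 (hrel i j k h1 h2 h3)).2.1)
    (fun i j k h1 h2 h3 => ((threeWords_iff hw Λ M q hqΛ i j k).1 (hrel i j k h1 h2 h3)).2.2)
  set H := Subgroup.closure (rootSet (rootY M)) with hH
  have hℓH : ∀ z, ℓ z ∈ H := fun z => range_le_closure hsw (i := (0 : Fin 3)) (j := 1) (by decide) ⟨z, by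
    show M 0 1 z = ℓ z
    simp [hM, lam3]⟩
  have hCH : q C ∈ H := by
    have e : q C = q Wroot := by
      have := hq1 (C * Wroot⁻¹) (Finset.mem_union_right _ (List.mem_toFinset.2 List.mem_cons_self))
      rwa [map_mul, map_inv, mul_inv_eq_one] at this
    rw [e]
    have hle : (Subgroup.closure {x | ∃ i j t, i ≠ j ∧ x = Λ i j (up t)}).map q ≤ H := by
      rw [MonoidHom.map_closure]
      refine Subgroup.closure_mono ?_
      rintro _ ⟨_, ⟨i, j, t, h, rfl⟩, rfl⟩
      exact ⟨i, j, t, h, hqΛ i j _⟩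
    exact hle ⟨_, hWroot, rfl⟩
  have htop : H = ⊤ := by
    rw [eq_top_iff, ← PresentedGroup.closure_range_of, Subgroup.closure_le]
    rintro _ ⟨i, rfl⟩
    induction i using Fin.cases with
    | zero => exact hCH
    | succ i =>
      rw [SetLike.mem_coe]
      have := hℓH (E (PresentedGroup.of i))
      rw [hℓE] at this
      simpa [sub, q, PresentedGroup.of] using this
  have hbij : Function.Bijective π := by
    refine bijective_of_preSt (by simp) hS htop π fun i j h x => ?_
    show π (M i j (up x)) = _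
    rw [← hqΛ, ← emb2_up h, ← hLΛ]
    rfl
  exact ⟨s, (range_eq_closure π hπ).symm.trans (MonoidHom.range_eq_top.2 hbij.surjective), rels, hcard, π,
    hbij.injective, hπ⟩

end CfsgLib.SLPres
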