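import Cfsg.Agent.Lib.KnownB.SLPres.ThreeShort

/-!
# The presentation of `SL 3` with fourteen relations
-/

set_option autoImplicit false

open Matrix CfsgLib.SL2Pres CfsgLib.Perm.Quad.SL2 CfsgLib.KnownA.StSL CfsgLib.Classical
open CfsgLib.KnownB.WordClassical CfsgLib.Presentations
open scoped commutatorElement

namespace CfsgLib.SLPres

variable {F : Type*} [Field F] [Fintype F]

theorem cycle_weyl :
    altSL (F := F) 3 ⟨finRotate 3, Equiv.Perm.mem_alternatingGroup.2 (by decide)⟩ * (emb2 0 1 jSL)⁻¹ *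
      (altSL (F := F) 3 ⟨finRotate 3, Equiv.Perm.mem_alternatingGroup.2 (by decide)⟩ * (emb2 0 1 jSL)⁻¹) = 1 := by
  have hj : (jSL : SL F) = up 1 * low (-1) * up 1 := by
    apply ext2 <;> simp [mul_apply2, jSL_coe, up_val, low_val]
  have e : ((emb2 0 1 jSL)⁻¹ : Matrix.SpecialLinearGroup (Fin 3) F).1 = !![0, -1, 0; 1, 0, 0; 0, 0, 1] := by
    rw [hj, map_mul, map_mul, emb2_up (by decide), emb2_low (by decide), _root_.mul_inv_rev, _root_.mul_inv_rev,
      SpecialLinearGroup.transvection_inv, SpecialLinearGroup.transvection_inv]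
    simp only [Matrix.SpecialLinearGroup.coe_mul, SpecialLinearGroup.transvection_coe]
    ext i j
    fin_cases i <;> fin_cases j <;> simp [Matrix.mul_apply, Fin.sum_univ_three, Matrix.one_apply]
  have hc : (altSL (F := F) 3 ⟨finRotate 3, Equiv.Perm.mem_alternatingGroup.2 (by decide)⟩).1 =
      !![0, 0, 1; 1, 0, 0; 0, 1, 0] := by
    show ((finRotate 3)⁻¹).permMatrix F = _
    ext i j
    fin_cases i <;> fin_cases j <;> simp [Equiv.Perm.permMatrix, PEquiv.toMatrix_apply, finRotate_succ_apply] <;> decide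
  apply sl_ext
  simp only [Matrix.SpecialLinearGroup.coe_mul, Matrix.SpecialLinearGroup.coe_one, e, hc]
  ext i j
  fin_cases i <;> fin_cases j <;> simp [Matrix.mul_apply, Fin.sum_univ_three, Matrix.one_apply]

/-- `SL 3` on four generators with at most fourteen relations. -/
theorem pres_sl_three_short : ∃ s : Fin 4 → Matrix.SpecialLinearGroup (Fin 3) F, HasPres 4 14 s ⊤ := by
  classical
  obtain ⟨p, hcp⟩ := CharP.exists F
  haveI : Fact p.Prime := ⟨CharP.char_is_prime F p⟩
  letI : Algebra (ZMod p) F := ZMod.algebra F p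
  obtain ⟨w, hw, hgen⟩ := exists_generator (F := F)
  obtain ⟨RL, hRL, hRL2, E, hE⟩ := exists_short' (p := p) hw hgen
  have h4p : Fintype.card F = 4 → p = 2 := fun h4 => by
    haveI : Fact (Nat.Prime 2) := ⟨Nat.prime_two⟩
    exact CharP.eq F hcp (charP_of_card_eq_prime_pow (f := 2) (by rw [h4]; norm_num))
  let g₁ : alternatingGroup (Fin 3) := ⟨finRotate 3, Equiv.Perm.mem_alternatingGroup.2 (by decide)⟩
  set cc : Matrix.SpecialLinearGroup (Fin 3) F := altSL 3 g₁ with hcc
  set c01 : SL F →* Matrix.SpecialLinearGroup (Fin 3) F := emb2 0 1 with hc01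
  let v : Fin 3 → SL F := ![uSL (Multiplicative.ofAdd (1 : F)), dSL hw, jSL]
  let s : Fin 4 → Matrix.SpecialLinearGroup (Fin 3) F := Fin.cons cc fun i => c01 (v i)
  let sub : FreeGroup (Fin 3) →* FreeGroup (Fin 4) := FreeGroup.lift fun i => FreeGroup.of i.succ
  let C : FreeGroup (Fin 4) := FreeGroup.of 0
  let T : FreeGroup (Fin 4) := FreeGroup.of 3
  have hsurL : ∀ z, ∃ x : FreeGroup (Fin 3), E (PresentedGroup.mk _ x) = z := fun z => by
    obtain ⟨y, hy⟩ := E.surjective z
    obtain ⟨x, rfl⟩ := PresentedGroup.mk_surjective _ y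
    exact ⟨x, hy⟩
  choose wL hwL using hsurL
  let Λ : Fin 3 → Fin 3 → SL F → FreeGroup (Fin 4) := word3 C fun z => sub (wL z)
  let L := FreeGroup.lift s
  have hLsub : ∀ x, L (sub x) = c01 (E (PresentedGroup.mk _ x)) := by
    have : L.comp sub = c01.comp (E.toMonoidHom.comp (PresentedGroup.mk _)) := FreeGroup.ext_hom _ _ fun i => by
      show L (sub (FreeGroup.of i)) = c01 (E (PresentedGroup.of i))
      rw [hE]
      simp [L, sub, s, v]
    exact fun x => DFunLike.congr_fun this x
  have hLC : L C = cc := by simp [L, C, s]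
  have hLT : L T = c01 jSL := by simp only [L, T, FreeGroup.lift_apply_of]; rfl
  have hLΛ : ∀ i j z, L (Λ i j z) = emb2 i j z := by
    intro i j z
    show L (word3 C (fun z => sub (wL z)) i j z) = _
    rw [map_word3 L C _ c01 (fun z => by rw [hLsub, hwL]) i j z, hLC]
    have key : ∀ (m : ℕ) (u : SL F), cc ^ m * c01 u * (cc ^ m)⁻¹ =
        emb2 (((g₁ ^ m : alternatingGroup (Fin 3)) : Equiv.Perm (Fin 3)) 0)
          (((g₁ ^ m : alternatingGroup (Fin 3)) : Equiv.Perm (Fin 3)) 1) u := fun m u => by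
      rw [hcc, ← map_pow, hc01, emb2_conj _ (by decide)]
    by_cases h : i ≠ j
    · by_cases h1 : j = i + 1
      · simp only [lam3, if_pos h1]
        show cc ^ (i : ℕ) * c01 z * (cc ^ (i : ℕ))⁻¹ = _
        rw [key]
        congr 2 <;> subst h1 <;> fin_cases i <;> decide
      · have h2 : i = j + 1 := by revert h h1; fin_cases i <;> fin_cases j <;> decide
        simp only [lam3, if_neg h1, if_pos h2]
        show cc ^ (j : ℕ) * c01 (swHom z) * (cc ^ (j : ℕ))⁻¹ = _
        rw [key, emb2_swap h.symm]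
        congr 2 <;> subst h2 <;> fin_cases j <;> decide
    · rw [not_not] at h
      subst h
      rw [emb2, dif_neg (by simp)]
      simp only [lam3, if_neg (show ¬ i = i + 1 by fin_cases i <;> decide), MonoidHom.one_apply]
  let mixW : ℕ → FreeGroup (Fin 4) := fun r =>
    ⁅Λ 0 1 (up (w ^ r)), Λ 1 2 (up 1)⁆ * (Λ 0 2 (up (w ^ r)))⁻¹
  let S₀ : List (FreeGroup (Fin 4)) :=
    [C ^ 3, C * T⁻¹ * (C * T⁻¹), ⁅Λ 0 1 (dSL hw), Λ 0 2 (dSL hw)⁆,
     Λ 0 1 (dSL hw) * Λ 0 2 (up 1) * (Λ 0 1 (dSL hw))⁻¹ * (Λ 0 2 (up w))⁻¹,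
     Λ 0 2 (dSL hw) * Λ 1 2 (up 1) * (Λ 0 2 (dSL hw))⁻¹ * (Λ 1 2 (up w))⁻¹,
     ⁅Λ 0 1 (up 1), Λ 1 2 (up 1)⁆ * (Λ 0 2 (up 1))⁻¹, ⁅Λ 0 1 (up 1), Λ 0 2 (up 1)⁆] ++
    if Fintype.card F = 4 then [mixW 1, mixW 2] else []
  let rels := RL.image sub ∪ S₀.toFinset
  have hcard : rels.card ≤ 14 := by
    refine (Finset.card_union_le _ _).trans ?_
    have h1 := Finset.card_image_le (s := RL) (f := sub)
    have h2 := List.toFinset_card_le S₀
    by_cases h4 : Fintype.card F = 4
    · have := hRL2 (h4p h4)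
      have e : S₀.length = 9 := by simp [S₀, h4]
      omega
    · have e : S₀.length = 7 := by simp [S₀, h4]
      omega
  have h01 : (0 : Fin 3) ≠ 1 := by decide
  have h12 : (1 : Fin 3) ≠ 2 := by decide
  have h02 : (0 : Fin 3) ≠ 2 := by decide
  have hhold : ∀ x ∈ (↑rels : Set (FreeGroup (Fin 4))), L x = 1 := by
    intro x hx
    simp only [rels, Finset.coe_union, Set.mem_union, Finset.mem_coe, Finset.mem_image, List.mem_toFinset] at hx
    rcases hx with ⟨y, hy, rfl⟩ | hx
    · rw [hLsub, PresentedGroup.one_of_mem (Finset.mem_coe.2 hy), map_one, map_one]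
    · revert x
      have hmix : ∀ r, L (mixW r) = 1 := fun r => by
        simp only [mixW, map_mul, map_inv, map_commutatorElement, hLΛ, mul_inv_eq_one]
        exact emb2_mix h01 h12 h02 _
      have T0 := emb2_tri (F := F) hw h01 h12 h02
      simp only [S₀, List.forall_mem_append, List.forall_mem_cons, List.not_mem_nil, IsEmpty.forall_iff,
        implies_true, and_true, map_mul, map_inv, map_pow, map_commutatorElement, hLΛ, hLC, hLT,
        commutatorElement_eq_one_iff_commute, mul_inv_eq_one]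
      refine ⟨⟨?_, cycle_weyl, T0.comm, T0.scale, emb2_col hw h01 h12 h02, T0.mix, ?_⟩, ?_⟩
      · rw [hcc, ← map_pow, show g₁ ^ 3 = 1 from Subtype.ext (by decide), map_one]
      · rw [emb2_up h01, emb2_up h02]; exact transvection_commute h01 h02 h02 h01.symm _ _
      · split_ifs <;> simp [hmix]
  let π := PresentedGroup.toGroup (rels := (↑rels : Set (FreeGroup (Fin 4)))) (f := s) hhold
  have hπ : ∀ i, π (PresentedGroup.of i) = s i := fun i => PresentedGroup.toGroup.of hhold
  let q : FreeGroup (Fin 4) →* PresentedGroup (↑rels : Set (FreeGroup (Fin 4))) := PresentedGroup.mk _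
  have hq1 : ∀ x ∈ rels, q x = 1 := fun x hx => PresentedGroup.one_of_mem (Finset.mem_coe.2 hx)
  let φL := PresentedGroup.toGroup (rels := (↑RL : Set (FreeGroup (Fin 3))))
    (f := fun i => q (sub (FreeGroup.of i))) fun x hx => by
      rw [show FreeGroup.lift (fun i => q (sub (FreeGroup.of i))) = q.comp sub from
        FreeGroup.ext_hom _ _ fun i => by simp]
      exact hq1 _ (Finset.mem_union_left _ (Finset.mem_image_of_mem _ (Finset.mem_coe.1 hx)))
  have hφL : ∀ x, φL (PresentedGroup.mk _ x) = q (sub x) := by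
    have : φL.comp (PresentedGroup.mk _) = q.comp sub := FreeGroup.ext_hom _ _ fun i => by
      show φL (PresentedGroup.of i) = _
      exact PresentedGroup.toGroup.of _
    exact fun x => DFunLike.congr_fun this x
  let ℓ : SL F →* _ := φL.comp E.symm.toMonoidHom
  have hℓ : ∀ z, q (sub (wL z)) = ℓ z := fun z => by
    show _ = φL (E.symm z)
    rw [← hφL, ← congrArg E.symm (hwL z), E.symm_apply_apply]
  have hℓE : ∀ i, ℓ (v i) = q (sub (FreeGroup.of i)) := fun i => by
    show φL (E.symm (v i)) = _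
    rw [show v i = ![uSL (Multiplicative.ofAdd (1 : F)), dSL hw, jSL] i from rfl, ← hE, E.symm_apply_apply]; exact PresentedGroup.toGroup.of _
  have hℓT : ℓ jSL = q T := by
    have := hℓE 2
    simpa [sub, v, T, show (3 : Fin 4) = Fin.succ 2 from rfl] using this
  clear_value ℓ
  set M := lam3 (q C) ℓ with hM
  have hqΛ : ∀ i j z, q (Λ i j z) = M i j z := fun i j z => map_word3 q C _ ℓ hℓ i j z
  have hR : ∀ x ∈ S₀, q x = 1 := fun x hx => hq1 x (Finset.mem_union_right _ (List.mem_toFinset.2 hx))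
  simp only [S₀, List.forall_mem_append, List.forall_mem_cons, List.not_mem_nil, IsEmpty.forall_iff,
    implies_true, and_true, map_mul, map_inv, map_pow, map_commutatorElement, hqΛ, ← hℓT,
    commutatorElement_eq_one_iff_commute, mul_inv_eq_one] at hR
  obtain ⟨⟨r1, r2, r3, r4, r5, r6, r7⟩, r8⟩ := hR
  have Sys : ThreeSys hw (q C) ℓ := ⟨r1, r2, r3, r4, r5, r6⟩
  have hall := trip_all Sys hgen r7
  have hsw : ∀ i j, i ≠ j → ∀ z, M j i z = M i j (swHom z) := fun i j h z => lam3_swap _ _ h z
  have hS : PreSt (rootY M) := by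
    by_cases h4 : Fintype.card F = 4
    · have h2 : (-1 : F) = 1 := by
        have : CharP F 2 := h4p h4 ▸ hcp
        exact CharTwo.neg_eq 1
      simp only [if_pos h4, List.forall_mem_cons, List.not_mem_nil, IsEmpty.forall_iff, implies_true, and_true,
        mixW, map_mul, map_inv, map_commutatorElement, hqΛ, mul_inv_eq_one] at r8
      have base : ∀ r < 3, ⁅M 0 1 (up (w ^ r)), M 1 2 (up 1)⁆ = M 0 2 (up (w ^ r)) := by
        intro r hr
        rcases (show r = 0 ∨ r = 1 ∨ r = 2 by omega) with rfl | rfl | rfl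
        · rw [pow_zero]; exact r6
        · exact r8.1
        · exact r8.2
      have sh : ∀ i j k, (∀ r < 3, ⁅M i j (up (w ^ r)), M j k (up 1)⁆ = M i k (up (w ^ r))) →
          ∀ r < 3, ⁅M (i + 1) (j + 1) (up (w ^ r)), M (j + 1) (k + 1) (up 1)⁆ = M (i + 1) (k + 1) (up (w ^ r)) := by
        intro i j k h r hr
        rw [← three_shift Sys, ← three_shift Sys, ← three_shift Sys, ← MulAut.conj_apply, ← MulAut.conj_apply,
          ← MulAut.conj_apply, ← map_commutatorElement, h r hr]
      have rev : ∀ r < 3, ⁅M 2 1 (up (w ^ r)), M 1 0 (up 1)⁆ = M 2 0 (up (w ^ r)) := by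
        intro r hr
        have hn : ∀ t : F, -t = t := fun t => by rw [← neg_one_mul, h2, one_mul]
        have := congrArg (MulAut.conj (q C * (ℓ jSL)⁻¹)) (base r hr)
        rw [map_commutatorElement] at this
        simp only [MulAut.conj_apply] at this
        rw [(three_reverse Sys hgen _).1, (three_reverse Sys hgen _).2.1, (three_reverse Sys hgen _).2.2,
          scHom_neg_up, scHom_neg_up, hn, hn] at this
        exact this
      refine preSt_of_three hw hsw hgen (by simp) (fun i j k a b c => (hall i j k a b c).1)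
        (fun i j k a b c => (hall i j k a b c).2.1) ?_
      have t1 := sh _ _ _ base
      have t2 := sh _ _ _ t1
      have t4 := sh _ _ _ rev
      have t5 := sh _ _ _ t4
      intro i j k hij hjk hik
      fin_cases i <;> fin_cases j <;> fin_cases k <;> first | assumption | contradiction | simp_all
    · exact preSt_of_three_row hw hgen hsw h4 (fun i j k a b c => (hall i j k a b c).1.comm)
        (fun i j k a b c => (hall i j k a b c).1.scale) (fun i j k a b c => (hall i j k a b c).2.1)
        (fun i j k a b c => (hall i j k a b c).2.2) (fun i j k a b c => (hall i j k a b c).1.mix)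
  set H := Subgroup.closure (rootSet (rootY M)) with hH
  have hℓH : ∀ z, ℓ z ∈ H := fun z => range_le_closure hsw (i := (0 : Fin 3)) (j := 1) h01 ⟨z, lam3_zero_one z⟩
  have hnorm : ∀ x ∈ H, q C * x * (q C)⁻¹ ∈ H := by
    intro x hx
    have : H ≤ H.comap (MulAut.conj (q C)).toMonoidHom := by
      rw [hH, Subgroup.closure_le]
      rintro _ ⟨i, j, t, h, rfl⟩
      exact Subgroup.subset_closure ⟨i + 1, j + 1, t, fun e => h (add_right_cancel e), three_shift Sys i j _⟩
    exact this hx
  have hCH : q C ∈ H := by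
    -- `(c t⁻¹)² = 1` puts `c²` into the subgroup, and `c³ = 1`
    have hn := inv_mem (hℓH jSL)
    have h2 : q C * q C ∈ H := by
      set n := (ℓ jSL)⁻¹ with hn'
      have hci : (q C)⁻¹ = q C * q C := inv_eq_of_mul_eq_one_right (by
        rw [← mul_assoc, ← r1, pow_succ, pow_two])
      have e : q C * q C = n⁻¹ * ((q C)⁻¹ * n⁻¹ * q C) := by
        have e0 : q C * n * q C = n⁻¹ := eq_inv_of_mul_eq_one_left (by rw [← r2]; group)
        calc q C * q C = (q C * n * q C) * ((q C)⁻¹ * n⁻¹ * q C) := by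
              simp only [mul_assoc, mul_inv_cancel_left]
          _ = _ := by rw [e0]
      rw [e, show (q C)⁻¹ * n⁻¹ * q C = q C * (q C * n⁻¹ * (q C)⁻¹) * (q C)⁻¹ by
        have hci2 : (q C)⁻¹ * (q C)⁻¹ = q C := by rw [← _root_.mul_inv_rev, ← hci, inv_inv]
        calc (q C)⁻¹ * n⁻¹ * q C = (q C * q C) * n⁻¹ * ((q C)⁻¹ * (q C)⁻¹) := by rw [hci2, ← hci]
          _ = _ := by simp only [mul_assoc]]
      exact mul_mem (inv_mem hn) (hnorm _ (hnorm _ (inv_mem hn)))
    have e : q C = (q C * q C) * (q C * q C) := by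
      calc q C = q C * (q C) ^ 3 := by rw [r1, mul_one]
        _ = _ := by simp [pow_succ, mul_assoc]
    rw [e]
    exact mul_mem h2 h2
  have htop : H = ⊤ := by
    rw [eq_top_iff, ← PresentedGroup.closure_range_of, Subgroup.closure_le]
    rintro _ ⟨i, rfl⟩
    induction i using Fin.cases with
    | zero => exact hCH
    | succ i =>
      rw [SetLike.mem_coe]
      have := hℓH (v i)
      rw [hℓE] at this
      simpa [sub, q, PresentedGroup.of] using this
  have hbij : Function.Bijective π := by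
    refine bijective_of_preSt (by simp) hS htop π fun i j h x => ?_
    show π (M i j (up x)) = _
    rw [← hqΛ, ← emb2_up h, ← hLΛ]
    rfl
  exact ⟨s, (range_eq_closure π hπ).symm.trans (MonoidHom.range_eq_top.2 hbij.surjective), rels, hcard, π,
    hbij.injective, hπ⟩

end CfsgLib.SLPres
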