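import Cfsg.Agent.Lib.KnownB.SLPres.Glue

/-!
# Three coordinates: the commutation in a row replaces two of the three commutators

For `q ≠ 4` the cubes span the field, so the commutator formula at one point spreads by additivity.
-/

set_option autoImplicit false

open Matrix CfsgLib.SL2Pres CfsgLib.Perm.Quad.SL2 CfsgLib.KnownA.StSL
open scoped commutatorElement

namespace CfsgLib.SLPres

variable {F : Type*} [Field F] [Fintype F] {w : F}

/-- A set closed under addition and multiplication by cubes, containing one, is the field unless `q = 4`. -/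
theorem all_of_cubes (hgen : ∀ x : F, x ≠ 0 → ∃ e : ℕ, w ^ e = x) (h4 : Fintype.card F ≠ 4)
    (S : AddSubgroup F) (h1 : (1 : F) ∈ S) (hw3 : ∀ t ∈ S, w ^ 3 * t ∈ S) (x : F) : x ∈ S := by
  classical
  let Pd : F → Prop := fun a => ∀ t ∈ S, a * t ∈ S
  have hpow : ∀ {a : F}, Pd a → ∀ k : ℕ, Pd (a ^ k) := by
    intro a ha k
    induction k with
    | zero => intro t ht; rwa [pow_zero, one_mul]
    | succ k ih => intro t ht; rw [pow_succ', mul_assoc]; exact ha _ (ih t ht)
  let K : Subfield F :=
    { carrier := {a | Pd a}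
      mul_mem' := fun {a b} ha hb t ht => by rw [mul_assoc]; exact ha _ (hb t ht)
      one_mem' := fun t ht => by rwa [one_mul]
      add_mem' := fun {a b} ha hb t ht => by rw [add_mul]; exact S.add_mem (ha t ht) (hb t ht)
      zero_mem' := fun t _ => by rw [zero_mul]; exact S.zero_mem
      neg_mem' := fun {a} ha t ht => by rw [neg_mul]; exact S.neg_mem (ha t ht)
      inv_mem' := fun a ha => by
        show Pd a⁻¹
        by_cases h : a = 0
        · rw [h, _root_.inv_zero]; intro t _; rw [zero_mul]; exact S.zero_mem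
        · have h2 : 2 ≤ Fintype.card F := Fintype.one_lt_card
          rw [show a⁻¹ = a ^ (Fintype.card F - 2) from (eq_inv_of_mul_eq_one_left (by
            rw [← pow_succ, show Fintype.card F - 2 + 1 = Fintype.card F - 1 by omega,
              FiniteField.pow_card_sub_one_eq_one a h])).symm]
          exact hpow ha _ }
  have hcube : ∀ a : F, a ^ 3 ∈ K := fun a => by
    by_cases h : a = 0
    · rw [h, zero_pow three_ne_zero]; exact K.zero_mem
    · obtain ⟨e, rfl⟩ := hgen a h
      rw [← pow_mul, mul_comm, pow_mul]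
      exact hpow (a := w ^ 3) hw3 e
  suffices hK : K = ⊤ by
    have := (hK.ge (Subfield.mem_top x) : x ∈ K) 1 h1
    rwa [mul_one] at this
  haveI : Fintype K := Fintype.ofFinite K
  set d := Module.finrank K F
  have hd : Fintype.card F = Fintype.card K ^ d := Module.card_eq_pow_finrank
  have hk : 2 ≤ Fintype.card K := Fintype.one_lt_card
  have hd1 : d ≤ 1 := by
    by_contra hd2
    have hle : Fintype.card F - 1 ≤ 3 * (Fintype.card K - 1) := by
      let f : F → F := fun a => a ^ 3
      have h1 : ∀ b ∈ (Finset.univ.erase (0 : F)).image f,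
          ((Finset.univ.erase (0 : F)).filter fun a => f a = b).card ≤ 3 := fun b _ => by
        refine le_trans (Finset.card_le_card (t := (Polynomial.nthRoots 3 b).toFinset) fun a ha => ?_)
          ((Multiset.toFinset_card_le _).trans (Polynomial.card_nthRoots 3 b))
        simp only [Finset.mem_filter] at ha
        simp [Polynomial.mem_nthRoots, ← ha.2, f]
      have h2 := Finset.card_le_mul_card_image (Finset.univ.erase (0 : F)) 3 h1
      have h3 : ((Finset.univ.erase (0 : F)).image f).card ≤ Fintype.card K - 1 := by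
        have hsub : (Finset.univ.erase (0 : F)).image f ⊆
            ((Finset.univ : Finset K).erase 0).image (fun a : K => (a : F)) := fun b hb => by
          obtain ⟨a, ha, rfl⟩ := Finset.mem_image.1 hb
          refine Finset.mem_image.2 ⟨⟨a ^ 3, hcube a⟩, Finset.mem_erase.2 ⟨fun e => ?_, Finset.mem_univ _⟩, rfl⟩
          exact pow_ne_zero 3 (Finset.ne_of_mem_erase ha) (congrArg Subtype.val e)
        refine ((Finset.card_le_card hsub).trans Finset.card_image_le).trans ?_
        rw [Finset.card_erase_of_mem (Finset.mem_univ _), Finset.card_univ]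
      rw [Finset.card_erase_of_mem (Finset.mem_univ _), Finset.card_univ] at h2
      calc Fintype.card F - 1 ≤ 3 * ((Finset.univ.erase (0 : F)).image f).card := h2
        _ ≤ _ := Nat.mul_le_mul_left 3 h3
    have hsq : Fintype.card K ^ 2 ≤ Fintype.card F := hd ▸ Nat.pow_le_pow_right (by omega) (by omega)
    have hk2 : Fintype.card K = 2 := by
      obtain ⟨r, hr⟩ : ∃ r, Fintype.card K = r + 2 := ⟨Fintype.card K - 2, by omega⟩
      rw [hr] at hsq hle ⊢
      have e : (r + 2) ^ 2 = r * r + (4 * r + 4) := by ring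
      rw [e] at hsq
      omega
    rw [hk2] at hle hsq hd
    have : Fintype.card F ≤ 4 := by omega
    omega
  have hd0 : 0 < d := Module.finrank_pos
  have e : Fintype.card K = Fintype.card F := by
    rw [hd, show d = 1 by omega, pow_one]
  exact eq_top_iff.2 fun x _ => by
    obtain ⟨y, hy⟩ := ((Fintype.bijective_iff_injective_and_card (fun y : K => (y : F))).2
      ⟨Subtype.val_injective, e⟩).2 x
    exact hy ▸ y.2

theorem no_four : ∀ i j k l : Fin 3, ¬(i ≠ j ∧ k ≠ l ∧ i ≠ k ∧ i ≠ l ∧ j ≠ k ∧ j ≠ l) := by decide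

variable {P : Type*} [Group P] {Λ : Fin 3 → Fin 3 → SL F →* P}

/-- Three coordinates, `q ≠ 4`. -/
theorem preSt_of_three_row (hw : w ≠ 0) (hgen : ∀ x : F, x ≠ 0 → ∃ e : ℕ, w ^ e = x)
    (hsw : ∀ i j, i ≠ j → ∀ z, Λ j i z = Λ i j (swHom z)) (h4 : Fintype.card F ≠ 4)
    (hC : ∀ i j k, i ≠ j → j ≠ k → i ≠ k → Commute (Λ i j (dSL hw)) (Λ i k (dSL hw)))
    (hT : ∀ i j k, i ≠ j → j ≠ k → i ≠ k →
      Λ i j (dSL hw) * Λ i k (up 1) * (Λ i j (dSL hw))⁻¹ = Λ i k (up w))
    (hcol : ∀ i j k, i ≠ j → j ≠ k → i ≠ k →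
      Λ i k (dSL hw) * Λ j k (up 1) * (Λ i k (dSL hw))⁻¹ = Λ j k (up w))
    (hR : ∀ i j k, i ≠ j → j ≠ k → i ≠ k → Commute (Λ i j (up 1)) (Λ i k (up 1)))
    (hM : ∀ i j k, i ≠ j → j ≠ k → i ≠ k → ⁅Λ i j (up 1), Λ j k (up 1)⁆ = Λ i k (up 1)) :
    PreSt (rootY Λ) := by
  have hTri : ∀ i j k, i ≠ j → j ≠ k → i ≠ k → Tri hw Λ i j k := fun i j k a b c =>
    ⟨hC i j k a b c, hT i j k a b c, hM i j k a b c⟩
  have hz : ∀ a b, rootY Λ a b 0 = 1 := fun a b => by rw [rootY, up_zero, map_one]
  have hinv : ∀ a b t, rootY Λ a b (-t) = (rootY Λ a b t)⁻¹ := fun a b t =>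
    eq_inv_of_mul_eq_one_left (by rw [rootY_add, neg_add_cancel, hz])
  -- commutation in a row
  have hrow : ∀ i j k, i ≠ j → j ≠ k → i ≠ k → ∀ t u, Commute (rootY Λ i j t) (rootY Λ i k u) := by
    intro i j k hij hjk hik
    set f := Λ i j (dSL hw) with hf
    set g := Λ i k (dSL hw) with hg
    have step : ∀ (x : P) (a b : F → F), (∀ t, x * rootY Λ i j t * x⁻¹ = rootY Λ i j (a t)) →
        (∀ u, x * rootY Λ i k u * x⁻¹ = rootY Λ i k (b u)) →
        ∀ t u, Commute (rootY Λ i j t) (rootY Λ i k u) → Commute (rootY Λ i j (a t)) (rootY Λ i k (b u)) := by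
      intro x a b ha hb t u h
      have := h.map (MulAut.conj x)
      simpa only [MulAut.conj_apply, ha, hb] using this
    have hff : ∀ t u, Commute (rootY Λ i j t) (rootY Λ i k u) →
        Commute (rootY Λ i j (w ^ 2 * t)) (rootY Λ i k (w * u)) :=
      step f _ _ (conj_self hw i j) (scale_tri hw hgen (hTri i j k hij hjk hik))
    have hgg : ∀ t u, Commute (rootY Λ i j t) (rootY Λ i k u) →
        Commute (rootY Λ i j (w * t)) (rootY Λ i k (w ^ 2 * u)) :=
      step g _ _ (scale_tri hw hgen (hTri i k j hik hjk.symm hij)) (conj_self hw i k)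
    -- for a fixed second entry the first entries form a subgroup
    let S : F → AddSubgroup F := fun u =>
      { carrier := {t | Commute (rootY Λ i j t) (rootY Λ i k u)}
        zero_mem' := by show Commute _ _; rw [hz]; exact Commute.one_left _
        add_mem' := fun {a b} ha hb => by show Commute _ _; rw [← rootY_add]; exact Commute.mul_left ha hb
        neg_mem' := fun {a} ha => by show Commute _ _; rw [hinv]; exact Commute.inv_left ha }
    -- both lattices
    have hp : ∀ e t u, Commute (rootY Λ i j t) (rootY Λ i k u) →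
        Commute (rootY Λ i j ((w ^ 2) ^ e * t)) (rootY Λ i k (w ^ e * u)) := by
      intro e t u h
      induction e with
      | zero => simpa using h
      | succ e ih =>
        have := hff _ _ ih
        rwa [show w ^ 2 * ((w ^ 2) ^ e * t) = (w ^ 2) ^ (e + 1) * t by ring,
          show w * (w ^ e * u) = w ^ (e + 1) * u by ring] at this
    have hN : w ^ (Fintype.card F - 1) = 1 := FiniteField.pow_card_sub_one_eq_one w hw
    have hN1 : 1 ≤ Fintype.card F - 1 := by have := Fintype.one_lt_card (α := F); omega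
    have hcube : ∀ t ∈ S 1, w ^ 3 * t ∈ S 1 := by
      intro t ht
      -- twice the first, then back by the second
      have h1 := hp 2 _ _ ht
      have h2 : ∀ e t u, Commute (rootY Λ i j t) (rootY Λ i k u) →
          Commute (rootY Λ i j (w ^ e * t)) (rootY Λ i k ((w ^ 2) ^ e * u)) := by
        intro e t u h
        induction e with
        | zero => simpa using h
        | succ e ih =>
          have := hgg _ _ ih
          rwa [show w * (w ^ e * t) = w ^ (e + 1) * t by ring,
            show w ^ 2 * ((w ^ 2) ^ e * u) = (w ^ 2) ^ (e + 1) * u by ring] at this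
      have h3 := h2 (Fintype.card F - 1 - 1) _ _ h1
      rw [show w ^ (Fintype.card F - 1 - 1) * ((w ^ 2) ^ 2 * t) = w ^ 3 * t * w ^ (Fintype.card F - 1) by
          rw [show w ^ (Fintype.card F - 1) = w ^ (Fintype.card F - 1 - 1) * w by
            rw [← pow_succ]; congr 1; omega]
          ring,
        show (w ^ 2) ^ (Fintype.card F - 1 - 1) * (w ^ 2 * 1) = (w ^ (Fintype.card F - 1)) ^ 2 by
          rw [mul_one, ← pow_succ, ← pow_mul, ← pow_mul, show Fintype.card F - 1 - 1 + 1 = Fintype.card F - 1 by omega,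
            mul_comm],
        hN, one_pow, mul_one] at h3
      exact h3
    have hall1 : ∀ t, Commute (rootY Λ i j t) (rootY Λ i k 1) := fun t =>
      all_of_cubes hgen h4 (S 1) (hR i j k hij hjk hik) hcube t
    intro t u
    by_cases hu : u = 0
    · rw [hu, hz]; exact Commute.one_right _
    obtain ⟨e, rfl⟩ := hgen u hu
    have := hp e (t / (w ^ 2) ^ e) 1 (hall1 _)
    rwa [mul_div_cancel₀ _ (pow_ne_zero _ (pow_ne_zero 2 hw)), mul_one] at this
  -- the commutator formula
  refine preSt_of_mix (fun i j k l hij hkl hik hil hjk hjl => ?_) fun i j k t u hij hjk hik => ?_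
  · exact absurd ⟨hij, hkl, hik, hil, hjk, hjl⟩ (no_four i j k l)
  set g := Λ i j (dSL hw) with hg
  set f := Λ i k (dSL hw) with hf
  have gB : ∀ u, g * rootY Λ j k u * g⁻¹ = rootY Λ j k (w⁻¹ * u) := fun u => by
    have e := scale_tri hw hgen (hTri j i k hij.symm hik hjk) (w⁻¹ * u)
    rw [rev_dSL hw hsw hij, inv_inv, mul_inv_cancel_left₀ hw] at e
    rw [hg, ← e]
    simp [mul_assoc]
  have fB : ∀ u, f * rootY Λ j k u * f⁻¹ = rootY Λ j k (w * u) := by
    refine scale_all hgen ((Λ j k).comp upHom) (h := Λ j k (dSL hw)) ?_ (fun t => conj_self hw j k t)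
      (hcol i j k hij hjk hik)
    have c := hC k i j hik.symm hij hjk.symm
    rw [rev_dSL hw hsw hik, rev_dSL hw hsw hjk] at c
    simpa using c.inv_inv
  let S : AddSubgroup F :=
    { carrier := {t | ⁅rootY Λ i j t, rootY Λ j k 1⁆ = rootY Λ i k t}
      zero_mem' := by show ⁅_, _⁆ = _; rw [hz, hz]; simp [commutatorElement_def]
      add_mem' := fun {a b} ha hb => by
        show ⁅_, _⁆ = _
        rw [← rootY_add i j, ← rootY_add i k, ← (show ⁅_, _⁆ = _ from ha), ← (show ⁅_, _⁆ = _ from hb)]
        have e : ⁅rootY Λ i j a * rootY Λ i j b, rootY Λ j k 1⁆ =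
            rootY Λ i j a * ⁅rootY Λ i j b, rootY Λ j k 1⁆ * (rootY Λ i j a)⁻¹ * ⁅rootY Λ i j a, rootY Λ j k 1⁆ := by
          simp only [commutatorElement_def]; group
        rw [e, (show ⁅_, _⁆ = _ from hb), (show ⁅_, _⁆ = _ from ha), (hrow i j k hij hjk hik a b).eq,
          mul_inv_cancel_right, rootY_add, rootY_add, add_comm]
      neg_mem' := fun {a} ha => by
        show ⁅_, _⁆ = _
        rw [hinv, hinv]
        have e : ⁅(rootY Λ i j a)⁻¹, rootY Λ j k 1⁆ =
            (rootY Λ i j a)⁻¹ * ⁅rootY Λ i j a, rootY Λ j k 1⁆⁻¹ * rootY Λ i j a := by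
          simp only [commutatorElement_def]; group
        rw [e, (show ⁅_, _⁆ = _ from ha), mul_assoc, (hrow i j k hij hjk hik a a).inv_right.symm.eq,
          inv_mul_cancel_left] }
  have hcube : ∀ t ∈ S, w ^ 3 * t ∈ S := by
    intro t ht
    have h1 := congrArg (fun z => (g * f) * z * (g * f)⁻¹) (show ⁅_, _⁆ = _ from ht)
    have e' : ∀ x y : P, (g * f) * ⁅x, y⁆ * (g * f)⁻¹ =
        ⁅g * (f * x * f⁻¹) * g⁻¹, g * (f * y * f⁻¹) * g⁻¹⁆ := fun x y => by
      simp only [commutatorElement_def]; group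
    have e'' : ∀ x : P, (g * f) * x * (g * f)⁻¹ = g * (f * x * f⁻¹) * g⁻¹ := fun x => by group
    simp only [e', e''] at h1
    rw [hf, scale_tri hw hgen (hTri i k j hik hjk.symm hij), conj_self hw i k, hg, conj_self hw i j,
      scale_tri hw hgen (hTri i j k hij hjk hik)] at h1
    rw [← hf, fB, ← hg, gB, inv_mul_cancel_left₀ hw, show w ^ 2 * (w * t) = w ^ 3 * t by ring,
      show w * (w ^ 2 * t) = w ^ 3 * t by ring] at h1
    exact h1
  refine mix_spread hgen hw (hz i j) (hz j k) (hz i k) (g := g) (conj_self hw i j) gB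
    (scale_tri hw hgen (hTri i j k hij hjk hik)) (fun t _ => ?_) t u
  exact all_of_cubes hgen h4 S (hM i j k hij hjk hik) hcube t

end CfsgLib.SLPres
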