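import Cfsg.Agent.Lib.KnownB.SLPres.ThreeRow
import Cfsg.Agent.Lib.KnownB.SLPres.Three

/-!
# `SL 3` on four generators with fourteen relations

Besides the relations of the rank one subgroup we impose `c³ = 1` and `(c t⁻¹)² = 1`.  Conjugation by `c` and
by the involution `m = c t⁻¹` carries the relations of the triple `(0, 1, 2)` to every triple.
-/

set_option autoImplicit false

open Matrix CfsgLib.SL2Pres CfsgLib.Perm.Quad.SL2 CfsgLib.KnownA.StSL CfsgLib.Classical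
open CfsgLib.KnownB.WordClassical CfsgLib.Presentations
open scoped commutatorElement

namespace CfsgLib.SLPres

variable {F : Type*} [Field F]

theorem swHom_scHom (z : SL F) :
    swHom (scHom (neg_ne_zero.2 (one_ne_zero (α := F))) z) = scHom (neg_ne_zero.2 (one_ne_zero (α := F))) (swHom z) := by
  apply ext2 <;> simp [swHom_val, scHom_val]

theorem scHom_scHom (z : SL F) :
    scHom (neg_ne_zero.2 (one_ne_zero (α := F))) (scHom (neg_ne_zero.2 (one_ne_zero (α := F))) z) = z := by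
  apply ext2 <;> simp [scHom_val]

theorem jSL_conj (z : SL F) :
    (jSL : SL F)⁻¹ * z * jSL = swHom (scHom (neg_ne_zero.2 (one_ne_zero (α := F))) z) := by
  rw [mul_assoc, inv_mul_eq_iff_eq_mul]
  apply ext2 <;> simp [mul_apply2, jSL_coe, swHom_val, scHom_val]

theorem scHom_neg_up (t : F) : scHom (neg_ne_zero.2 (one_ne_zero (α := F))) (up t) = up (-t) := by
  apply ext2 <;> simp [scHom_val, up_val]

theorem scHom_neg_low (t : F) : scHom (neg_ne_zero.2 (one_ne_zero (α := F))) (low t) = low (-t) := by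
  apply ext2 <;> simp [scHom_val, low_val]

theorem scHom_neg_dSL {w : F} (hw : w ≠ 0) : scHom (neg_ne_zero.2 (one_ne_zero (α := F))) (dSL hw) = dSL hw := by
  apply ext2 <;> simp [scHom_val, dSL_coe]

/-- What the relations give. -/
structure ThreeSys {w : F} (hw : w ≠ 0) {P : Type*} [Group P] (C : P) (ℓ : SL F →* P) : Prop where
  cube : C ^ 3 = 1
  invol : C * (ℓ jSL)⁻¹ * (C * (ℓ jSL)⁻¹) = 1
  comm : Commute (lam3 C ℓ 0 1 (dSL hw)) (lam3 C ℓ 0 2 (dSL hw))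
  scale : lam3 C ℓ 0 1 (dSL hw) * lam3 C ℓ 0 2 (up 1) * (lam3 C ℓ 0 1 (dSL hw))⁻¹ = lam3 C ℓ 0 2 (up w)
  col : lam3 C ℓ 0 2 (dSL hw) * lam3 C ℓ 1 2 (up 1) * (lam3 C ℓ 0 2 (dSL hw))⁻¹ = lam3 C ℓ 1 2 (up w)
  mix : ⁅lam3 C ℓ 0 1 (up 1), lam3 C ℓ 1 2 (up 1)⁆ = lam3 C ℓ 0 2 (up 1)

variable {w : F} {hw : w ≠ 0} {P : Type*} [Group P] {C : P} {ℓ : SL F →* P} (S : ThreeSys hw C ℓ)
include S

theorem three_shift (i j : Fin 3) (z : SL F) :
    C * lam3 C ℓ i j z * C⁻¹ = lam3 C ℓ (i + 1) (j + 1) z := by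
  have e : ∀ x : P, C * (C * (C * x * C⁻¹) * C⁻¹) * C⁻¹ = x := fun x => by
    calc C * (C * (C * x * C⁻¹) * C⁻¹) * C⁻¹ = C ^ 3 * x * (C ^ 3)⁻¹ := by simp [pow_succ, mul_assoc]
      _ = x := by rw [S.cube]; simp
  have e2 : ∀ x : P, C * (C ^ 2 * x * (C ^ 2)⁻¹) * C⁻¹ = x := fun x => by
    calc C * (C ^ 2 * x * (C ^ 2)⁻¹) * C⁻¹ = C ^ 3 * x * (C ^ 3)⁻¹ := by simp [pow_succ, mul_assoc]
      _ = x := by rw [S.cube]; simp
  fin_cases i <;> fin_cases j <;>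
    simp [lam3, e2, pow_two, mul_assoc] <;>
    first
    | rfl
    | (simpa [pow_two, mul_assoc] using e2 _)
    | group

theorem three_shift_tri {i j k : Fin 3} (T : Tri hw (lam3 C ℓ) i j k) :
    Tri hw (lam3 C ℓ) (i + 1) (j + 1) (k + 1) := by
  have h := fun a b z => (MulAut.conj_apply C (lam3 C ℓ a b z)).trans (three_shift S a b z)
  exact
    { comm := by rw [← h, ← h]; exact T.comm.map (MulAut.conj C)
      scale := by rw [← h, ← h, ← h, ← map_inv, ← map_mul, ← map_mul, T.scale]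
      mix := by rw [← h, ← h, ← h, ← map_commutatorElement, T.mix] }

theorem three_base_tri : Tri hw (lam3 C ℓ) 0 1 2 := ⟨S.comm, S.scale, S.mix⟩

omit S in
theorem lam3_zero_one (z : SL F) : lam3 C ℓ 0 1 z = ℓ z := by simp [lam3]

variable [Fintype F] (hgen : ∀ x : F, x ≠ 0 → ∃ e : ℕ, w ^ e = x)
include hgen

/-- The square of the Weyl element changes signs on the third root pair. -/
theorem three_sign (z : SL F) :
    (ℓ jSL * ℓ jSL) * lam3 C ℓ 2 0 z * (ℓ jSL * ℓ jSL)⁻¹ =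
      lam3 C ℓ 2 0 (scHom (neg_ne_zero.2 (one_ne_zero (α := F))) z) := by
  obtain ⟨e, he⟩ := hgen (-1) (neg_ne_zero.2 one_ne_zero)
  have hjj : (jSL : SL F) * jSL = dSL hw ^ e := by
    rw [dSL_pow_eq]
    apply ext2 <;> simp [mul_apply2, jSL_coe, dg_val, he]
  rw [← map_mul, hjj, map_pow, ← lam3_zero_one (C := C) (ℓ := ℓ) (dSL hw)]
  set h := lam3 C ℓ 0 1 (dSL hw)
  have hsw : ∀ i j, i ≠ j → ∀ z, lam3 C ℓ j i z = lam3 C ℓ i j (swHom z) := fun i j a z => lam3_swap _ _ a z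
  -- on the upper element of the pair (0, 2)
  have h1 : ∀ t, h * rootY (lam3 C ℓ) 0 2 t * h⁻¹ = rootY (lam3 C ℓ) 0 2 (w * t) :=
    scale_tri hw hgen (three_base_tri S)
  -- on the upper element of the pair (2, 0)
  have hcol : lam3 C ℓ 1 0 (dSL hw) * lam3 C ℓ 2 0 (up 1) * (lam3 C ℓ 1 0 (dSL hw))⁻¹ = lam3 C ℓ 2 0 (up w) := by
    have e0 := congrArg (fun x => C * x * C⁻¹) S.col
    have e' : ∀ x y : P, C * (x * y * x⁻¹) * C⁻¹ = (C * x * C⁻¹) * (C * y * C⁻¹) * (C * x * C⁻¹)⁻¹ := fun x y => by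
      group
    simp only [e', three_shift S] at e0
    exact e0
  have h2 : ∀ t, h⁻¹ * rootY (lam3 C ℓ) 2 0 t * h = rootY (lam3 C ℓ) 2 0 (w * t) := by
    have e10 : lam3 C ℓ 1 0 (dSL hw) = h⁻¹ := rev_dSL hw hsw (by decide : (0 : Fin 3) ≠ 1)
    have hc : Commute h⁻¹ (lam3 C ℓ 2 0 (dSL hw)) := by
      rw [rev_dSL hw hsw (by decide : (0 : Fin 3) ≠ 2)]
      exact S.comm.inv_inv
    rw [e10] at hcol
    intro t
    have := scale_all hgen ((lam3 C ℓ 2 0).comp upHom) hc (fun t => conj_self hw 2 0 t) hcol t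
    rwa [inv_inv] at this
  have p1 : ∀ k t, h ^ k * rootY (lam3 C ℓ) 0 2 t * (h ^ k)⁻¹ = rootY (lam3 C ℓ) 0 2 (w ^ k * t) := by
    intro k t
    induction k with
    | zero => simp
    | succ k ih =>
      rw [show w ^ (k + 1) * t = w * (w ^ k * t) by ring, ← h1, ← ih, pow_succ']
      group
  have p2 : ∀ k t, h ^ k * rootY (lam3 C ℓ) 2 0 (w ^ k * t) * (h ^ k)⁻¹ = rootY (lam3 C ℓ) 2 0 t := by
    intro k t
    induction k with
    | zero => simp
    | succ k ih =>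
      rw [show w ^ (k + 1) * t = w * (w ^ k * t) by ring, ← h2, pow_succ]
      conv_rhs => rw [← ih]
      group
  refine (DFunLike.congr_fun (sl2_hom_ext (f := (MulAut.conj (h ^ e)).toMonoidHom.comp (lam3 C ℓ 2 0))
    (f' := (lam3 C ℓ 2 0).comp (scHom (neg_ne_zero.2 (one_ne_zero (α := F))))) (fun x => ?_) fun x => ?_) z :)
  · show h ^ e * rootY (lam3 C ℓ) 2 0 x * (h ^ e)⁻¹ = lam3 C ℓ 2 0 _
    rw [scHom_neg_up, show x = w ^ e * (-x) by rw [he]; ring, p2, he]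
    simp [rootY]
  · show h ^ e * lam3 C ℓ 2 0 (low x) * (h ^ e)⁻¹ = lam3 C ℓ 2 0 _
    rw [scHom_neg_low, hsw 0 2 (by decide), hsw 0 2 (by decide), ← swHom_up, ← swHom_up, swHom_swHom, swHom_swHom]
    show h ^ e * rootY (lam3 C ℓ) 0 2 x * (h ^ e)⁻¹ = rootY (lam3 C ℓ) 0 2 (-x)
    rw [p1, he, neg_one_mul]

/-- The involution `m` carries the pairs to the reversed triple. -/
theorem three_reverse :
    ∀ z, C * (ℓ jSL)⁻¹ * lam3 C ℓ 0 1 z * (C * (ℓ jSL)⁻¹)⁻¹ =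
        lam3 C ℓ 2 1 (scHom (neg_ne_zero.2 (one_ne_zero (α := F))) z) ∧
      C * (ℓ jSL)⁻¹ * lam3 C ℓ 1 2 z * (C * (ℓ jSL)⁻¹)⁻¹ =
        lam3 C ℓ 1 0 (scHom (neg_ne_zero.2 (one_ne_zero (α := F))) z) ∧
      C * (ℓ jSL)⁻¹ * lam3 C ℓ 0 2 z * (C * (ℓ jSL)⁻¹)⁻¹ = lam3 C ℓ 2 0 z := by
  set n : P := (ℓ jSL)⁻¹ with hn
  set m := C * n with hm
  set ν := scHom (neg_ne_zero.2 (one_ne_zero (α := F)))
  have hsw : ∀ i j, i ≠ j → ∀ z, lam3 C ℓ j i z = lam3 C ℓ i j (swHom z) := fun i j a z => lam3_swap _ _ a z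
  have hmm : m * m = 1 := S.invol
  have hmi : m⁻¹ = m := inv_eq_of_mul_eq_one_right hmm
  have hA : ∀ z, m * lam3 C ℓ 0 1 z * m⁻¹ = lam3 C ℓ 2 1 (ν z) := fun z => by
    rw [lam3_zero_one, show lam3 C ℓ 2 1 (ν z) = C * lam3 C ℓ 0 1 (swHom (ν z)) * C⁻¹ by
      rw [three_shift S, hsw 1 2 (by decide)]
      rfl]
    rw [lam3_zero_one, ← jSL_conj, map_mul, map_mul, map_inv, hm, hn]
    group
  have hB : ∀ z, m * lam3 C ℓ 1 2 z * m⁻¹ = lam3 C ℓ 1 0 (ν z) := fun z => by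
    have e := congrArg (fun x => m * x * m⁻¹) (hA (ν (swHom z)))
    rw [scHom_scHom] at e
    have e' : ∀ x, m * (m * x * m⁻¹) * m⁻¹ = x := fun x => by
      calc m * (m * x * m⁻¹) * m⁻¹ = (m * m) * x * (m * m)⁻¹ := by group
        _ = x := by rw [hmm]; simp
    simp only [e'] at e
    rw [← hsw 2 1 (by decide), ← swHom_scHom, ← hsw 0 1 (by decide)] at e
    exact e.symm
  refine fun z => ⟨hA z, hB z, ?_⟩
  -- the pair (0, 2)
  have hC3 : C * C * C = 1 := by have := S.cube; rwa [pow_succ, pow_two] at this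
  have hcm : m * C * m⁻¹ = (n * n)⁻¹ * C⁻¹ := by
    have e1 : C * n * (C * n) = 1 := S.invol
    have e2 : n * C * n = C⁻¹ := eq_inv_of_mul_eq_one_right (by rw [← e1]; group)
    calc m * C * m⁻¹ = C * (n * C * n) * (n * n)⁻¹ * (n * C * n) * (n * C * n)⁻¹ * n * n * (n * n)⁻¹ * C⁻¹ := by
          rw [hm]; group
      _ = _ := by rw [e2]; group
  have hN : ∀ z, ℓ z * (n * n) = (n * n) * ℓ z := fun z => by
    rw [hn, ← _root_.mul_inv_rev, ← map_mul, ← map_inv, ← map_mul, ← map_mul]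
    congr 1
    apply ext2 <;> simp [mul_apply2, jSL_coe, Matrix.adjugate_fin_two]
  have key : lam3 C ℓ 0 2 z = C * (C * lam3 C ℓ 0 1 (swHom z) * C⁻¹) * C⁻¹ := by
    rw [three_shift S, three_shift S, hsw 2 0 (by decide)]
    rfl
  rw [key, show m * (C * (C * lam3 C ℓ 0 1 (swHom z) * C⁻¹) * C⁻¹) * m⁻¹ =
    (m * C * m⁻¹) * ((m * C * m⁻¹) * (m * lam3 C ℓ 0 1 (swHom z) * m⁻¹) * (m * C * m⁻¹)⁻¹) * (m * C * m⁻¹)⁻¹ by
      group, hcm, hA, ← swHom_scHom, ← hsw 2 1 (by decide)]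
  have s1 : lam3 C ℓ 1 2 (ν z) = C * lam3 C ℓ 0 1 (ν z) * C⁻¹ := (three_shift S 0 1 _).symm
  have s2 : lam3 C ℓ 2 0 (ν z) = C⁻¹ * lam3 C ℓ 0 1 (ν z) * C := by
    rw [show lam3 C ℓ 2 0 (ν z) = C * lam3 C ℓ 1 2 (ν z) * C⁻¹ by rw [three_shift S]; rfl, s1]
    have hi : C⁻¹ = C * C := inv_eq_of_mul_eq_one_right (by rw [← mul_assoc, hC3])
    have hi2 : C⁻¹ * C⁻¹ = C := by
      calc C⁻¹ * C⁻¹ = C⁻¹ * C⁻¹ * (C * C * C) := by rw [hC3, mul_one]
        _ = C := by group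
    calc C * (C * lam3 C ℓ 0 1 (ν z) * C⁻¹) * C⁻¹ = (C * C) * lam3 C ℓ 0 1 (ν z) * (C⁻¹ * C⁻¹) := by group
      _ = _ := by rw [← hi, hi2]
  rw [s1, lam3_zero_one,
    show (n * n)⁻¹ * C⁻¹ * ((n * n)⁻¹ * C⁻¹ * (C * ℓ (ν z) * C⁻¹) * ((n * n)⁻¹ * C⁻¹)⁻¹) * ((n * n)⁻¹ * C⁻¹)⁻¹ =
      (n * n)⁻¹ * (C⁻¹ * ((n * n)⁻¹ * (ℓ (ν z) * (n * n))) * C) * (n * n) by simp [mul_assoc],
    hN, inv_mul_cancel_left, ← lam3_zero_one (C := C) (ℓ := ℓ) (ν z), ← s2,
    show (n * n)⁻¹ = ℓ jSL * ℓ jSL by rw [hn]; simp,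
    show n * n = (ℓ jSL * ℓ jSL)⁻¹ by rw [hn]; simp, three_sign S hgen, scHom_scHom]

omit S hgen in
/-- All that is asked of one triple. -/
def Trip (hw : w ≠ 0) (M : Fin 3 → Fin 3 → SL F →* P) (i j k : Fin 3) : Prop :=
  Tri hw M i j k ∧ M i k (dSL hw) * M j k (up 1) * (M i k (dSL hw))⁻¹ = M j k (up w) ∧
    Commute (M i j (up 1)) (M i k (up 1))

omit [Fintype F] hgen in
theorem trip_shift {i j k : Fin 3} (T : Trip hw (lam3 C ℓ) i j k) :
    Trip hw (lam3 C ℓ) (i + 1) (j + 1) (k + 1) := by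
  have h := fun a b z => (MulAut.conj_apply C (lam3 C ℓ a b z)).trans (three_shift S a b z)
  refine ⟨three_shift_tri S T.1, ?_, ?_⟩
  · rw [← h, ← h, ← h, ← map_inv, ← map_mul, ← map_mul, T.2.1]
  · rw [← h, ← h]; exact T.2.2.map (MulAut.conj C)

theorem trip_all (hrow : Commute (lam3 C ℓ 0 1 (up 1)) (lam3 C ℓ 0 2 (up 1))) :
    ∀ i j k : Fin 3, i ≠ j → j ≠ k → i ≠ k → Trip hw (lam3 C ℓ) i j k := by
  have hsw : ∀ i j, i ≠ j → ∀ z, lam3 C ℓ j i z = lam3 C ℓ i j (swHom z) := fun i j a z => lam3_swap _ _ a z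
  set M := lam3 C ℓ with hM
  set m := C * (ℓ jSL)⁻¹
  have t0 : Trip hw M 0 1 2 := ⟨three_base_tri S, S.col, hrow⟩
  have t1 : Trip hw M 1 2 0 := trip_shift S t0
  have t2 : Trip hw M 2 0 1 := trip_shift S t1
  have rA := fun z => (MulAut.conj_apply m (M 0 1 z)).trans ((three_reverse S hgen z).1)
  have rB := fun z => (MulAut.conj_apply m (M 1 2 z)).trans ((three_reverse S hgen z).2.1)
  have rC := fun z => (MulAut.conj_apply m (M 0 2 z)).trans ((three_reverse S hgen z).2.2)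
  have hinv : ∀ (i j : Fin 3) (x : F), M i j (up (-x)) = (M i j (up x))⁻¹ := fun i j x => by
    rw [← map_inv, up_inv]
  have hC : Commute (M 2 1 (dSL hw)) (M 2 0 (dSL hw)) := by
    have := t0.1.comm.map (MulAut.conj m)
    rwa [rA, rC, scHom_neg_dSL] at this
  have hT : M 2 1 (dSL hw) * M 2 0 (up 1) * (M 2 1 (dSL hw))⁻¹ = M 2 0 (up w) := by
    have := congrArg (MulAut.conj m) t0.1.scale
    rwa [map_mul, map_mul, map_inv, rA, rC, rC, scHom_neg_dSL] at this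
  have hcol : M 2 0 (dSL hw) * M 1 0 (up 1) * (M 2 0 (dSL hw))⁻¹ = M 1 0 (up w) := by
    have := congrArg (MulAut.conj m) t0.2.1
    rw [map_mul, map_mul, map_inv, rB, rB, rC, scHom_neg_up, scHom_neg_up, hinv, hinv] at this
    have := congrArg (·⁻¹) this
    simpa [mul_assoc] using this
  have hR : Commute (M 2 1 (up 1)) (M 2 0 (up 1)) := by
    have := t0.2.2.map (MulAut.conj m)
    rw [rA, rC, scHom_neg_up, hinv] at this
    simpa using this.inv_left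
  have hMix : ⁅M 2 1 (up 1), M 1 0 (up 1)⁆ = M 2 0 (up 1) := by
    have h0 : ⁅M 2 1 (up (-1)), M 1 0 (up (-1))⁆ = M 2 0 (up 1) := by
      have := congrArg (MulAut.conj m) t0.1.mix
      rwa [map_commutatorElement, rA, rB, rC, scHom_neg_up] at this
    obtain ⟨e, he⟩ := hgen (-1) (neg_ne_zero.2 one_ne_zero)
    set f := M 2 0 (dSL hw)
    have f1 : ∀ t, f * rootY M 2 1 t * f⁻¹ = rootY M 2 1 (w * t) := scale_tri hw hgen t2.1
    have f2 : ∀ t, f * rootY M 1 0 t * f⁻¹ = rootY M 1 0 (w * t) := by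
      refine fun t => scale_all hgen ((M 1 0).comp upHom) (h := M 1 0 (dSL hw)) ?_ (fun t => conj_self hw 1 0 t) hcol t
      have c := t0.1.comm
      rw [rev_dSL hw hsw (by decide : (1 : Fin 3) ≠ 0), rev_dSL hw hsw (by decide : (2 : Fin 3) ≠ 0)] at c
      simpa using c.inv_inv.symm
    have it : ∀ (a b : Fin 3) (c : F), (∀ t, f * rootY M a b t * f⁻¹ = rootY M a b (c * t)) → ∀ k t,
        MulAut.conj (f ^ k) (rootY M a b t) = rootY M a b (c ^ k * t) := by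
      intro a b c h k t
      rw [MulAut.conj_apply]
      induction k with
      | zero => simp
      | succ k ih =>
        rw [show c ^ (k + 1) * t = c * (c ^ k * t) by ring, ← h, ← ih, pow_succ']
        group
    have h1 := congrArg (MulAut.conj (f ^ e)) h0
    rw [map_commutatorElement] at h1
    change ⁅MulAut.conj (f ^ e) (rootY M 2 1 (-1)), MulAut.conj (f ^ e) (rootY M 1 0 (-1))⁆ =
      MulAut.conj (f ^ e) (rootY M 2 0 1) at h1
    rw [it 2 1 w f1, it 1 0 w f2, it 2 0 (w ^ 2) (conj_self hw 2 0), he, ← pow_mul, mul_comm 2, pow_mul, he,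
      neg_one_sq, neg_one_mul, neg_neg, one_mul] at h1
    exact h1
  have t3 : Trip hw M 2 1 0 := ⟨⟨hC, hT, hMix⟩, hcol, hR⟩
  have t4 : Trip hw M 0 2 1 := trip_shift S t3
  have t5 : Trip hw M 1 0 2 := trip_shift S t4
  intro i j k hij hjk hik
  fin_cases i <;> fin_cases j <;> fin_cases k <;> first | assumption | contradiction | simp_all

end CfsgLib.SLPres
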